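import Cfsg.Agent.Lib.SL2Dickson.Count
import Mathlib.FieldTheory.IsAlgClosed.AlgebraicClosure
import Mathlib.Algebra.CharP.Algebra
import Mathlib.GroupTheory.Sylow
import Mathlib.Algebra.Field.ZMod

/-!
# Dickson's lemma: a finite subgroup of SL(2) with two non-commuting transvections contains SL(2, p)
-/

set_option autoImplicit false
set_option linter.style.haveILetI false
set_option linter.unusedSectionVars false
set_option linter.unusedVariables false

namespace Cfsg.Agent.SL2Dickson

open Matrix MulAction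
open scoped MatrixGroups

variable {F : Type*} [Field F]

/-- A transvection or the identity. -/
def IsUnip (h : SL(2, F)) : Prop := (h.1 - 1) * (h.1 - 1) = 0

theorem IsUnip.tr_eq {h : SL(2, F)} (hu : IsUnip h) : tr h = 2 := by
  have hdet : (h.1 - 1).det = 0 := by
    have h1 : ((h.1 - 1) * (h.1 - 1)).det = 0 := by rw [hu]; exact det_zero
    rw [det_mul] at h1
    exact mul_self_eq_zero.mp h1
  rw [det_fin_two] at hdet
  simp only [Matrix.sub_apply, Matrix.one_apply_eq, Matrix.one_apply_ne (show (0 : Fin 2) ≠ 1 by decide),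
    Matrix.one_apply_ne (show (1 : Fin 2) ≠ 0 by decide), sub_zero] at hdet
  have := det_eq h
  simp only [tr]
  linear_combination this - hdet

theorem IsUnip.inv {h : SL(2, F)} (hu : IsUnip h) : IsUnip h⁻¹ := by
  have e : (h⁻¹).1 - 1 = -((h⁻¹).1 * (h.1 - 1)) := by
    rw [Matrix.mul_sub, Matrix.mul_one, ← Matrix.SpecialLinearGroup.coe_mul, inv_mul_cancel,
      Matrix.SpecialLinearGroup.coe_one, neg_sub]
  have hc : (h⁻¹).1 * (h.1 - 1) = (h.1 - 1) * (h⁻¹).1 := by
    rw [Matrix.mul_sub, Matrix.sub_mul, Matrix.mul_one, Matrix.one_mul,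
      ← Matrix.SpecialLinearGroup.coe_mul, ← Matrix.SpecialLinearGroup.coe_mul, inv_mul_cancel,
      mul_inv_cancel]
  unfold IsUnip
  rw [e, neg_mul_neg, mul_assoc, ← mul_assoc (h.1 - 1), ← hc, mul_assoc ((h⁻¹).1) (h.1 - 1), hu,
    mul_zero, mul_zero]

theorem IsUnip.conj {h : SL(2, F)} (hu : IsUnip h) (g : SL(2, F)) : IsUnip (g * h * g⁻¹) := by
  have e : (g * h * g⁻¹).1 - 1 = g.1 * (h.1 - 1) * (g⁻¹).1 := by
    rw [Matrix.mul_sub, Matrix.sub_mul, Matrix.mul_one, ← Matrix.SpecialLinearGroup.coe_mul,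
      ← Matrix.SpecialLinearGroup.coe_mul, ← Matrix.SpecialLinearGroup.coe_mul, mul_inv_cancel,
      Matrix.SpecialLinearGroup.coe_one]
  have hg : (g⁻¹).1 * g.1 = 1 := by
    rw [← Matrix.SpecialLinearGroup.coe_mul, inv_mul_cancel, Matrix.SpecialLinearGroup.coe_one]
  unfold IsUnip
  rw [e, show g.1 * (h.1 - 1) * (g⁻¹).1 * (g.1 * (h.1 - 1) * (g⁻¹).1) =
    g.1 * ((h.1 - 1) * ((g⁻¹).1 * g.1) * (h.1 - 1)) * (g⁻¹).1 by simp only [mul_assoc], hg,
    mul_one, hu, mul_zero, zero_mul]

theorem isUnip_upper (t : F) : IsUnip (upper t) := by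
  unfold IsUnip
  ext i j; fin_cases i <;> fin_cases j <;> simp [Matrix.mul_apply, Fin.sum_univ_two]

theorem isUnip_lower (t : F) : IsUnip (lower t) := by
  unfold IsUnip
  ext i j; fin_cases i <;> fin_cases j <;> simp [Matrix.mul_apply, Fin.sum_univ_two]

theorem tr_upper_lower (s t : F) : tr (upper s * lower t) = 2 + s * t := by
  simp [tr, Matrix.mul_apply, Fin.sum_univ_two]; ring

theorem lower_inv (t : F) : (lower t)⁻¹ = lower (-t) := by
  refine inv_eq_of_mul_eq_one_right ?_
  ext i j; fin_cases i <;> fin_cases j <;> simp [Matrix.mul_apply, Fin.sum_univ_two]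

theorem upper_pow (t : F) (n : ℕ) : upper t ^ n = upper (n * t) := by
  induction n with
  | zero => simp [upper_zero]
  | succ n ih => rw [pow_succ, ih, ← upper_add]; push_cast; ring_nf

theorem lower_pow (t : F) (n : ℕ) : lower t ^ n = lower (n * t) := by
  induction n with
  | zero => ext i j; fin_cases i <;> fin_cases j <;> simp
  | succ n ih =>
    rw [pow_succ, ih]
    ext i j; fin_cases i <;> fin_cases j <;> simp [Matrix.mul_apply, Fin.sum_univ_two]; ring

/-- Two transvections with different axes are simultaneously upper and lower unitriangular. -/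
theorem exists_conj_normal_form [IsAlgClosed F] (h2 : (2 : F) ≠ 0) {a b : SL(2, F)} (ha : IsUnip a)
    (hb : IsUnip b) (hab : tr (a * b) ≠ 2) :
    ∃ (g : SL(2, F)) (s r : F), s ≠ 0 ∧ r ≠ 0 ∧ g * a * g⁻¹ = upper s ∧ g * b * g⁻¹ = lower r := by
  obtain ⟨x, hx⟩ := exists_fixed a
  obtain ⟨y, hy⟩ := exists_fixed b
  have tri : ∀ c : SL(2, F), IsUnip c → c.1 1 0 = 0 → c = upper (c.1 0 1) := by
    intro c hc h0
    have h4 : tr c ^ 2 = 4 := by rw [hc.tr_eq]; norm_num
    obtain ⟨he, -⟩ := diag_eq_of_tr_sq h0 h4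
    have h1 : c.1 0 0 = 1 := by
      have := hc.tr_eq
      rw [tr, ← he, ← two_mul] at this
      exact mul_left_cancel₀ h2 (by rw [this, mul_one])
    ext i j; fin_cases i <;> fin_cases j <;> simp [h0, h1, ← he]
  have hxy : x ≠ y := by
    rintro rfl
    obtain ⟨g, hg⟩ := exists_smul_inf₀ x
    have hfix : ∀ c : SL(2, F), c • x = x → (g * c * g⁻¹).1 1 0 = 0 := fun c hc =>
      (smul_inf₀_eq_iff _).mp (by rw [← hg, mul_smul, inv_smul_smul, mul_smul, hc])
    apply hab
    rw [← tr_conj g, show g * (a * b) * g⁻¹ = (g * a * g⁻¹) * (g * b * g⁻¹) by simp [mul_assoc],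
      tri _ (ha.conj g) (hfix a hx), tri _ (hb.conj g) (hfix b hy), ← upper_add]
    simp [tr]; ring
  obtain ⟨g, hgx, hgy⟩ := exists_smul_pair hxy
  have hA : (g * a * g⁻¹) • (inf₀ : Pt F) = inf₀ := by
    rw [← hgx, mul_smul, inv_smul_smul, mul_smul, hx]
  have hB : (g * b * g⁻¹) • (aff (0 : F) : Pt F) = aff 0 := by
    rw [← hgy, mul_smul, inv_smul_smul, mul_smul, hy]
  have hA' := tri _ (ha.conj g) ((smul_inf₀_eq_iff _).mp hA)
  have hB' : g * b * g⁻¹ = lower ((g * b * g⁻¹).1 1 0) := by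
    generalize hc : g * b * g⁻¹ = c at hB
    have hcu : IsUnip c := hc ▸ hb.conj g
    have h01 : c.1 0 1 = 0 := by
      have hv : c.1 *ᵥ ![(0 : F), 1] ≠ 0 := fun e0 => by
        have e1 : c.1 0 1 = 0 := by simpa [mulVec, vecHead, vecTail] using congrFun e0 0
        have e2 : c.1 1 1 = 0 := by simpa [mulVec, vecHead, vecTail] using congrFun e0 1
        simpa [e1, e2] using det_eq c
      rw [aff, smul_mk_eq _ _ hv, Projectivization.mk_eq_mk_iff'] at hB
      obtain ⟨k, hk⟩ := hB
      simpa [mulVec, vecHead, vecTail] using (congrFun hk 0).symm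
    have hd := det_eq c
    rw [h01, zero_mul, sub_zero] at hd
    have ht := hcu.tr_eq
    have h00 : c.1 0 0 = 1 := by
      have : (c.1 0 0 - 1) ^ 2 = 0 := by
        simp only [tr] at ht
        linear_combination (c.1 0 0) * ht - hd
      exact sub_eq_zero.mp (pow_eq_zero_iff two_ne_zero |>.mp this)
    rw [h00, one_mul] at hd
    ext i j; fin_cases i <;> fin_cases j <;> simp [h00, h01, hd]
  refine ⟨g, _, _, ?_, ?_, hA', hB'⟩
  · intro h0
    apply hab
    rw [← tr_conj g, show g * (a * b) * g⁻¹ = (g * a * g⁻¹) * (g * b * g⁻¹) by simp [mul_assoc],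
      hA', hB', tr_upper_lower, h0]
    ring
  · intro h0
    apply hab
    rw [← tr_conj g, show g * (a * b) * g⁻¹ = (g * a * g⁻¹) * (g * b * g⁻¹) by simp [mul_assoc],
      hA', hB', tr_upper_lower, h0]
    ring

set_option maxHeartbeats 1000000 in
/-- **Dickson's lemma**: a finite subgroup of `SL(2)` in odd characteristic containing two
transvections with different axes contains two whose product has trace `3`. -/
theorem exists_pair_trace_three {p : ℕ} [hp : Fact p.Prime] [CharP F p] (hp2 : p ≠ 2)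
    {H : Subgroup SL(2, F)} [Finite H] {a b : SL(2, F)} (ha : a ∈ H) (hb : b ∈ H) (hau : IsUnip a)
    (hbu : IsUnip b) (hab : tr (a * b) ≠ 2) :
    ∃ a' b' : SL(2, F), a' ∈ H ∧ b' ∈ H ∧ IsUnip a' ∧ IsUnip b' ∧ tr (a' * b') = 3 := by
  let L := AlgebraicClosure F
  let f : SL(2, F) →* SL(2, L) := Matrix.SpecialLinearGroup.map (algebraMap F L)
  have hfinj : Function.Injective (algebraMap F L) := (algebraMap F L).injective
  haveI : CharP L p := charP_of_injective_algebraMap hfinj p
  have h2 : (2 : L) ≠ 0 := fun e => hp2 (by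
    have h : ((2 : ℕ) : L) = 0 := by simpa using e
    rw [CharP.cast_eq_zero_iff L p] at h
    exact (Nat.prime_dvd_prime_iff_eq hp.out Nat.prime_two).mp h)
  have hfu : ∀ h : SL(2, F), IsUnip (f h) ↔ IsUnip h := by
    intro h
    have e : (f h).1 - 1 = (algebraMap F L).mapMatrix (h.1 - 1) := by
      rw [map_sub, map_one]; rfl
    unfold IsUnip
    rw [e, ← map_mul]
    constructor
    · intro h1
      exact (Matrix.map_injective hfinj) (by simpa using h1)
    · intro h1; rw [h1, map_zero]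
  have hftr : ∀ h : SL(2, F), tr (f h) = algebraMap F L (tr h) := fun h => by simp [tr, f]
  obtain ⟨g, s, r, hs, hr, hga, hgb⟩ := exists_conj_normal_form h2 ((hfu a).mpr hau) ((hfu b).mpr hbu)
    (by
      rw [← map_mul, hftr, show (2 : L) = algebraMap F L 2 by simp [map_ofNat]]
      exact fun e => hab (hfinj e))
  -- the conjugated group with the scalar `-1`
  set H₁ : Subgroup SL(2, L) := H.map ((MulAut.conj g).toMonoidHom.comp f)
  have hneg2 : (-1 : SL(2, L)) * -1 = 1 := by simp
  let H₂ : Subgroup SL(2, L) :=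
    { carrier := {h | h ∈ H₁ ∨ -h ∈ H₁}
      one_mem' := Or.inl H₁.one_mem
      mul_mem' := by
        rintro x y (hx | hx) (hy | hy)
        · exact Or.inl (H₁.mul_mem hx hy)
        · exact Or.inr (by simpa using H₁.mul_mem hx hy)
        · exact Or.inr (by simpa using H₁.mul_mem hx hy)
        · exact Or.inl (by simpa using H₁.mul_mem hx hy)
      inv_mem' := by
        rintro x (hx | hx)
        · exact Or.inl (H₁.inv_mem hx)
        · refine Or.inr ?_
          have e : -x⁻¹ = (-x)⁻¹ := by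
            rw [eq_inv_iff_mul_eq_one, neg_mul_neg, inv_mul_cancel]
          rw [e]; exact H₁.inv_mem hx }
  haveI : Finite H₁ := (((Set.toFinite (H : Set SL(2, F))).image
    ((MulAut.conj g).toMonoidHom.comp f))).to_subtype
  haveI : Finite H₂ := by
    refine Set.Finite.to_subtype (Set.Finite.subset ((Set.toFinite (H₁ : Set SL(2, L))).union
      ((Set.toFinite (H₁ : Set SL(2, L))).image Neg.neg)) ?_)
    rintro x (hx | hx)
    · exact Or.inl hx
    · exact Or.inr ⟨-x, hx, neg_neg x⟩
  have hA : upper s ∈ H₁ := ⟨a, ha, hga⟩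
  have hB : lower r ∈ H₁ := ⟨b, hb, hgb⟩
  -- transvections of the bigger group lie in the smaller one
  have hback : ∀ t : L, upper t ∈ H₂ → upper t ∈ H₁ := by
    rintro t (ht | ht)
    · exact ht
    obtain ⟨j, hj⟩ : Odd p := hp.out.odd_of_ne_two hp2
    have h1 := H₁.pow_mem (H₁.mul_mem ht ht) (j + 1)
    rw [neg_mul_neg, ← sq, ← pow_mul, upper_pow,
      show 2 * (j + 1) = p + 1 by omega, Nat.cast_add, CharP.cast_eq_zero, Nat.cast_one, zero_add,
      one_mul] at h1
    exact h1
  have fin : ∀ x y : SL(2, L), x ∈ H₁ → y ∈ H₁ → IsUnip x → IsUnip y → tr (x * y) = 3 →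
      ∃ a' b' : SL(2, F), a' ∈ H ∧ b' ∈ H ∧ IsUnip a' ∧ IsUnip b' ∧ tr (a' * b') = 3 := by
    rintro _ _ ⟨a', ha', rfl⟩ ⟨b', hb', rfl⟩ hxu hyu htr
    have hun : ∀ c : SL(2, F), IsUnip (((MulAut.conj g).toMonoidHom.comp f) c) → IsUnip c := by
      intro c hc
      rw [← hfu]
      have := hc.conj g⁻¹
      simpa [mul_assoc] using this
    refine ⟨a', b', ha', hb', hun a' hxu, hun b' hyu, hfinj ?_⟩
    rw [← hftr, map_mul, ← tr_conj g, show (algebraMap F L) 3 = (3 : L) by simp [map_ofNat], ← htr]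
    simp [mul_assoc]
  rcases exists_pair_normalised (H := H₂) h2 (Or.inr (by simp [H₁.one_mem])) hs hr (Or.inl hA)
    (Or.inl hB) with ⟨t, ht, e⟩ | e | e | e
  · exact fin _ _ (hback t ht) hB (isUnip_upper t) (isUnip_lower r)
      (by rw [tr_upper_lower, e]; norm_num)
  · exact fin _ _ hA hB (isUnip_upper s) (isUnip_lower r) (by rw [tr_upper_lower, e]; norm_num)
  · refine fin _ _ hA (H₁.inv_mem hB) (isUnip_upper s) (isUnip_lower r).inv ?_
    rw [lower_inv, tr_upper_lower, mul_neg, e]; norm_num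
  · refine fin _ _ hA (H₁.mul_mem (H₁.mul_mem hB hA) (H₁.inv_mem hB)) (isUnip_upper s)
      ((isUnip_upper s).conj _) ?_
    rw [lower_inv]
    simp [tr, Matrix.mul_apply, Fin.sum_univ_two]
    linear_combination -e

/-- `SL(2, p)` is generated by the two elementary transvections. -/
theorem closure_upper_lower (p : ℕ) [Fact p.Prime] :
    Subgroup.closure ({upper (1 : ZMod p), lower (1 : ZMod p)} : Set (Matrix.SpecialLinearGroup (Fin 2) (ZMod p))) = ⊤ := by
  set C := Subgroup.closure ({upper (1 : ZMod p), lower (1 : ZMod p)} : Set (Matrix.SpecialLinearGroup (Fin 2) (ZMod p)))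
  have hu : ∀ t : ZMod p, upper t ∈ C := fun t => by
    have := C.pow_mem (Subgroup.subset_closure (Set.mem_insert (upper 1) _)) t.val
    rwa [upper_pow, mul_one, ZMod.natCast_zmod_val] at this
  have hl : ∀ t : ZMod p, lower t ∈ C := fun t => by
    have := C.pow_mem (Subgroup.subset_closure
      (Set.mem_insert_of_mem (upper 1) (Set.mem_singleton (lower 1)))) t.val
    rwa [lower_pow, mul_one, ZMod.natCast_zmod_val] at this
  have key : ∀ g : SL(2, ZMod p), g.1 1 0 ≠ 0 → g ∈ C := by
    intro g hg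
    have e : g = upper ((g.1 0 0 - 1) / g.1 1 0) * lower (g.1 1 0) *
        upper ((g.1 1 1 - 1) / g.1 1 0) := by
      have hd := det_eq g
      ext i j; fin_cases i <;> fin_cases j <;> simp [Matrix.mul_apply, Fin.sum_univ_two] <;>
        field_simp <;> ring_nf <;> first | done | linear_combination -hd
    rw [e]
    exact C.mul_mem (C.mul_mem (hu _) (hl _)) (hu _)
  rw [Subgroup.eq_top_iff']
  intro g
  by_cases hg : g.1 1 0 = 0
  · have h1 : (lower 1 * g).1 1 0 ≠ 0 := by
      have : g.1 0 0 ≠ 0 := fun e => by simpa [hg, e] using det_eq g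
      simpa [Matrix.mul_apply, Fin.sum_univ_two, hg] using this
    have := C.mul_mem (C.inv_mem (hl 1)) (key _ h1)
    rwa [inv_mul_cancel_left] at this
  · exact key g hg

end Cfsg.Agent.SL2Dickson
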