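import Cfsg.Agent.Lib.SL2Dickson.Involve
import Cfsg.Agent.Lib.ConjFunctor.AbelianByPStable
import Cfsg.Agent.Lib.Invol.BaerSuzuki
import Cfsg.Agent.Lib.Coprime23.PSolv

/-!
# Failure of p-stability involves Qd(p) and SL(2, p)
-/

set_option autoImplicit false
set_option linter.style.haveILetI false
set_option linter.unusedSectionVars false
set_option linter.unusedVariables false

namespace Cfsg.Agent.SL2Dickson

open Subgroup
open scoped MatrixGroups commutatorElement

universe u v w

/-- Involvement passes from a quotient of a subgroup to the group. -/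
theorem involves_trans {B : Type v} [Group B] {X : Type u} [Group X] {Y : Type w} [Group Y]
    {M : Subgroup X} (f : ↥M →* Y) (hf : Function.Surjective f) (h : Cfsg.Involves B Y) :
    Cfsg.Involves B X := by
  obtain ⟨K, R, hR, ⟨e⟩⟩ := h
  haveI := hR
  let g : ↥(K.comap f) →* B := (e.toMonoidHom.comp (QuotientGroup.mk' (R.subgroupOf K))).comp
    ((f.comp (K.comap f).subtype).codRestrict K fun x => x.2)
  refine involves_of_hom (M.subtype.comp (K.comap f).subtype)
    (M.subtype_injective.comp (K.comap f).subtype_injective) g ?_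
  intro b
  obtain ⟨k, hk⟩ := QuotientGroup.mk'_surjective (R.subgroupOf K) (e.symm b)
  obtain ⟨m, hm⟩ := hf k
  refine ⟨⟨m, by rw [mem_comap, hm]; exact k.2⟩, ?_⟩
  simp only [g, MonoidHom.comp_apply, MulEquiv.coe_toMonoidHom]
  rw [show (MonoidHom.codRestrict (f.comp (K.comap f).subtype) K fun x => x.2)
    ⟨m, by rw [mem_comap, hm]; exact k.2⟩ = k from Subtype.ext hm, hk, e.apply_symm_apply]

theorem involves_of_subgroup {B : Type v} [Group B] {X : Type u} [Group X] (M : Subgroup X)
    (h : Cfsg.Involves B ↥M) : Cfsg.Involves B X :=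
  involves_trans (MonoidHom.id ↥M) (fun y => ⟨y, rfl⟩) h

theorem involves_of_quotient {B : Type v} [Group B] {X : Type u} [Group X] (N : Subgroup X)
    [N.Normal] (h : Cfsg.Involves B (X ⧸ N)) : Cfsg.Involves B X :=
  involves_trans (M := (⊤ : Subgroup X))
    ((QuotientGroup.mk' N).comp (⊤ : Subgroup X).subtype)
    (fun y => by
      obtain ⟨x, rfl⟩ := QuotientGroup.mk'_surjective N y
      exact ⟨⟨x, trivial⟩, rfl⟩) h

variable {X : Type u} [Group X] [Finite X] {p : ℕ} [hp : Fact p.Prime]

/-- An element quadratic but nontrivial on a chief factor inside a `p`-group yields `SL(2, p)`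
acting naturally. -/
theorem exists_natural_of_factor (hp2 : p ≠ 2) {U V : Subgroup X} [V.Normal]
    (hUV : Cfsg.IsChiefFactor U V) (hU : IsPGroup p U) {g : X}
    (hq : ⁅⁅U, zpowers g⁆, zpowers g⁆ ≤ V) (hg : g ∉ ConjFunctor.factorKer U V) :
    Cfsg.Involves SL(2, ZMod p) X ∧ Cfsg.Involves ↥(Cfsg.qd p) X := by
  haveI := hUV.2.1
  set q := QuotientGroup.mk' V with hqdef
  have hqs : Function.Surjective q := QuotientGroup.mk'_surjective _
  set D := ConjFunctor.factorKer U V with hD
  set W := U.map q with hW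
  haveI hWn : W.Normal := Normal.map inferInstance q hqs
  have hWe : Cfsg.IsElementaryAbelian p W := by
    refine ⟨⟨⟨fun x y => ?_⟩⟩, fun x hx => ?_⟩
    · obtain ⟨a, ha, hax⟩ := x.2
      obtain ⟨b, hb, hby⟩ := y.2
      refine Subtype.ext ?_
      rw [Subgroup.coe_mul, Subgroup.coe_mul, ← hax, ← hby, ← commutatorElement_eq_one_iff_mul_comm,
        ← map_commutatorElement]
      exact (QuotientGroup.eq_one_iff _).mpr
        (ConjFunctor.chief_commutator_self hUV hU (commutator_mem_commutator ha hb))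
    · obtain ⟨a, ha, rfl⟩ := hx
      rw [← map_pow]
      exact (QuotientGroup.eq_one_iff _).mpr (ConjFunctor.chief_pow_mem hUV hU ha)
  have hUD : U ≤ D :=
    ConjFunctor.commutator_le_iff_factorKer.mp (ConjFunctor.chief_commutator_self hUV hU)
  set qD := QuotientGroup.mk' D with hqDdef
  obtain ⟨h, hh⟩ : ∃ h : X, ¬ IsPGroup p (closure ({qD g, qD h * qD g * (qD h)⁻¹} : Set (X ⧸ D))) := by
    by_contra hcon
    push Not at hcon
    obtain ⟨N, hN, hNp, hgN⟩ := Invol.baerSuzuki_element (p := p) (x := qD g) (fun y => by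
      obtain ⟨h, rfl⟩ := QuotientGroup.mk'_surjective D y
      exact hcon h)
    haveI := hN
    set M := N.comap qD with hMdef
    obtain ⟨T, hT, hUT⟩ := ConjFunctor.exists_isSylIn_ge (p := p) (H := M) (Q := U) (fun x hx => by
      rw [hMdef, mem_comap, show qD x = 1 from (QuotientGroup.eq_one_iff x).mpr (hUD hx)]
      exact one_mem _) hU
    have hDM : D ≤ M := fun x hx => by
      rw [hMdef, mem_comap, show qD x = 1 from (QuotientGroup.eq_one_iff x).mpr hx]
      exact one_mem _
    have hMT : M ≤ D ⊔ T := by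
      rw [← relIndex_eq_one]
      obtain ⟨k, hk⟩ : ∃ k, D.relIndex M = p ^ k := by
        obtain ⟨k, hk⟩ := hNp.exists_card_eq
        refine ⟨k, ?_⟩
        have e : (⊥ : Subgroup (X ⧸ D)).comap qD = D := by
          rw [MonoidHom.comap_bot, hqDdef, QuotientGroup.ker_mk']
        have h3 := relIndex_comap (⊥ : Subgroup (X ⧸ D)) qD M
        rw [hMdef, map_comap_eq_self_of_surjective (QuotientGroup.mk'_surjective D),
          relIndex_bot_left, hk] at h3
        rw [← h3, e]
      refine Nat.eq_one_of_dvd_coprimes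
        ((hp.out.coprime_iff_not_dvd.mpr hT.2.2).pow_left k) ?_ ?_
      · exact hk ▸ relIndex_dvd_of_le_left M (le_sup_left : D ≤ D ⊔ T)
      · exact relIndex_dvd_of_le_left M (le_sup_right : T ≤ D ⊔ T)
    exact hg (ConjFunctor.le_factorKer_of_le_mul hUV (M := D) le_rfl hT.2.1 hUT hMT hgN)
  set a := q g
  set b := q h * q g * (q h)⁻¹ with hbdef
  have hNW : ∀ y : X ⧸ V, y ∈ normalizer (W : Set (X ⧸ V)) := fun y => by
    rw [normalizer_eq_top]; exact mem_top y
  have ha : ⁅⁅W, zpowers a⁆, zpowers a⁆ = ⊥ := by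
    rw [hW, ← MonoidHom.map_zpowers, ← map_commutator, ← map_commutator, Subgroup.map_eq_bot_iff,
      hqdef, QuotientGroup.ker_mk']
    exact hq
  have hb : ⁅⁅W, zpowers b⁆, zpowers b⁆ = ⊥ := by
    have := congrArg (Subgroup.map (MulAut.conj (q h)).toMonoidHom) ha
    rwa [map_commutator, map_commutator, MonoidHom.map_zpowers, Subgroup.map_bot,
      show W.map (MulAut.conj (q h)).toMonoidHom = W from ConjFunctor.cj_eq_iff.mpr (hNW _)] at this
  have hnp : ∃ y ∈ closure ({a, b} : Set (X ⧸ V)), ∀ k : ℕ,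
      y ^ p ^ k ∉ centralizer (W : Set (X ⧸ V)) := by
    by_contra hcon
    push Not at hcon
    apply hh
    have e1 : closure ({qD g, qD h * qD g * (qD h)⁻¹} : Set (X ⧸ D)) =
        (closure ({g, h * g * h⁻¹} : Set X)).map qD := by
      rw [MonoidHom.map_closure, Set.image_pair, map_mul, map_mul, map_inv]
    rw [e1]
    rintro ⟨_, z, hz, rfl⟩
    have e2 : closure ({a, b} : Set (X ⧸ V)) = (closure ({g, h * g * h⁻¹} : Set X)).map q := by
      rw [MonoidHom.map_closure, Set.image_pair, map_mul, map_mul, map_inv]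
    obtain ⟨k, hk⟩ := hcon (q z) (e2 ▸ mem_map_of_mem q hz)
    refine ⟨k, Subtype.ext ?_⟩
    rw [SubgroupClass.coe_pow, OneMemClass.coe_one, ← map_pow]
    refine (QuotientGroup.eq_one_iff _).mpr (ConjFunctor.mem_factorKer.mpr fun u hu => ?_)
    rw [← QuotientGroup.eq_one_iff, ← QuotientGroup.mk'_apply, map_commutatorElement,
      commutatorElement_eq_one_iff_mul_comm, map_pow]
    exact (mem_centralizer_iff.mp hk (q u) (mem_map_of_mem q hu)).symm
  obtain ⟨S, π, e, -, hπ, he, -, hact⟩ :=
    exists_natural_subgroup hp2 W hWe a b (hNW a) (hNW b) ha hb hnp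
  exact ⟨involves_of_quotient V (involves_of_hom S.subtype S.subtype_injective π hπ),
    involves_of_quotient V (involves_qd hp2 S π hπ e he hact)⟩

/-- Failure of `p`-stability involves `SL(2, p)` in a normalizer and `Qd(p)` in the group. -/
theorem involves_of_not_pStable (hp2 : p ≠ 2) {P : Subgroup X} (hP : IsPGroup p P) {g : X}
    (hg : g ∈ normalizer (P : Set X)) (hcom : ⁅⁅P, zpowers g⁆, zpowers g⁆ = ⊥)
    (hbad : QuotientGroup.mk (s := (centralizer (P : Set X)).subgroupOf (normalizer (P : Set X)))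
      (⟨g, hg⟩ : ↥(normalizer (P : Set X))) ∉ Cfsg.pCore p _) :
    Cfsg.Involves SL(2, ZMod p) ↥(normalizer (P : Set X)) ∧ Cfsg.Involves ↥(Cfsg.qd p) X := by
  set H := normalizer (P : Set X)
  haveI hPn : (P.subgroupOf H).Normal := normal_in_normalizer
  have hP' : IsPGroup p (P.subgroupOf H) := hP.comap_subtype
  have hcom' : ⁅⁅P.subgroupOf H, zpowers (⟨g, hg⟩ : ↥H)⁆, zpowers (⟨g, hg⟩ : ↥H)⁆ = ⊥ := by
    rw [← map_eq_bot_iff_of_injective _ H.subtype_injective, map_commutator, map_commutator,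
      MonoidHom.map_zpowers, subgroupOf_map_subtype, inf_eq_left.mpr le_normalizer]
    exact hcom
  set K : Subgroup ↥H :=
    { carrier := {x | ∀ U V : Subgroup ↥H, Cfsg.IsChiefFactor U V → U ≤ P.subgroupOf H →
        ∀ u ∈ U, ⁅x, u⁆ ∈ V}
      one_mem' := fun U V _ _ u _ => by rw [commutatorElement_one_left]; exact one_mem V
      mul_mem' := fun {a b} ha hb U V hUV hU => by
        haveI := hUV.2.2.1
        exact ConjFunctor.mem_factorKer.mp (mul_mem (ConjFunctor.mem_factorKer.mpr (ha U V hUV hU))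
          (ConjFunctor.mem_factorKer.mpr (hb U V hUV hU)))
      inv_mem' := fun {a} ha U V hUV hU => by
        haveI := hUV.2.2.1
        exact ConjFunctor.mem_factorKer.mp
          (inv_mem (ConjFunctor.mem_factorKer.mpr (ha U V hUV hU))) } with hK
  haveI hKn : K.Normal := ⟨fun x hx t U V hUV hU => by
    haveI := hUV.2.1
    haveI := hUV.2.2.1
    exact ConjFunctor.mem_factorKer.mp ((ConjFunctor.factorKer_normal U V).conj_mem x
      (ConjFunctor.mem_factorKer.mpr (hx U V hUV hU)) t)⟩
  set q := QuotientGroup.mk' ((centralizer (P : Set X)).subgroupOf H)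
  have hKp : IsPGroup p (K.map q) := by
    rintro ⟨_, x, hx, rfl⟩
    refine ⟨(orderOf x).factorization p, Subtype.ext ?_⟩
    rw [SubgroupClass.coe_pow, OneMemClass.coe_one]
    show q x ^ _ = 1
    rw [← map_pow, QuotientGroup.mk'_apply, QuotientGroup.eq_one_iff, mem_subgroupOf]
    set y := x ^ p ^ (orderOf x).factorization p
    have hy : (orderOf y).Coprime p := by
      rw [orderOf_pow' x (pow_ne_zero _ hp.out.ne_zero),
        Nat.gcd_eq_right (Nat.ordProj_dvd (orderOf x) p)]
      exact (hp.out.coprime_iff_not_dvd.mpr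
        (Nat.not_dvd_ordCompl hp.out (orderOf_pos x).ne')).symm
    have hfix := ConjFunctor.commute_of_factors hP' hy
      (fun U V hUV hU => K.pow_mem hx _ U V hUV hU) inferInstance le_rfl
    refine mem_centralizer_iff.mpr fun z hz => ?_
    exact congrArg Subtype.val (hfix ⟨z, le_normalizer hz⟩ hz).eq.symm
  have hgK : (⟨g, hg⟩ : ↥H) ∉ K := fun h => hbad
    (LocalEvenA.le_pCore_of_normal (Normal.map hKn q (QuotientGroup.mk'_surjective _)) hKp
      (mem_map_of_mem q h))
  obtain ⟨U, V, hUV, hU, hgUV⟩ : ∃ U V : Subgroup ↥H, Cfsg.IsChiefFactor U V ∧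
      U ≤ P.subgroupOf H ∧ ¬ ∀ u ∈ U, ⁅(⟨g, hg⟩ : ↥H), u⁆ ∈ V := by
    by_contra hcon
    push Not at hcon
    exact hgK hcon
  haveI := hUV.2.2.1
  obtain ⟨h1, h2⟩ := exists_natural_of_factor hp2 hUV (hP'.to_le hU)
    ((commutator_mono (commutator_mono hU le_rfl) le_rfl).trans (hcom'.le.trans bot_le))
    (fun h => hgUV (ConjFunctor.mem_factorKer.mp h))
  exact ⟨h1, involves_of_subgroup H h2⟩

/-- Without `Qd(p)` every group is `p`-stable. -/
theorem isNormalizerPStable_of_not_involves (hp2 : p ≠ 2)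
    (h : ¬ Cfsg.Involves ↥(Cfsg.qd p) X) : Cfsg.IsNormalizerPStable p X := by
  intro P hP g hg hcom
  by_contra hbad
  exact h (involves_of_not_pStable hp2 hP hg hcom hbad).2

/-- Without `Qd(p)` every section is `p`-stable. -/
theorem stable_sections_of_not_involves (hp2 : p ≠ 2) (h : ¬ Cfsg.Involves ↥(Cfsg.qd p) X)
    (K R : Subgroup X) [hR : (R.subgroupOf K).Normal] :
    Cfsg.IsNormalizerPStable p (↥K ⧸ R.subgroupOf K) :=
  isNormalizerPStable_of_not_involves hp2 fun hI => h (involves_trans (QuotientGroup.mk'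
    (R.subgroupOf K)) (QuotientGroup.mk'_surjective _) hI)

/-- `SL(2, p)`-freeness of the `p`-local subgroups gives stability of all sections. -/
theorem stable_sections_of_local_free (hp2 : p ≠ 2)
    (h : ∀ P : Subgroup X, IsPGroup p ↥P → P ≠ ⊥ →
      ¬ Cfsg.Involves SL(2, ZMod p) ↥(normalizer ((P : Subgroup X) : Set X)))
    (K R : Subgroup X) [hR : (R.subgroupOf K).Normal] :
    Cfsg.IsNormalizerPStable p (↥K ⧸ R.subgroupOf K) := by
  intro P hP g hg hcom
  by_contra hbad
  obtain ⟨h1, -⟩ := involves_of_not_pStable hp2 hP hg hcom hbad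
  set qR := QuotientGroup.mk' (R.subgroupOf K)
  have hP0 : P ≠ ⊥ := by
    rintro rfl
    refine hbad ?_
    rw [show (QuotientGroup.mk (⟨g, hg⟩ : ↥(normalizer ((⊥ : Subgroup (↥K ⧸ R.subgroupOf K)) :
      Set (↥K ⧸ R.subgroupOf K)))) : _ ⧸ (centralizer ((⊥ : Subgroup (↥K ⧸ R.subgroupOf K)) :
      Set (↥K ⧸ R.subgroupOf K))).subgroupOf _) = 1 from (QuotientGroup.eq_one_iff _).mpr ?_]
    · exact one_mem _
    · rw [mem_subgroupOf, mem_centralizer_iff]
      intro y hy
      rw [SetLike.mem_coe, mem_bot] at hy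
      rw [hy, one_mul, mul_one]
  set Pt := P.comap qR
  obtain ⟨T, hT⟩ := ConjFunctor.exists_isSylIn (p := p) Pt
  have hTP : T.map qR = P := by
    refine eq_of_le_of_card_ge ?_ ?_
    · rw [map_le_iff_le_comap]; exact hT.1
    · obtain ⟨j, hj⟩ := (hP.to_le (by rw [map_le_iff_le_comap]; exact hT.1 :
        T.map qR ≤ P)).exists_card_eq
      obtain ⟨i, hi⟩ := hP.exists_card_eq
      have hdvd : (T.map qR).relIndex P ∣ T.relIndex Pt := by
        rw [← map_comap_eq_self_of_surjective (QuotientGroup.mk'_surjective (R.subgroupOf K)) P]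
        exact Coprime23.relIndex_map_dvd qR T Pt
      have h2 : (T.map qR).relIndex P = 1 := by
        obtain ⟨l, -, hl⟩ := (Nat.dvd_prime_pow hp.out).mp
          (hi ▸ relIndex_dvd_card (T.map qR) P)
        rcases Nat.eq_zero_or_pos l with rfl | hl0
        · rw [hl, pow_zero]
        · exact absurd (((dvd_pow_self p hl0.ne').trans hl.symm.dvd).trans hdvd) hT.2.2
      exact card_le_of_le (relIndex_eq_one.mp h2)
  have hT0 : T.map K.subtype ≠ ⊥ := by
    rw [Ne, map_eq_bot_iff_of_injective _ K.subtype_injective]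
    rintro rfl
    exact hP0 (by rw [← hTP, Subgroup.map_bot])
  refine h (T.map K.subtype) (hT.2.1.map _) hT0 ?_
  -- the normalizer of the Sylow subgroup of the preimage covers the normalizer
  have hsurj : ∀ y ∈ normalizer (P : Set (↥K ⧸ R.subgroupOf K)),
      ∃ x ∈ normalizer (T : Set ↥K), qR x = y := by
    intro y hy
    obtain ⟨x, rfl⟩ := QuotientGroup.mk'_surjective (R.subgroupOf K) y
    have hx : ConjFunctor.cj x T ≤ Pt := by
      rintro _ ⟨t, ht, rfl⟩
      show qR (x * t * x⁻¹) ∈ P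
      rw [map_mul, map_mul, map_inv]
      exact (mem_normalizer_iff.mp hy _).mp (hT.1 ht)
    obtain ⟨c, hc, hle⟩ := ConjFunctor.exists_conj_le_of_isSylIn hT hx
      (ConjFunctor.cj_isPGroup x hT.2.1)
    have heq : ConjFunctor.cj (c * x) T = T := by
      rw [ConjFunctor.cj_mul]
      exact eq_of_le_of_card_ge hle (by rw [ConjFunctor.cj_card, ConjFunctor.cj_card])
    obtain ⟨t, ht, hte⟩ : ∃ t ∈ T, qR t = qR c := by
      have : qR c ∈ P := hc
      rwa [← hTP] at this
    refine ⟨t⁻¹ * (c * x), mul_mem (inv_mem (le_normalizer ht))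
      (ConjFunctor.cj_eq_iff.mp heq), ?_⟩
    rw [map_mul, map_inv, hte, map_mul, inv_mul_cancel_left]
  set N := normalizer (T : Set ↥K)
  let f : ↥N →* ↥(normalizer (P : Set (↥K ⧸ R.subgroupOf K))) :=
    (qR.comp N.subtype).codRestrict _ fun x => by
      have := le_normalizer_map qR (mem_map_of_mem qR x.2)
      rwa [hTP] at this
  have hf : Function.Surjective f := by
    rintro ⟨y, hy⟩
    obtain ⟨x, hx, hxy⟩ := hsurj y hy
    exact ⟨⟨x, hx⟩, Subtype.ext hxy⟩
  let ι : ↥N →* ↥(normalizer ((T.map K.subtype : Subgroup X) : Set X)) :=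
    (K.subtype.comp N.subtype).codRestrict _ fun x => le_normalizer_map K.subtype
      (mem_map_of_mem K.subtype x.2)
  have hι : Function.Injective ι := fun a b e =>
    Subtype.ext (Subtype.ext (congrArg Subtype.val e :))
  exact involves_trans (M := ι.range) (f.comp (MonoidHom.ofInjective hι).symm.toMonoidHom)
    (hf.comp (MonoidHom.ofInjective hι).symm.surjective) h1

end Cfsg.Agent.SL2Dickson
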