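import Cfsg.Agent.Lib.SL2Dickson.Natural
import Cfsg.Prelude.Def_PLocal
import Cfsg.Prelude.Def_LocalEven
import Cfsg.Prelude.Def_Transfer
import Mathlib.GroupTheory.SemidirectProduct
import Mathlib.Algebra.Module.ZMod
import Mathlib.Algebra.Field.ZMod
import Mathlib.LinearAlgebra.FreeModule.Basic
import Mathlib.LinearAlgebra.Matrix.ToLin
import Mathlib.LinearAlgebra.Dimension.Free

/-!
# Quadratic pairs in finite groups: involvement of Qd(p)
-/

set_option autoImplicit false
set_option linter.style.haveILetI false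
set_option linter.unusedSectionVars false
set_option linter.unusedVariables false

namespace Cfsg.Agent.SL2Dickson

open Matrix
open scoped MatrixGroups commutatorElement

universe u v

/-- The natural action of `SL(2, p)` on `(ℤ/p)²`, as automorphisms of the multiplicative group. -/
def natAut (p : ℕ) : SL(2, ZMod p) →* MulAut (Multiplicative (Fin 2 → ZMod p)) where
  toFun q :=
    { toFun := fun v => Multiplicative.ofAdd (q.1 *ᵥ Multiplicative.toAdd v)
      invFun := fun v => Multiplicative.ofAdd ((q⁻¹).1 *ᵥ Multiplicative.toAdd v)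
      left_inv := fun v => by
        apply Multiplicative.toAdd.injective
        show (q⁻¹).1 *ᵥ (q.1 *ᵥ Multiplicative.toAdd v) = _
        rw [mulVec_mulVec, ← Matrix.SpecialLinearGroup.coe_mul, inv_mul_cancel,
          Matrix.SpecialLinearGroup.coe_one, one_mulVec]
      right_inv := fun v => by
        apply Multiplicative.toAdd.injective
        show q.1 *ᵥ ((q⁻¹).1 *ᵥ Multiplicative.toAdd v) = _
        rw [mulVec_mulVec, ← Matrix.SpecialLinearGroup.coe_mul, mul_inv_cancel,
          Matrix.SpecialLinearGroup.coe_one, one_mulVec]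
      map_mul' := fun v w => by
        apply Multiplicative.toAdd.injective
        show q.1 *ᵥ (Multiplicative.toAdd v + Multiplicative.toAdd w) = _
        rw [mulVec_add]; rfl }
  map_one' := by
    ext v : 1
    apply Multiplicative.toAdd.injective
    show (1 : SL(2, ZMod p)).1 *ᵥ Multiplicative.toAdd v = Multiplicative.toAdd v
    rw [Matrix.SpecialLinearGroup.coe_one, one_mulVec]
  map_mul' q r := by
    ext v : 1
    apply Multiplicative.toAdd.injective
    show (q * r).1 *ᵥ _ = q.1 *ᵥ (r.1 *ᵥ _)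
    rw [mulVec_mulVec, Matrix.SpecialLinearGroup.coe_mul]

theorem natAut_apply {p : ℕ} (q : SL(2, ZMod p)) (v : Multiplicative (Fin 2 → ZMod p)) :
    natAut p q v = Multiplicative.ofAdd (q.1 *ᵥ Multiplicative.toAdd v) := rfl

/-- The affine matrix attached to a vector and an element of `SL(2, p)`. -/
def affine {p : ℕ} (v : Fin 2 → ZMod p) (q : SL(2, ZMod p)) : SL(3, ZMod p) :=
  ⟨!![q.1 0 0, q.1 0 1, v 0; q.1 1 0, q.1 1 1, v 1; 0, 0, 1], by
    have h := q.2
    rw [det_fin_two] at h
    simp [det_fin_three]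
    linear_combination h⟩

@[simp] theorem affine_coe {p : ℕ} (v : Fin 2 → ZMod p) (q : SL(2, ZMod p)) :
    (affine v q).1 = !![q.1 0 0, q.1 0 1, v 0; q.1 1 0, q.1 1 1, v 1; 0, 0, 1] := rfl

theorem affine_mem_qd {p : ℕ} (v : Fin 2 → ZMod p) (q : SL(2, ZMod p)) :
    affine v q ∈ Cfsg.qd p :=
  Subgroup.subset_closure (by simp)

theorem affine_mul {p : ℕ} (v w : Fin 2 → ZMod p) (q r : SL(2, ZMod p)) :
    affine v q * affine w r = affine (v + q.1 *ᵥ w) (q * r) := by
  ext i j
  fin_cases i <;> fin_cases j <;>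
    simp [Matrix.mul_apply, Fin.sum_univ_three, Fin.sum_univ_two, mulVec, dotProduct, vecHead, vecTail] <;>
      ring

/-- `Qd(p)` as an image of the semidirect product. -/
def toQd (p : ℕ) {L : Type*} [Group L] (π : L →* SL(2, ZMod p)) :
    SemidirectProduct (Multiplicative (Fin 2 → ZMod p)) L ((natAut p).comp π) →* ↥(Cfsg.qd p) where
  toFun x := ⟨affine (Multiplicative.toAdd x.left) (π x.right), affine_mem_qd _ _⟩
  map_one' := by
    apply Subtype.ext
    ext i j
    fin_cases i <;> fin_cases j <;> simp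
  map_mul' x y := by
    apply Subtype.ext
    rw [Subgroup.coe_mul, affine_mul]
    simp [SemidirectProduct.mul_left, natAut_apply, toAdd_mul]

theorem toQd_surjective (p : ℕ) {L : Type*} [Group L] (π : L →* SL(2, ZMod p))
    (hπ : Function.Surjective π) : Function.Surjective (toQd p π) := by
  have hle : Cfsg.qd p ≤ (toQd p π).range.map (Cfsg.qd p).subtype := by
    refine (Subgroup.closure_le _).mpr ?_
    rintro M ⟨h0, h1, h2⟩
    have hd : (!![M.1 0 0, M.1 0 1; M.1 1 0, M.1 1 1]).det = 1 := by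
      have := M.2
      rw [det_fin_three] at this
      rw [det_fin_two]
      simp [h0, h1, h2] at this
      simpa using this
    obtain ⟨l, hl⟩ := hπ ⟨_, hd⟩
    refine ⟨_, ⟨⟨Multiplicative.ofAdd ![M.1 0 2, M.1 1 2], l⟩, rfl⟩, ?_⟩
    show affine _ (π l) = M
    rw [hl]
    show affine ![M.1 0 2, M.1 1 2] _ = M
    ext i j
    show (!![M.1 0 0, M.1 0 1, M.1 0 2; M.1 1 0, M.1 1 1, M.1 1 2; 0, 0, 1] :
      Matrix (Fin 3) (Fin 3) (ZMod p)) i j = M.1 i j
    fin_cases i <;> fin_cases j <;> simp [h0, h1, h2, vecHead, vecTail]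
  intro y
  obtain ⟨z, ⟨x, hx⟩, hz⟩ := hle y.2
  exact ⟨x, hx.trans (Subtype.ext hz)⟩

/-- An injected group with a given quotient gives an involved section. -/
theorem involves_of_hom {X : Type u} [Group X] {A : Type*} [Group A] {B : Type v} [Group B]
    (e : A →* X) (he : Function.Injective e) (f : A →* B) (hf : Function.Surjective f) :
    Cfsg.Involves B X := by
  let f' : ↥e.range →* B := f.comp (MonoidHom.ofInjective he).symm.toMonoidHom
  have hf' : Function.Surjective f' := hf.comp (MonoidHom.ofInjective he).symm.surjective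
  have h1 : (f'.ker.map e.range.subtype).subgroupOf e.range = f'.ker :=
    Subgroup.comap_map_eq_self_of_injective e.range.subtype_injective _
  haveI hn : ((f'.ker.map e.range.subtype).subgroupOf e.range).Normal :=
    h1.symm ▸ (inferInstance : f'.ker.Normal)
  exact ⟨e.range, _, hn, ⟨(QuotientGroup.quotientMulEquivOfEq h1).trans
    (QuotientGroup.quotientKerEquivOfSurjective f' hf')⟩⟩

/-- A group inducing `SL(2, p)` naturally on an elementary abelian subgroup of order `p ^ 2`
involves `Qd(p)`. -/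
theorem involves_qd {X : Type u} [Group X] [Finite X] {p : ℕ} [hp : Fact p.Prime] (hp2 : p ≠ 2)
    (S : Subgroup X) (π : ↥S →* SL(2, ZMod p)) (hπ : Function.Surjective π)
    (e : Multiplicative (Fin 2 → ZMod p) →* X) (he : Function.Injective e)
    (hact : ∀ (s : ↥S) v, (s : X) * e v * (s : X)⁻¹ = e (natAut p (π s) v)) :
    Cfsg.Involves ↥(Cfsg.qd p) X := by
  haveI : Fact (Nat.Prime 2) := ⟨Nat.prime_two⟩
  set Z : Subgroup SL(2, ZMod p) := Subgroup.zpowers (-1)
  haveI hZ : Z.Normal := ⟨fun x hx g => by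
    obtain ⟨k, rfl⟩ := Subgroup.mem_zpowers_iff.mp hx
    have hc : g * (-1 : SL(2, ZMod p)) ^ k = (-1 : SL(2, ZMod p)) ^ k * g :=
      (Commute.zpow_right (show Commute g (-1) by
        show g * -1 = -1 * g
        simp) k).eq
    rw [hc, mul_inv_cancel_right]
    exact hx⟩
  set S₀ := Z.comap π
  obtain ⟨z, hz⟩ := hπ (-1)
  have hm1 : (-1 : SL(2, ZMod p)) ^ 2 = 1 := by simp [sq]
  -- a `2`-element over `-1`
  obtain ⟨k, m, hm, hord⟩ := Nat.exists_eq_pow_mul_and_not_dvd (orderOf_pos z).ne' 2 (by norm_num)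
  have hz' : π (z ^ m) = -1 := by
    obtain ⟨j, rfl⟩ := Nat.not_even_iff_odd.mp (fun h => hm (even_iff_two_dvd.mp h))
    rw [map_pow, hz, pow_succ, pow_mul, hm1, one_pow, one_mul]
  have hzS₀ : z ^ m ∈ S₀ := by
    show π (z ^ m) ∈ Z
    rw [hz']; exact Subgroup.mem_zpowers _
  have h2grp : IsPGroup 2 (Subgroup.zpowers (⟨z ^ m, hzS₀⟩ : ↥S₀)) := by
    refine IsPGroup.of_card_dvd_pow (n := k) ?_
    rw [Nat.card_zpowers, Subgroup.orderOf_mk, orderOf_dvd_iff_pow_eq_one, ← pow_mul, mul_comm,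
      ← hord]
    exact pow_orderOf_eq_one z
  obtain ⟨T, hT⟩ := h2grp.exists_le_sylow
  have hTmem : z ^ m ∈ (T : Subgroup ↥S₀).map S₀.subtype :=
    ⟨_, hT (Subgroup.mem_zpowers _), rfl⟩
  have hfr := Sylow.normalizer_sup_eq_top T
  set T₀ := (T : Subgroup ↥S₀).map S₀.subtype with hT₀
  set N := Subgroup.normalizer (T₀ : Set ↥S)
  have hπN : Function.Surjective (π.comp N.subtype) := by
    intro q
    obtain ⟨s, rfl⟩ := hπ q
    have hs : s ∈ N ⊔ S₀ := by rw [hfr]; trivial
    rw [← SetLike.mem_coe, Subgroup.coe_mul_of_left_le_normalizer_right N S₀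
      Subgroup.le_normalizer_of_normal, Set.mem_mul] at hs
    obtain ⟨n, hn, c, hc, rfl⟩ := hs
    obtain ⟨j, hj⟩ := Subgroup.mem_zpowers_iff.mp (show π c ∈ Z from hc)
    have hzN : z ^ m ∈ N := Subgroup.le_normalizer hTmem
    refine ⟨⟨n, hn⟩ * (⟨z ^ m, hzN⟩ : ↥N) ^ j, ?_⟩
    rw [map_mul, map_mul, map_zpow]
    simp [hz', hj]
  let A := SemidirectProduct (Multiplicative (Fin 2 → ZMod p)) ↥N
    ((natAut p).comp (π.comp N.subtype))
  let E : A →* X := SemidirectProduct.lift e (S.subtype.comp N.subtype) (fun n => by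
    refine MonoidHom.ext fun v => ?_
    simp only [MonoidHom.comp_apply, MulEquiv.coe_toMonoidHom, MulAut.conj_apply]
    exact (hact (n : ↥S) v).symm)
  refine involves_of_hom E ?_ (toQd p (π.comp N.subtype)) (toQd_surjective p _ hπN)
  rw [← MonoidHom.ker_eq_bot_iff, eq_bot_iff]
  rintro ⟨v, n⟩ hvn
  rw [MonoidHom.mem_ker] at hvn
  have hvn' : e v * ((n : ↥S) : X) = 1 := hvn
  have hev : e v = (((n : ↥N) : ↥S) : X)⁻¹ := eq_inv_of_mul_eq_one_left hvn'
  -- the commutator with the involution lies in both `e`'s image and `T₀`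
  have h1 := hact ⟨_, (z ^ m).2⟩ v
  rw [hz'] at h1
  have h2 : ((n⁻¹ : ↥N) : ↥S) * (z ^ m) * ((n⁻¹ : ↥N) : ↥S)⁻¹ * (z ^ m)⁻¹ ∈ T₀ :=
    mul_mem ((Subgroup.mem_normalizer_iff.mp (n⁻¹ : ↥N).2 _).mp hTmem) (inv_mem hTmem)
  have h3 : ((((n⁻¹ : ↥N) : ↥S) * (z ^ m) * ((n⁻¹ : ↥N) : ↥S)⁻¹ * (z ^ m)⁻¹ : ↥S) : X) =
      e (v * v) := by
    have hev' : (((n : ↥N) : ↥S) : X) = (e v)⁻¹ := by rw [hev, inv_inv]
    simp only [Subgroup.coe_mul, Subgroup.coe_inv, inv_inv, hev']
    rw [mul_assoc (e v), mul_assoc (e v)]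
    rw [show natAut p (-1) v = v⁻¹ by
      apply Multiplicative.toAdd.injective
      simp [natAut_apply, neg_mulVec]] at h1
    have h4 : ((z ^ m : ↥S) : X) * e v⁻¹ * ((z ^ m : ↥S) : X)⁻¹ = e v := by
      have := congrArg (·⁻¹) h1
      simpa [mul_assoc] using this
    rw [← map_inv e v, h4, map_mul]
  obtain ⟨⟨t, htS₀⟩, htT, hte⟩ := h2
  obtain ⟨i, hi⟩ := T.2 ⟨⟨t, htS₀⟩, htT⟩
  have hti : ((t : ↥S) : X) ^ 2 ^ i = 1 := by
    have := congrArg (fun y : ↥(T : Subgroup ↥S₀) => ((y.1.1 : ↥S) : X)) hi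
    simpa using this
  have hte' : (t : X) = e (v * v) := (congrArg (fun y : ↥S => (y : X)) hte).trans h3
  rw [hte', ← map_pow] at hti
  have h5 : (v * v) ^ 2 ^ i = 1 := he (hti.trans (map_one e).symm)
  have hv : v = 1 := by
    have h2ne : (2 : ZMod p) ≠ 0 := fun e2 => hp2 (by
      have h6 : ((2 : ℕ) : ZMod p) = 0 := by simpa using e2
      rw [CharP.cast_eq_zero_iff (ZMod p) p] at h6
      exact (Nat.prime_dvd_prime_iff_eq hp.out Nat.prime_two).mp h6)
    apply Multiplicative.toAdd.injective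
    funext j
    have h7 := congrFun (congrArg Multiplicative.toAdd h5) j
    simp at h7
    simpa [← two_mul, h2ne] using h7
  rw [hv, map_one, one_mul] at hvn'
  rw [Subgroup.mem_bot]
  exact SemidirectProduct.ext hv (Subtype.ext (Subtype.ext hvn'))

/-- Two quadratic elements on an elementary abelian group whose action is not a `p`-group involve
`SL(2, p)` with a natural submodule. -/
theorem exists_natural_subgroup {X : Type u} [Group X] [Finite X] {p : ℕ} [hp : Fact p.Prime]
    (hp2 : p ≠ 2) (V : Subgroup X) (hV : Cfsg.IsElementaryAbelian p V) (a b : X)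
    (haN : a ∈ Subgroup.normalizer (V : Set X)) (hbN : b ∈ Subgroup.normalizer (V : Set X))
    (ha : ⁅⁅V, Subgroup.zpowers a⁆, Subgroup.zpowers a⁆ = ⊥)
    (hb : ⁅⁅V, Subgroup.zpowers b⁆, Subgroup.zpowers b⁆ = ⊥)
    (hnp : ∃ h ∈ Subgroup.closure ({a, b} : Set X), ∀ k : ℕ,
      h ^ p ^ k ∉ Subgroup.centralizer (V : Set X)) :
    ∃ (S : Subgroup X) (π : ↥S →* SL(2, ZMod p)) (e : Multiplicative (Fin 2 → ZMod p) →* X),
      S ≤ Subgroup.closure ({a, b} : Set X) ∧ Function.Surjective π ∧ Function.Injective e ∧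
      e.range ≤ V ∧ ∀ (s : ↥S) v, (s : X) * e v * (s : X)⁻¹ = e (natAut p (π s) v) := by
  classical
  haveI : IsMulCommutative V := hV.1
  open scoped IsMulCommutative in
  letI : CommGroup V := inferInstance
  have hexp : ∀ v : Additive V, p • v = 0 := fun v => by
    apply Additive.toMul.injective
    exact Subtype.ext (hV.2 _ (Additive.toMul v).2)
  letI : Module (ZMod p) (Additive V) := AddCommGroup.zmodModule (G := Additive V) (n := p) hexp
  set N := Subgroup.normalizer (V : Set X)
  let act : ↥N →* Module.End (ZMod p) (Additive V) :=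
    { toFun := fun g => AddMonoidHom.toZModLinearMap p
        (MonoidHom.toAdditive ((V.normalizerMonoidHom g).toMonoidHom))
      map_one' := by
        apply LinearMap.ext
        intro v
        apply Additive.toMul.injective
        apply Subtype.ext
        show ((1 : ↥N) : X) * (Additive.toMul v : V) * ((1 : ↥N) : X)⁻¹ = (Additive.toMul v : V)
        simp
      map_mul' := fun g h => by
        apply LinearMap.ext
        intro v
        apply Additive.toMul.injective
        apply Subtype.ext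
        show ((g * h : ↥N) : X) * (Additive.toMul v : V) * ((g * h : ↥N) : X)⁻¹ =
          (g : X) * ((h : X) * (Additive.toMul v : V) * (h : X)⁻¹) * (g : X)⁻¹
        simp [mul_assoc] }
  have hact : ∀ (g : ↥N) (v : V), ((Additive.toMul (act g (Additive.ofMul v)) : V) : X) =
      (g : X) * (v : X) * (g : X)⁻¹ := fun g v => rfl
  let bs := Module.finBasis (ZMod p) (Additive V)
  let ρ : ↥N →* Matrix _ _ (ZMod p) :=
    (LinearMap.toMatrixAlgEquiv bs).toRingEquiv.toMonoidHom.comp act
  have hρ : ∀ g, ρ g = LinearMap.toMatrixAlgEquiv bs (act g) := fun g => rfl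
  have hquad : ∀ (c : X) (hc : c ∈ N), ⁅⁅V, Subgroup.zpowers c⁆, Subgroup.zpowers c⁆ = ⊥ →
      (ρ ⟨c, hc⟩ - 1) * (ρ ⟨c, hc⟩ - 1) = 0 := by
    intro c hc hq
    rw [hρ, ← map_one (LinearMap.toMatrixAlgEquiv bs), ← map_sub, ← map_mul]
    convert map_zero (LinearMap.toMatrixAlgEquiv bs) using 2
    apply LinearMap.ext
    intro v
    obtain ⟨v, rfl⟩ := Additive.ofMul.surjective v
    set w : V := Additive.toMul ((act ⟨c, hc⟩ - 1) (Additive.ofMul v))
    have hwX : (w : X) = c * (v : X) * c⁻¹ * (v : X)⁻¹ := by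
      simp only [w, LinearMap.sub_apply, Module.End.one_apply, toMul_sub, Subgroup.coe_div,
        div_eq_mul_inv, toMul_ofMul]
      simp [hact]
    have hwmem : (w : X) ∈ ⁅V, Subgroup.zpowers c⁆ := by
      rw [hwX, Subgroup.commutator_comm]
      exact Subgroup.commutator_mem_commutator (Subgroup.mem_zpowers c) v.2
    have h1 : ⁅c, (w : X)⁆ = 1 := by
      rw [← Subgroup.mem_bot, ← hq, Subgroup.commutator_comm]
      exact Subgroup.commutator_mem_commutator (Subgroup.mem_zpowers c) hwmem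
    show (act ⟨c, hc⟩ - 1) (Additive.ofMul w) = 0
    apply Additive.toMul.injective
    apply Subtype.ext
    simp only [LinearMap.sub_apply, Module.End.one_apply, toMul_sub, Subgroup.coe_div,
      div_eq_mul_inv, toMul_ofMul]
    simpa [hact, commutatorElement_def] using h1
  obtain ⟨h, hh, hhk⟩ := hnp
  set a' : ↥N := ⟨a, haN⟩
  set b' : ↥N := ⟨b, hbN⟩
  have hcl : (Subgroup.closure ({a', b'} : Set ↥N)).map N.subtype =
      Subgroup.closure ({a, b} : Set X) := by
    rw [MonoidHom.map_closure]; simp [Set.image_insert_eq, a', b']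
  have hnil : ¬ IsNilpotent ((ρ a' - 1) * (ρ b' - 1)) := by
    intro hnil
    obtain ⟨h', hh', rfl⟩ : h ∈ (Subgroup.closure ({a', b'} : Set ↥N)).map N.subtype := hcl ▸ hh
    have hchar : ((p : ℕ) : Matrix (Fin (Module.finrank (ZMod p) (Additive V)))
        (Fin (Module.finrank (ZMod p) (Additive V))) (ZMod p)) = 0 := by
      rw [← map_natCast (algebraMap (ZMod p) _), ZMod.natCast_self, map_zero]
    obtain ⟨k, hk⟩ := isPGroup_of_nilpotent hchar ρ a' b' (hquad a haN ha) (hquad b hbN hb) hnil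
      h' hh'
    refine hhk k (Subgroup.mem_centralizer_iff.mpr fun v hv => ?_)
    rw [← map_pow, hρ, ← map_one (LinearMap.toMatrixAlgEquiv bs)] at hk
    have h1 := congrArg (fun f : Module.End (ZMod p) (Additive V) =>
      ((Additive.toMul (f (Additive.ofMul ⟨v, hv⟩)) : V) : X))
      ((LinearMap.toMatrixAlgEquiv bs).injective hk)
    simp only [hact, Subgroup.coe_pow, Module.End.one_apply, toMul_ofMul] at h1
    exact (mul_inv_eq_iff_eq_mul.mp h1).symm
  obtain ⟨S, π, Q, hS, hπ, hQ, hQact⟩ :=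
    exists_natural hp2 ρ a' b' (hquad a haN ha) (hquad b hbN hb) hnil
  let S' := S.map N.subtype
  let eS : ↥S ≃* ↥S' := S.equivMapOfInjective N.subtype N.subtype_injective
  let e : Multiplicative (Fin 2 → ZMod p) →* X :=
    V.subtype.comp
      (((bs.equivFun.symm.toLinearMap.comp (Matrix.mulVecLin Q)).toAddMonoidHom).toMultiplicative
        |>.comp (MonoidHom.id _) |> fun f => ((MulEquiv.toMultiplicative_toAdditive (G := V)).toMonoidHom).comp f)
  have hev : ∀ v, e v =
      ((Additive.toMul (bs.equivFun.symm (Q *ᵥ Multiplicative.toAdd v)) : V) : X) := fun v => rfl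
  refine ⟨S', π.comp eS.symm.toMonoidHom, e, ?_, hπ.comp eS.symm.surjective, ?_, ?_, ?_⟩
  · rw [← hcl]; exact Subgroup.map_mono hS
  · intro v w hvw
    rw [hev, hev] at hvw
    exact Multiplicative.toAdd.injective
      (hQ (bs.equivFun.symm.injective (Additive.toMul.injective (Subtype.ext hvw))))
  · rintro _ ⟨v, rfl⟩
    rw [hev]
    exact SetLike.coe_mem _
  · intro s v
    obtain ⟨s, rfl⟩ := eS.surjective s
    show ((s : ↥N) : X) * e v * ((s : ↥N) : X)⁻¹ = e (natAut p (π (eS.symm (eS s))) v)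
    rw [MulEquiv.symm_apply_apply, hev, hev, natAut_apply, toAdd_ofAdd, mulVec_mulVec, ← hQact,
      ← mulVec_mulVec, ← hact]
    refine congrArg (fun y : Additive V => ((Additive.toMul y : V) : X)) ?_
    apply bs.equivFun.injective
    rw [LinearEquiv.apply_symm_apply]
    have h := LinearMap.toMatrix_mulVec_repr bs bs (act (s : ↥N))
      (bs.equivFun.symm (Q *ᵥ Multiplicative.toAdd v))
    rw [← Module.Basis.equivFun_apply, ← Module.Basis.equivFun_apply,
      LinearEquiv.apply_symm_apply] at h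
    exact h.symm

end Cfsg.Agent.SL2Dickson
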