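import Mathlib
import Cfsg.Agent.Lib.LocalEvenA.Core
import Cfsg.Agent.Lib.Invol.BaerSuzuki
import Cfsg.Agent.Lib.ConjFunctor.Basic

/-!
# Offenders with quadratically acting abelian `2`-subgroups give a four-plane

If `X` acts on an elementary abelian `2`-group so that all its `2`-subgroups are commutative and
quadratic and an elementary abelian subgroup meeting `O₂(X)` trivially is an offender, then some
four-subgroup of the module carries two transvections with different axes (so `S₄` is involved).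
-/

set_option autoImplicit false
set_option linter.style.haveILetI false
set_option linter.unusedSectionVars false
set_option linter.unusedVariables false

namespace Cfsg.Agent.SL2Dickson

open Subgroup
open scoped Classical

variable {M : Type*} [Group M] [Finite M] {V : Type*} [CommGroup V] [Finite V]
  [MulDistribMulAction M V]

/-- Fixed points of a set inside a subgroup of the module. -/
def fixIn (B : Subgroup M) (W : Subgroup V) : Subgroup V where
  carrier := {w | w ∈ W ∧ ∀ b ∈ B, b • w = w}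
  one_mem' := ⟨W.one_mem, fun b _ => smul_one b⟩
  mul_mem' := fun {v w} hv hw =>
    ⟨W.mul_mem hv.1 hw.1, fun b hb => by rw [smul_mul', hv.2 b hb, hw.2 b hb]⟩
  inv_mem' := fun {v} hv => ⟨W.inv_mem hv.1, fun b hb => by rw [smul_inv', hv.2 b hb]⟩

theorem mem_fixIn {B : Subgroup M} {W : Subgroup V} {w : V} :
    w ∈ fixIn B W ↔ w ∈ W ∧ ∀ b ∈ B, b • w = w := Iff.rfl

theorem fixIn_le (B : Subgroup M) (W : Subgroup V) : fixIn B W ≤ W := fun _ h => h.1

theorem fixIn_cj {g : M} {W : Subgroup V} (hgW : ∀ w ∈ W, g • w ∈ W)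
    (hgW' : ∀ w ∈ W, g⁻¹ • w ∈ W) (B : Subgroup M) :
    Nat.card (fixIn (ConjFunctor.cj g B) W) = Nat.card (fixIn B W) := by
  refine Nat.card_congr
    { toFun := fun w => ⟨g⁻¹ • (w : V), hgW' _ w.2.1, fun b hb => ?_⟩
      invFun := fun w => ⟨g • (w : V), hgW _ w.2.1, ?_⟩
      left_inv := fun w => Subtype.ext (smul_inv_smul g (w : V))
      right_inv := fun w => Subtype.ext (inv_smul_smul g (w : V)) }
  · have h := w.2.2 _ (ConjFunctor.conj_mem_cj (g := g) hb)
    rw [mul_smul, mul_smul] at h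
    rw [eq_inv_smul_iff, h]
  · intro x hx
    have h := w.2.2 _ (ConjFunctor.mem_cj.mp hx)
    rw [mul_smul, mul_smul, inv_smul_eq_iff] at h
    exact h

/-- Every subgroup of an elementary abelian `2`-group has a complement. -/
theorem exists_complement_two {B C₀ : Subgroup M} (hB2 : ∀ b ∈ B, b * b = 1)
    (hBc : ∀ a ∈ B, ∀ b ∈ B, a * b = b * a) (hC : C₀ ≤ B) :
    ∃ B₁ : Subgroup M, B₁ ≤ B ∧ B₁ ⊓ C₀ = ⊥ ∧ B ≤ C₀ ⊔ B₁ ∧
      Nat.card C₀ * Nat.card B₁ = Nat.card B := by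
  obtain ⟨B₁, ⟨hle, hd⟩, hmax⟩ := Set.Finite.exists_maximal
    (Set.toFinite {D : Subgroup M | D ≤ B ∧ D ⊓ C₀ = ⊥}) ⟨⊥, bot_le, bot_inf_eq C₀⟩
  have hsup : B ≤ C₀ ⊔ B₁ := by
    intro b hb
    by_contra hbn
    have hbB : zpowers b ≤ B := zpowers_le.mpr hb
    have hle2 : B₁ ⊔ zpowers b ≤ B := sup_le hle hbB
    have hd2 : (B₁ ⊔ zpowers b) ⊓ C₀ = ⊥ := by
      rw [eq_bot_iff]
      rintro z ⟨hz, hzC⟩
      have hn : zpowers b ≤ normalizer (B₁ : Set M) :=
        le_trans (zpowers_le.mpr (mem_centralizer_iff.mpr fun x hx => hBc x (hle hx) b hb))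
          (centralizer_le_normalizer _)
      replace hz : z ∈ ((B₁ ⊔ zpowers b : Subgroup M) : Set M) := hz
      rw [coe_mul_of_right_le_normalizer_left _ _ hn] at hz
      obtain ⟨x, hx, y, ⟨n, rfl⟩, rfl⟩ := hz
      rcases Int.even_or_odd n with ⟨j, rfl⟩ | ⟨j, rfl⟩
      · have e : b ^ (j + j) = 1 := by
          rw [zpow_add, ← (Commute.refl b).mul_zpow, hB2 b hb, one_zpow]
        simp only [e, mul_one] at hzC ⊢
        exact hd.le ⟨hx, hzC⟩
      · exfalso
        apply hbn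
        have e : b ^ (2 * j + 1) = b := by
          rw [zpow_add_one, zpow_mul, zpow_two, hB2 b hb, one_zpow, one_mul]
        simp only [e] at hzC
        have := mul_mem (mem_sup_right (S := C₀) ((inv_mem hx : x⁻¹ ∈ B₁)))
          (mem_sup_left (T := B₁) hzC)
        rwa [inv_mul_cancel_left] at this
    exact hbn (mem_sup_right (hmax ⟨hle2, hd2⟩ le_sup_left (mem_sup_right (mem_zpowers b))))
  refine ⟨B₁, hle, hd, hsup, ?_⟩
  let f : ↥C₀ × ↥B₁ → ↥B := fun z => ⟨(z.1 : M) * z.2, mul_mem (hC z.1.2) (hle z.2.2)⟩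
  have hf : Function.Bijective f := by
    constructor
    · rintro ⟨c, d⟩ ⟨c', d'⟩ e
      have e' : (c : M) * d = c' * d' := congrArg Subtype.val e
      have h1 : (c' : M)⁻¹ * c = d' * (d : M)⁻¹ := by
        rw [eq_mul_inv_iff_mul_eq, mul_assoc, e', inv_mul_cancel_left]
      have h2 : (c' : M)⁻¹ * c ∈ (⊥ : Subgroup M) :=
        hd ▸ ⟨h1 ▸ B₁.mul_mem d'.2 (B₁.inv_mem d.2), C₀.mul_mem (C₀.inv_mem c'.2) c.2⟩
      rw [mem_bot, inv_mul_eq_one] at h2
      rw [h2] at e'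
      exact Prod.ext (Subtype.ext h2.symm) (Subtype.ext (mul_left_cancel e'))
    · rintro ⟨b, hb⟩
      have h := hsup hb
      have hn : B₁ ≤ normalizer (C₀ : Set M) := le_trans
        (fun d hd => mem_centralizer_iff.mpr fun c hc => hBc c (hC hc) d (hle hd))
        (centralizer_le_normalizer _)
      rw [← SetLike.mem_coe, coe_mul_of_right_le_normalizer_left _ _ hn] at h
      obtain ⟨c, hc, d, hd, rfl⟩ := h
      exact ⟨(⟨c, hc⟩, ⟨d, hd⟩), rfl⟩
  rw [← Nat.card_prod]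
  exact Nat.card_congr (Equiv.ofBijective f hf)

theorem card_sup_mul_inf {A : Type*} [CommGroup A] [Finite A] (H K : Subgroup A) :
    Nat.card ↥(H ⊔ K) * Nat.card ↥(H ⊓ K) = Nat.card H * Nat.card K := by
  have h1 : Nat.card K * K.relIndex (H ⊔ K) = Nat.card ↥(H ⊔ K) := by
    rw [← relIndex_bot_left, ← relIndex_bot_left, relIndex_mul_relIndex _ _ _ bot_le le_sup_right]
  have h2 : Nat.card ↥(H ⊓ K) * (H ⊓ K).relIndex H = Nat.card H := by
    rw [← relIndex_bot_left, ← relIndex_bot_left, relIndex_mul_relIndex _ _ _ bot_le inf_le_left]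
  rw [inf_relIndex_left] at h2
  rw [relIndex_sup_right] at h1
  rw [← h1, ← h2]
  ring

theorem closure_pair_isPGroup_two {a c : M} (hc : a * c = c * a) (ha : a * a = 1)
    (hcc : c * c = 1) : IsPGroup 2 ↥(closure ({a, c} : Set M)) := by
  have hcomm : ∀ x ∈ ({a, c} : Set M), ∀ y ∈ ({a, c} : Set M), x * y = y * x := by
    rintro x (rfl | rfl) y (rfl | rfl) <;> first | rfl | exact hc | exact hc.symm
  have hall : ∀ x ∈ closure ({a, c} : Set M), x * x = 1 ∧ x * a = a * x ∧ x * c = c * x := by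
    intro x hx
    induction hx using closure_induction with
    | mem y hy =>
      exact ⟨by rcases hy with rfl | rfl <;> assumption, hcomm y hy a (Or.inl rfl),
        hcomm y hy c (Or.inr rfl)⟩
    | one => simp
    | mul y z hy hz ey ez =>
      have hyz : Commute y z := by
        have hle : closure ({a, c} : Set M) ≤ centralizer {y} := (closure_le _).mpr (by
          rintro t (rfl | rfl) <;> rw [SetLike.mem_coe, mem_centralizer_singleton_iff]
          exacts [ey.2.1.symm, ey.2.2.symm])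
        exact (mem_centralizer_singleton_iff.mp (hle hz)).symm
      refine ⟨?_, ((show Commute y a from ey.2.1).mul_left (show Commute z a from ez.2.1)).eq,
        ((show Commute y c from ey.2.2).mul_left (show Commute z c from ez.2.2)).eq⟩
      rw [hyz.symm.mul_mul_mul_comm, ey.1, ez.1, one_mul]
    | inv y hy ey =>
      exact ⟨by rw [← mul_inv_rev, ey.1, inv_one], (show Commute y a from ey.2.1).inv_left.eq,
        (show Commute y c from ey.2.2).inv_left.eq⟩
  exact fun x => ⟨1, Subtype.ext (by rw [pow_one, pow_two]; exact (hall x x.2).1)⟩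

theorem eq_one_of_odd_of_sq {A : Type*} [Monoid A] {e : A} {n : ℕ} (hn : Odd n) (h : e ^ n = 1)
    (h2 : e * e = 1) : e = 1 := by
  obtain ⟨j, rfl⟩ := hn
  rwa [pow_succ, pow_mul, pow_two, h2, one_pow, one_mul] at h

/-- An element of odd order that fixes its own commutator with a vector fixes the vector. -/
theorem smul_eq_self_of_odd (hV2 : ∀ v : V, v * v = 1) {z : M} (hz : Odd (orderOf z)) {w : V}
    (h : z • ((z • w) * w⁻¹) = (z • w) * w⁻¹) : z • w = w := by
  set e := (z • w) * w⁻¹ with he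
  have hzw : z • w = w * e := by rw [he, mul_comm (z • w), mul_inv_cancel_left]
  have hpow : ∀ j : ℕ, (z ^ j) • w = w * e ^ j := by
    intro j
    induction j with
    | zero => simp
    | succ j ih' => rw [pow_succ', mul_smul, ih', smul_mul', smul_pow', h, hzw, pow_succ', mul_assoc]
  have h2 := hpow (orderOf z)
  rw [pow_orderOf_eq_one, one_smul, left_eq_mul] at h2
  exact mul_inv_eq_one.mp (eq_one_of_odd_of_sq hz h2 (hV2 e))

/-- If generators move `v` into the fixed points of `X`, then all of `X` does. -/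
theorem comm_mem_fixIn {X : Subgroup M} {W : Subgroup V} {v : V} {S : Set M}
    (hS : S ⊆ X) (hgen : X ≤ closure S) (h : ∀ s ∈ S, (s • v) * v⁻¹ ∈ fixIn X W) :
    ∀ y ∈ X, (y • v) * v⁻¹ ∈ fixIn X W := by
  let D : Subgroup M :=
    { carrier := {h | h ∈ X ∧ (h • v) * v⁻¹ ∈ fixIn X W}
      one_mem' := ⟨X.one_mem, by rw [one_smul, mul_inv_cancel]; exact one_mem _⟩
      mul_mem' := fun {h k} hh hk => ⟨X.mul_mem hh.1 hk.1, by
        have h6 : h • ((k • v) * v⁻¹) = (k • v) * v⁻¹ := hk.2.2 h hh.1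
        rw [smul_mul', smul_inv', mul_inv_eq_iff_eq_mul] at h6
        rw [mul_smul, h6, mul_assoc]
        exact mul_mem hk.2 hh.2⟩
      inv_mem' := fun {h} hh => ⟨X.inv_mem hh.1, by
        have h6 : h⁻¹ • ((h • v) * v⁻¹) = (h • v) * v⁻¹ := hh.2.2 _ (X.inv_mem hh.1)
        rw [smul_mul', inv_smul_smul, smul_inv'] at h6
        have : (h⁻¹ • v) * v⁻¹ = ((h • v) * v⁻¹)⁻¹ := by
          rw [← h6, mul_inv_rev, inv_inv]
        rw [this]
        exact inv_mem hh.2⟩ }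
  have hD : closure S ≤ D := (closure_le _).mpr fun s hs => ⟨hS hs, h s hs⟩
  exact fun y hy => (hD (hgen hy)).2

theorem le_normalizer_inf_centralizer_self {H O : Subgroup M}
    (h : H ≤ normalizer (O : Set M)) : H ≤ normalizer ((H ⊓ centralizer (O : Set M) : Subgroup M) : Set M) := by
  intro g hg
  rw [mem_normalizer_iff]
  intro x
  simp only [Subgroup.mem_inf, mem_centralizer_iff]
  refine and_congr (mem_normalizer_iff.mp (le_normalizer hg) x) ⟨fun hy o ho => ?_, fun hy o ho => ?_⟩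
  · have e := hy _ ((mem_normalizer_iff''.mp (h hg) o).mp ho)
    calc o * (g * x * g⁻¹) = g * (g⁻¹ * o * g * x) * g⁻¹ := by group
      _ = g * (x * (g⁻¹ * o * g)) * g⁻¹ := by rw [e]
      _ = _ := by group
  · have e := hy _ ((mem_normalizer_iff.mp (h hg) o).mp ho)
    calc o * x = g⁻¹ * ((g * o * g⁻¹) * (g * x * g⁻¹)) * g := by group
      _ = g⁻¹ * ((g * x * g⁻¹) * (g * o * g⁻¹)) * g := by rw [e]
      _ = _ := by group

set_option maxHeartbeats 1000000 in
/-- **Offender lemma**. -/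
theorem exists_plane_of_offender (hV2 : ∀ v : V, v * v = 1) :
    ∀ (X : Subgroup M) (W : Subgroup V) (B₀ : Subgroup M),
      (∀ x ∈ X, ∀ w ∈ W, x • w ∈ W) →
      (∀ T : Subgroup M, T ≤ X → IsPGroup 2 T → ∀ s ∈ T, ∀ t ∈ T, s * t = t * s) →
      (∀ T : Subgroup M, T ≤ X → IsPGroup 2 T → ∀ s ∈ T, ∀ t ∈ T, ∀ w ∈ W,
        s • ((t • w) * w⁻¹) = (t • w) * w⁻¹) →
      (∀ x ∈ X, Odd (orderOf x) → (∀ w ∈ W, x • w = w) → x = 1) →
      B₀ ≤ X → (∀ b ∈ B₀, b * b = 1) → B₀ ≠ ⊥ → B₀ ⊓ Cfsg.pCoreOf 2 X = ⊥ →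
      Nat.card W ≤ Nat.card B₀ * Nat.card (fixIn B₀ W) →
      ∃ (u u' : V) (a b : M), u ≠ 1 ∧ u' ≠ 1 ∧ u ≠ u' ∧ a ∈ X ∧ b ∈ X ∧ u ∈ W ∧ u' ∈ W ∧
        a • u = u ∧ a • u' = u * u' ∧ b • u' = u' ∧ b • u = u * u' := by
  intro X
  induction hn : Nat.card X using Nat.strong_induction_on generalizing X with
  | _ n ih =>
  subst hn
  intro W B₀ hinv hab hquad hker hB₀X hB₀2 hB₀ne hB₀core hoff₀
  by_contra hno
  haveI : Fact (Nat.Prime 2) := ⟨Nat.prime_two⟩
  -- a minimal offender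
  obtain ⟨B, ⟨hBB₀, hBne, hoff⟩, hmin'⟩ := Set.Finite.exists_minimal
    (Set.toFinite {B : Subgroup M | B ≤ B₀ ∧ B ≠ ⊥ ∧
      Nat.card W ≤ Nat.card B * Nat.card (fixIn B W)}) ⟨B₀, le_rfl, hB₀ne, hoff₀⟩
  have hBX : B ≤ X := hBB₀.trans hB₀X
  have hB2 : ∀ b ∈ B, b * b = 1 := fun b hb => hB₀2 b (hBB₀ hb)
  have hBcore : B ⊓ Cfsg.pCoreOf 2 X = ⊥ :=
    le_bot_iff.mp ((inf_le_inf_right _ hBB₀).trans hB₀core.le)
  have hBp : IsPGroup 2 B := fun b => ⟨1, Subtype.ext (by
    rw [pow_one, pow_two]; exact hB2 b b.2)⟩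
  have hBc : ∀ a ∈ B, ∀ b ∈ B, a * b = b * a := hab B hBX hBp
  have hmin : ∀ C₀ ≤ B, C₀ ≠ ⊥ → Nat.card W ≤ Nat.card C₀ * Nat.card (fixIn C₀ W) → C₀ = B :=
    fun C₀ hC hne h => le_antisymm hC (hmin' ⟨hC.trans hBB₀, hne, h⟩ hC)
  -- proper subgroups containing `B` have it in their `2`-core
  have hprop : ∀ H ≤ X, H ≠ X → B ≤ H → B ≤ Cfsg.pCoreOf 2 H := by
    intro H hHX hne hBH
    set O := Cfsg.pCoreOf 2 H
    set C₀ := B ⊓ O
    by_cases hC0 : C₀ = B
    · exact inf_eq_left.mp hC0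
    exfalso
    have hcardH : Nat.card H < Nat.card X :=
      lt_of_le_of_ne (card_le_of_le hHX) fun e => hne (eq_of_le_of_card_ge hHX e.ge)
    by_cases hC1 : C₀ = ⊥
    · exact hno (by
        obtain ⟨u, u', a, b, h1, h2, h3, ha, hb, h⟩ := ih _ hcardH H rfl W B
          (fun x hx => hinv x (hHX hx)) (fun T hT => hab T (hT.trans hHX))
          (fun T hT => hquad T (hT.trans hHX)) (fun x hx => hker x (hHX hx)) hBH hB2 hBne hC1 hoff
        exact ⟨u, u', a, b, h1, h2, h3, hHX ha, hHX hb, h⟩)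
    have hlt : ¬ Nat.card W ≤ Nat.card C₀ * Nat.card (fixIn C₀ W) :=
      fun h => hC0 (hmin C₀ inf_le_left hC1 h)
    obtain ⟨B₁, hB₁, hB₁d, hB₁s, hB₁c⟩ := exists_complement_two hB2 hBc (inf_le_left : C₀ ≤ B)
    set K := H ⊓ centralizer (O : Set M)
    have hOH : O ≤ H := LocalEvenA.pCoreOf_le' 2 H
    have hnO : B ≤ normalizer (O : Set M) := hBH.trans (LocalEvenA.le_normalizer_pCoreOf 2 H)
    have hBO : IsPGroup 2 ↥(B ⊔ O) :=
      hBp.to_sup_of_normal_right' (LocalEvenA.pCoreOf_isPGroup' 2 H) hnO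
    have hBK : B ≤ K := fun b hb => ⟨hBH hb, mem_centralizer_iff.mpr fun o ho =>
      hab (B ⊔ O) (sup_le hBX (hOH.trans hHX)) hBO o (mem_sup_right ho) b (mem_sup_left hb)⟩
    have hKH : K ≤ H := inf_le_left
    have hKX : K ≤ X := hKH.trans hHX
    have hcardK : Nat.card K < Nat.card X := lt_of_le_of_lt (card_le_of_le hKH) hcardH
    have hKn : H ≤ normalizer (K : Set M) :=
      le_normalizer_inf_centralizer_self (LocalEvenA.le_normalizer_pCoreOf 2 H)
    have hcoreK : Cfsg.pCoreOf 2 K ≤ O := LocalEvenA.le_pCoreOf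
      ((LocalEvenA.pCoreOf_le' 2 K).trans hKH) (hKn.trans (LocalEvenA.pCoreOf_normalizer 2 K))
      (LocalEvenA.pCoreOf_isPGroup' 2 K)
    have hB₁core : B₁ ⊓ Cfsg.pCoreOf 2 K = ⊥ := by
      rw [eq_bot_iff]
      exact fun z hz => hB₁d.le ⟨hz.1, hB₁ hz.1, hcoreK hz.2⟩
    have hB₁ne : B₁ ≠ ⊥ := fun h => hC0 (le_antisymm inf_le_left (hB₁s.trans (by rw [h, sup_bot_eq])))
    set W' := fixIn C₀ W
    have hcomm : ∀ x ∈ K, ∀ c ∈ C₀, c * x = x * c := fun x hx c hc =>
      mem_centralizer_iff.mp hx.2 c hc.2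
    have hinvK : ∀ x ∈ K, ∀ w ∈ W', x • w ∈ W' := by
      intro x hx w hw
      refine ⟨hinv x (hKX hx) w hw.1, fun c hc => ?_⟩
      rw [← mul_smul, hcomm x hx c hc, mul_smul, hw.2 c hc]
    have hC₀X : C₀ ≤ X := inf_le_left.trans hBX
    have hC₀p : IsPGroup 2 C₀ := hBp.to_le inf_le_left
    have hkerK : ∀ x ∈ K, Odd (orderOf x) → (∀ w ∈ W', x • w = w) → x = 1 := by
      intro y hy hodd hfix
      refine hker y (hKX hy) hodd fun w hw => smul_eq_self_of_odd hV2 hodd (hfix _ ?_)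
      refine ⟨W.mul_mem (hinv y (hKX hy) w hw) (W.inv_mem hw), fun c hc => ?_⟩
      have hd : (c • w) * w⁻¹ ∈ W' := ⟨W.mul_mem (hinv c (hC₀X hc) w hw) (W.inv_mem hw),
        fun c' hc' => hquad C₀ hC₀X hC₀p c' hc' c hc w hw⟩
      have h1 := hfix _ hd
      rw [smul_mul', smul_inv', ← mul_smul, ← hcomm y hy c hc, mul_smul,
        mul_inv_eq_iff_eq_mul] at h1
      rw [smul_mul', smul_inv', h1, mul_inv_eq_iff_eq_mul]
      calc c • w * w⁻¹ * y • w = y • w * w⁻¹ * c • w := by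
            rw [mul_comm (c • w * w⁻¹), mul_comm (c • w) w⁻¹, ← mul_assoc]
        _ = _ := rfl
    have hfixeq : fixIn B₁ W' = fixIn B W := by
      ext w
      constructor
      · rintro ⟨⟨hw, hw0⟩, hw1⟩
        refine ⟨hw, fun b hb => ?_⟩
        have hle : C₀ ⊔ B₁ ≤ MulAction.stabilizer M w :=
          sup_le (fun c hc => hw0 c hc) (fun c hc => hw1 c hc)
        exact hle (hB₁s hb)
      · rintro ⟨hw, hwB⟩
        exact ⟨⟨hw, fun c hc => hwB c hc.1⟩, fun c hc => hwB c (hB₁ hc)⟩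
    have hoff' : Nat.card W' ≤ Nat.card B₁ * Nat.card (fixIn B₁ W') := by
      rw [hfixeq]
      have h1 : Nat.card C₀ * Nat.card W' <
          Nat.card C₀ * (Nat.card B₁ * Nat.card (fixIn B W)) := by
        rw [← mul_assoc, hB₁c]
        exact lt_of_lt_of_le (Nat.lt_of_not_le hlt) hoff
      exact (Nat.lt_of_mul_lt_mul_left h1).le
    exact hno (by
      obtain ⟨u, u', a, b, h1, h2, h3, ha, hb, h4, h5, h⟩ := ih _ hcardK K rfl W' B₁ hinvK
        (fun T hT => hab T (hT.trans hKX))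
        (fun T hT hTp s hs t ht w hw => hquad T (hT.trans hKX) hTp s hs t ht w hw.1) hkerK
        (hB₁.trans hBK) (fun b hb => hB2 b (hB₁ hb)) hB₁ne hB₁core hoff'
      exact ⟨u, u', a, b, h1, h2, h3, hKX ha, hKX hb, h4.1, h5.1, h⟩)
  -- a conjugate of `B` not commuting with it
  obtain ⟨g, hg, hgnc⟩ : ∃ g ∈ X, ¬ ∀ a ∈ B, ∀ c ∈ ConjFunctor.cj g B, a * c = c * a := by
    by_contra hcon
    push Not at hcon
    apply hBne
    rw [← hBcore, left_eq_inf]
    intro a ha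
    obtain ⟨N, hN, hN2, haN⟩ := Invol.baerSuzuki_element (p := 2) (x := (⟨a, hBX ha⟩ : ↥X))
      (fun h => by
        refine closure_pair_isPGroup_two ?_ (Subtype.ext (hB2 a ha)) ?_
        · exact Subtype.ext (hcon h h.2 a ha _ (ConjFunctor.conj_mem_cj ha))
        · apply Subtype.ext
          show ((h : M) * a * (h : M)⁻¹) * ((h : M) * a * (h : M)⁻¹) = 1
          rw [show ((h : M) * a * (h : M)⁻¹) * ((h : M) * a * (h : M)⁻¹) =
            (h : M) * (a * a) * (h : M)⁻¹ by group, hB2 a ha, mul_one, mul_inv_cancel])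
    refine LocalEvenA.le_pCoreOf (N := N.map X.subtype) (map_subtype_le N) ?_ (hN2.map _)
      ⟨_, haN, rfl⟩
    intro x hx
    rw [mem_normalizer_iff]
    intro z
    constructor
    · rintro ⟨z', hz', rfl⟩
      exact ⟨⟨x, hx⟩ * z' * ⟨x, hx⟩⁻¹, hN.conj_mem _ hz' _, by simp⟩
    · rintro ⟨z', hz', e⟩
      refine ⟨⟨x, hx⟩⁻¹ * z' * ⟨x, hx⟩, hN.conj_mem' _ hz' _, ?_⟩
      simp only [coe_subtype] at e
      simp [e, mul_assoc]
  set B' := ConjFunctor.cj g B
  have hgm : ∀ (H : Subgroup M) (k : M), H ≤ X → k ∈ X → ConjFunctor.cj k H ≤ X := by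
    intro H k hH hk x hx
    have h := hH (ConjFunctor.mem_cj.mp hx)
    have h2 := X.mul_mem (X.mul_mem hk h) (X.inv_mem hk)
    simpa [mul_assoc] using h2
  have hB'X : B' ≤ X := hgm B g hBX hg
  have hB'p : IsPGroup 2 B' := ConjFunctor.cj_isPGroup g hBp
  have hB'core : B' ⊓ Cfsg.pCoreOf 2 X = ⊥ := by
    rw [eq_bot_iff]
    rintro z ⟨hz, hzO⟩
    have h1 : g⁻¹ * z * g ∈ Cfsg.pCoreOf 2 X :=
      (mem_normalizer_iff''.mp (LocalEvenA.le_normalizer_pCoreOf 2 X hg) z).mp hzO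
    have h2 := mem_bot.mp (hBcore ▸ ⟨ConjFunctor.mem_cj.mp hz, h1⟩ : g⁻¹ * z * g ∈ (⊥ : Subgroup M))
    rw [mem_bot]
    calc z = g * (g⁻¹ * z * g) * g⁻¹ := by group
      _ = 1 := by rw [h2]; group
  have hprop' : ∀ H ≤ X, H ≠ X → B' ≤ H → B' ≤ Cfsg.pCoreOf 2 H := by
    intro H hHX hne hB'H
    set H' := ConjFunctor.cj g⁻¹ H
    have hH'X : H' ≤ X := hgm H g⁻¹ hHX (X.inv_mem hg)
    have hH'ne : H' ≠ X := by
      intro e
      apply hne
      refine eq_of_le_of_card_ge hHX ?_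
      rw [← e, ConjFunctor.cj_card]
    have hBH' : B ≤ H' := by
      intro b hb
      rw [ConjFunctor.mem_cj, inv_inv]
      exact hB'H (ConjFunctor.conj_mem_cj hb)
    have h1 := hprop H' hH'X hH'ne hBH'
    have h2 : ConjFunctor.cj g (Cfsg.pCoreOf 2 H') ≤ Cfsg.pCoreOf 2 H := by
      refine LocalEvenA.le_pCoreOf ?_ ?_
        (ConjFunctor.cj_isPGroup g (LocalEvenA.pCoreOf_isPGroup' 2 H'))
      · exact le_trans (ConjFunctor.cj_le_cj.mpr (LocalEvenA.pCoreOf_le' 2 H'))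
          (ConjFunctor.cj_cj_inv g H).le
      · rw [← ConjFunctor.cj_normalizer g]
        calc H = ConjFunctor.cj g H' := (ConjFunctor.cj_cj_inv g H).symm
          _ ≤ _ := ConjFunctor.cj_le_cj.mpr (LocalEvenA.le_normalizer_pCoreOf 2 H')
    exact (ConjFunctor.cj_le_cj.mpr h1).trans h2
  -- `D` and one element of `D'` generate `X`
  have hgenG : ∀ D D' : Subgroup M, D ≤ X → D' ≤ X → IsPGroup 2 D' →
      D' ⊓ Cfsg.pCoreOf 2 X = ⊥ →
      (∀ H ≤ X, H ≠ X → D ≤ H → D ≤ Cfsg.pCoreOf 2 H) →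
      (∀ H ≤ X, H ≠ X → D' ≤ H → D' ≤ Cfsg.pCoreOf 2 H) →
      ¬ (∀ a ∈ D, ∀ c ∈ D', a * c = c * a) →
      ∀ b ∈ D', b ≠ 1 → X ≤ closure (↑D ∪ {b}) := by
    intro D D' hDX hD'X hD'p hD'core hpD hpD' hnc b hb hb1
    set H := closure ((D : Set M) ∪ {b})
    have hHX : H ≤ X := (closure_le _).mpr (Set.union_subset hDX (by simpa using hD'X hb))
    by_contra hXH
    have hne : H ≠ X := fun e => hXH e.ge
    have hbH : b ∈ H := subset_closure (Or.inr rfl)
    have h1 := hpD H hHX hne fun a ha => subset_closure (Or.inl ha)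
    have hzb : IsPGroup 2 ↥(zpowers b) := hD'p.to_le (zpowers_le.mpr hb)
    have hbD : ∀ a ∈ D, a * b = b * a := by
      intro a ha
      have hsup : IsPGroup 2 ↥(zpowers b ⊔ Cfsg.pCoreOf 2 H) :=
        hzb.to_sup_of_normal_right' (LocalEvenA.pCoreOf_isPGroup' 2 H)
          (zpowers_le.mpr (LocalEvenA.le_normalizer_pCoreOf 2 H hbH))
      exact hab _ (sup_le (zpowers_le.mpr (hD'X hb))
        ((LocalEvenA.pCoreOf_le' 2 H).trans hHX)) hsup a (mem_sup_right (h1 ha)) b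
        (mem_sup_left (mem_zpowers b))
    set K := X ⊓ centralizer {b}
    by_cases hK : K = X
    · have hnb : zpowers b ≤ Cfsg.pCoreOf 2 X := by
        refine LocalEvenA.le_pCoreOf (zpowers_le.mpr (hD'X hb)) (fun x hx => ?_) hzb
        refine centralizer_le_normalizer _ (mem_centralizer_iff.mpr ?_)
        rintro _ ⟨i, rfl⟩
        have hx' : x ∈ K := hK.ge hx
        exact ((show Commute x b from mem_centralizer_singleton_iff.mp hx'.2).zpow_right i).eq.symm
      exact hb1 (mem_bot.mp (hD'core ▸ ⟨hb, hnb (mem_zpowers b)⟩ : b ∈ (⊥ : Subgroup M)))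
    have hDK : D ≤ K := fun a ha => ⟨hDX ha, mem_centralizer_singleton_iff.mpr (hbD a ha)⟩
    have hD'K : D' ≤ K := fun a ha =>
      ⟨hD'X ha, mem_centralizer_singleton_iff.mpr (hab D' hD'X hD'p a ha b hb)⟩
    exact hnc fun a ha c hc => hab _ ((LocalEvenA.pCoreOf_le' 2 K).trans inf_le_left)
      (LocalEvenA.pCoreOf_isPGroup' 2 K) a (hpD K inf_le_left hK hDK ha) c
      (hpD' K inf_le_left hK hD'K hc)
  have hgen : ∀ b ∈ B', b ≠ 1 → X ≤ closure (↑B ∪ {b}) :=
    hgenG B B' hBX hB'X hB'p hB'core hprop hprop' hgnc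
  have hgen' : ∀ a ∈ B, a ≠ 1 → X ≤ closure (↑B' ∪ {a}) :=
    hgenG B' B hB'X hBX hBp hBcore hprop' hprop fun h => hgnc fun a ha c hc => (h c hc a ha).symm
  -- counting fixed points
  set F := fixIn B W
  set F' := fixIn B' W
  set C := fixIn X W
  have hCF : C ≤ F := fun w hw => ⟨hw.1, fun b hb => hw.2 b (hBX hb)⟩
  have hCF' : C ≤ F' := fun w hw => ⟨hw.1, fun b hb => hw.2 b (hB'X hb)⟩
  have hcard : Nat.card F' = Nat.card F := fixIn_cj (hinv g hg) (hinv g⁻¹ (X.inv_mem hg)) B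
  have hfixC : ∀ (D : Subgroup M) (b : M), X ≤ closure (↑D ∪ {b}) →
      ∀ w ∈ fixIn D W, b • w = w → w ∈ C := by
    intro D b hgenb w hw hbw
    have hle : closure (↑D ∪ {b}) ≤ MulAction.stabilizer M w :=
      (closure_le _).mpr (Set.union_subset (fun a ha => hw.2 a ha) (by simpa using hbw))
    exact ⟨hw.1, fun x hx => hle (hgenb hx)⟩
  obtain ⟨b, hb, hb1⟩ : ∃ b ∈ B', b ≠ (1 : M) := by
    by_contra hcon
    push Not at hcon
    exact hBne (ConjFunctor.cj_eq_bot.mp ((Subgroup.eq_bot_iff_forall _).mpr hcon))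
  have hinter : F ⊓ F' = C :=
    le_antisymm (fun w hw => hfixC B b (hgen b hb hb1) w hw.1 (hw.2.2 b hb)) (le_inf hCF hCF')
  have hFle : Nat.card F ≤ Nat.card B * Nat.card C := by
    have h1 := card_sup_mul_inf F F'
    rw [hinter, hcard] at h1
    have h2 : Nat.card ↥(F ⊔ F') ≤ Nat.card B * Nat.card F :=
      (card_le_of_le (sup_le (fixIn_le _ _) (fixIn_le _ _))).trans hoff
    have h3 : Nat.card F * Nat.card F ≤ Nat.card F * (Nat.card B * Nat.card C) := by
      calc Nat.card F * Nat.card F = Nat.card ↥(F ⊔ F') * Nat.card C := h1.symm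
        _ ≤ Nat.card B * Nat.card F * Nat.card C := Nat.mul_le_mul_right _ h2
        _ = _ := by ring
    exact Nat.le_of_mul_le_mul_left h3 Nat.card_pos
  -- a fixed point of `B` not fixed by `X`
  obtain ⟨x, hxF, hxC⟩ : ∃ x ∈ F, x ∉ C := by
    by_contra hcon
    push Not at hcon
    have hFC : F = C := le_antisymm hcon hCF
    have hF'C : F' = C :=
      (eq_of_le_of_card_ge hCF' (by rw [hcard, hFC])).symm
    have hcent : ∀ w ∈ W, ∀ y ∈ X, (y • w) * w⁻¹ ∈ C := by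
      intro w hw
      refine comm_mem_fixIn (S := ↑B ∪ {b}) ?_ (hgen b hb hb1) ?_
      · exact Set.union_subset hBX (by simpa using hB'X hb)
      · rintro s (hs | rfl)
        · show _ ∈ C
          rw [← hFC]
          exact ⟨W.mul_mem (hinv s (hBX hs) w hw) (W.inv_mem hw),
            fun e he => hquad B hBX hBp e he s hs w hw⟩
        · show _ ∈ C
          rw [← hF'C]
          exact ⟨W.mul_mem (hinv _ (hB'X hb) w hw) (W.inv_mem hw),
            fun e he => hquad B' hB'X hB'p e he _ hb w hw⟩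
    apply hBne
    rw [← hBcore, left_eq_inf]
    refine hBX.trans (LocalEvenA.le_pCoreOf le_rfl le_normalizer ?_)
    intro y
    refine ⟨(orderOf (y : M)).factorization 2, Subtype.ext ?_⟩
    rw [SubgroupClass.coe_pow, OneMemClass.coe_one]
    have hz : (y : M) ^ 2 ^ (orderOf (y : M)).factorization 2 ∈ X := X.pow_mem y.2 _
    have hzodd : Odd (orderOf ((y : M) ^ 2 ^ (orderOf (y : M)).factorization 2)) := by
      rw [orderOf_pow' _ (pow_ne_zero _ two_ne_zero),
        Nat.gcd_eq_right (Nat.ordProj_dvd (orderOf (y : M)) 2), Nat.odd_iff,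
        ← Nat.two_dvd_ne_zero]
      exact Nat.not_dvd_ordCompl Nat.prime_two (orderOf_pos (y : M)).ne'
    exact hker _ hz hzodd fun w hw =>
      smul_eq_self_of_odd hV2 hzodd ((hcent w hw _ hz).2 _ hz)
  -- injectivity of commutator maps
  have hinjG : ∀ (D : Subgroup M) (k : M), k ∈ X → D ≤ X → ConjFunctor.cj k D ≤ X →
      (∀ d ∈ ConjFunctor.cj k D, d ≠ 1 → X ≤ closure (↑D ∪ {d})) →
      ∀ v ∈ fixIn D W, v ∉ C → ∀ d ∈ ConjFunctor.cj k D, (d • v) * v⁻¹ ∈ C → d = 1 := by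
    intro D k hk hDX hD'X hgenD v hv hvC d hd hc
    by_contra hd1
    apply hvC
    refine hfixC D d (hgenD d hd hd1) v hv ?_
    have hall : ∀ y ∈ X, (y • v) * v⁻¹ ∈ C := by
      refine comm_mem_fixIn (S := ↑D ∪ {d}) ?_ (hgenD d hd hd1) ?_
      · exact Set.union_subset hDX (by simpa using hD'X hd)
      · rintro s (hs | rfl)
        · rw [hv.2 s hs, mul_inv_cancel]
          exact one_mem _
        · exact hc
    have hcC := hall _ (X.inv_mem hk)
    have h1 : k⁻¹ • v = ((k⁻¹ • v) * v⁻¹) * v := by rw [inv_mul_cancel_right]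
    have hd' := ConjFunctor.mem_cj.mp hd
    have h2 : (k⁻¹ * d * k) • (k⁻¹ • v) = k⁻¹ • v := by
      rw [h1, smul_mul', hcC.2 _ (hDX hd'), hv.2 _ hd']
    rw [mul_smul, mul_smul, smul_inv_smul] at h2
    exact smul_left_cancel _ h2
  set x' := (b • x) * x⁻¹ with hx'
  have hx'F : x' ∈ F' := ⟨W.mul_mem (hinv b (hB'X hb) x hxF.1) (W.inv_mem hxF.1),
    fun e he => hquad B' hB'X hB'p e he b hb x hxF.1⟩
  have hx'C : x' ∉ C := fun h => hb1 (hinjG B g hg hBX hB'X hgen x hxF hxC b hb h)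
  have hcjB' : ConjFunctor.cj g⁻¹ B' = B := ConjFunctor.cj_inv_cj g B
  have hinjB : ∀ a ∈ B, (a • x') * x'⁻¹ ∈ C → a = 1 := by
    intro a ha hc
    exact hinjG B' g⁻¹ (X.inv_mem hg) hB'X (hcjB'.trans_le hBX)
      (fun d hd => hgen' d (hcjB'.le hd)) x' hx'F hx'C a (hcjB'.ge ha) hc
  -- the commutator map at `x'` is onto
  obtain ⟨a, ha, c, hc, hac⟩ : ∃ a ∈ B, ∃ c ∈ C, (a • x') * x'⁻¹ * c = x := by
    let f : ↥B × ↥C → ↥F := fun z => ⟨((z.1 : M) • x') * x'⁻¹ * z.2, mul_mem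
      ⟨W.mul_mem (hinv _ (hBX z.1.2) x' hx'F.1) (W.inv_mem hx'F.1),
        fun e he => hquad B hBX hBp e he _ z.1.2 x' hx'F.1⟩ (hCF z.2.2)⟩
    have hf : Function.Injective f := by
      rintro ⟨d, c⟩ ⟨e, c'⟩ h
      have h' : ((d : M) • x') * x'⁻¹ * c = ((e : M) • x') * x'⁻¹ * c' := congrArg Subtype.val h
      have hde : (d : M) = e := by
        have h4 : (((d : M) * e) • x') * x'⁻¹ =
            (((d : M) • x') * x'⁻¹) * (((e : M) • x') * x'⁻¹) := by
          have h6 := hquad B hBX hBp d d.2 e e.2 x' hx'F.1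
          rw [smul_mul', smul_inv', mul_inv_eq_iff_eq_mul] at h6
          rw [mul_smul, h6, mul_assoc, mul_comm (((d : M) • x') * x'⁻¹)]
        have h5 : (((d : M) * e) • x') * x'⁻¹ ∈ C := by
          have hee : (((e : M) • x') * x'⁻¹) = (((e : M) • x') * x'⁻¹)⁻¹ :=
            eq_inv_of_mul_eq_one_left (hV2 _)
          rw [h4, hee, ← div_eq_mul_inv, show ((d : M) • x') * x'⁻¹ / (((e : M) • x') * x'⁻¹)
            = (c' : V) / c by rw [div_eq_div_iff_mul_eq_mul, h']; exact mul_comm _ _]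
          exact div_mem c'.2 c.2
        have h7 := hinjB _ (mul_mem d.2 e.2) h5
        calc (d : M) = (d : M) * ((e : M) * e) := by rw [hB2 _ e.2, mul_one]
          _ = e := by rw [← mul_assoc, h7, one_mul]
      refine Prod.ext (Subtype.ext hde) (Subtype.ext ?_)
      rw [hde] at h'
      exact mul_left_cancel h'
    have hbij : Function.Bijective f := hf.bijective_of_nat_card_le (by rwa [Nat.card_prod])
    obtain ⟨⟨d, c⟩, hdc⟩ := hbij.2 ⟨x, hxF⟩
    exact ⟨d, d.2, c, c.2, congrArg Subtype.val hdc⟩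
  set u := (a • x') * x'⁻¹ with hu
  have hxu : x = u * c := hac.symm
  have hax : a • x' = u * x' := by rw [hu, inv_mul_cancel_right]
  have huC : u ∉ C := fun h => hxC (hxu ▸ mul_mem h hc)
  have huF : u ∈ F := ⟨W.mul_mem (hinv a (hBX ha) x' hx'F.1) (W.inv_mem hx'F.1),
    fun e he => hquad B hBX hBp e he a ha x' hx'F.1⟩
  have hbu : b • u = u * x' := by
    have hcb : b • c = c := hc.2 b (hB'X hb)
    have h1 : x' = (b • u) * u⁻¹ := by
      rw [hx', hxu, smul_mul', hcb, mul_inv, mul_mul_mul_comm, mul_inv_cancel, mul_one]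
    rw [h1, mul_comm (b • u), mul_inv_cancel_left]
  refine hno ⟨u, x', a, b, fun h => huC (h ▸ one_mem C), fun h => hx'C (h ▸ one_mem C), ?_,
    hBX ha, hB'X hb, huF.1, hx'F.1, huF.2 a ha, hax, hx'F.2 b hb, hbu⟩
  intro e
  exact huC (hinter ▸ ⟨huF, e ▸ hx'F⟩)

end Cfsg.Agent.SL2Dickson
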