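import Mathlib
import Cfsg.Agent.Lib.SL2Dickson.QuadraticFour
import Cfsg.Agent.Lib.SL2Dickson.Stability
import Cfsg.Agent.Lib.LocalEvenA.PReduced
import Cfsg.Agent.Lib.Transfer.FourPlane
import Cfsg.Agent.Lib.Transfer.MaxAbelian
import Cfsg.Agent.Lib.Components.PConstrained
import Cfsg.Agent.Lib.Components.PLocal

/-!
# `S₄`-free groups with a Sylow `2`-subgroup of class two: the Thompson factorization
-/

set_option autoImplicit false
set_option linter.style.haveILetI false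
set_option linter.unusedSectionVars false

namespace Cfsg.Agent.SL2Dickson

open Subgroup
open scoped commutatorElement

universe u

variable {G : Type u} [Group G] [Finite G]

theorem card_sup_mul_inf_normal (H W : Subgroup G) [W.Normal] :
    Nat.card ↥(H ⊔ W) * Nat.card ↥(W ⊓ H) = Nat.card H * Nat.card W := by
  have h1 : Nat.card W * W.relIndex (H ⊔ W) = Nat.card ↥(H ⊔ W) := by
    rw [← relIndex_bot_left, ← relIndex_bot_left, relIndex_mul_relIndex _ _ _ bot_le le_sup_right]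
  have h2 : Nat.card ↥(W ⊓ H) * (W ⊓ H).relIndex H = Nat.card H := by
    rw [← relIndex_bot_left, ← relIndex_bot_left, relIndex_mul_relIndex _ _ _ bot_le inf_le_right]
  rw [inf_relIndex_right] at h2
  rw [relIndex_sup_right] at h1
  rw [← h1, ← h2]
  ring

set_option maxHeartbeats 1000000 in
/-- In an `S₄`-free group with `C(O₂) ≤ O₂` and Sylow `2`-subgroup `S` of class at most two,
`J(S)` lies in `O₂`. -/
theorem thompson_le_pCore_of_classTwo
    (hC : centralizer (Cfsg.pCore 2 G : Set G) ≤ Cfsg.pCore 2 G)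
    (hS4 : ¬ Cfsg.Involves (Equiv.Perm (Fin 4)) G) (S : Sylow 2 G)
    (hcl : ∀ x ∈ (S : Subgroup G), ∀ y ∈ (S : Subgroup G), ∀ z ∈ (S : Subgroup G),
      z * ⁅x, y⁆ = ⁅x, y⁆ * z) :
    Transfer.JAb 2 (S : Subgroup G) ≤ Cfsg.pCore 2 G := by
  classical
  haveI : Fact (Nat.Prime 2) := ⟨Nat.prime_two⟩
  haveI hQn := LocalEvenA.pCore_normal' 2 G
  set Q := Cfsg.pCore 2 G with hQdef
  have hQS : Q ≤ (S : Subgroup G) := (LocalEvenA.pCore_isPGroup' 2 G).le_sylow_of_normal S
  set Z := Cfsg.omegaOne 2 ((S : Subgroup G) ⊓ centralizer ((S : Subgroup G) : Set G)) with hZdef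
  have hZle : Z ≤ Cfsg.omegaOne 2 (Q ⊓ centralizer (Q : Set G)) :=
    (closure_le _).mpr fun x hx =>
      subset_closure ⟨LocalEvenA.center_sylow_le S hC hx.1, hx.2⟩
  set W := normalClosure (Z : Set G) with hWdef
  haveI hWn : W.Normal := normalClosure_normal
  have hWe : IsElementaryAbelian 2 W := LocalEvenA.elemAb_normalClosure hZle
  have hWred : Cfsg.IsPReducedNormal 2 W := LocalEvenA.pReduced_normalClosure S
    (fun x hx => ((LocalEvenA.omegaOne_le 2 _) hx).2) hWe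
  obtain ⟨hCWn, hcoreM⟩ := hWred.2.2
  haveI := hCWn
  have hWQ : W ≤ Q := LocalEvenA.pReduced_le_pCore hWred
  have hWS : W ≤ (S : Subgroup G) := hWQ.trans hQS
  have hW2 : ∀ w ∈ W, w * w = 1 := fun w hw => by rw [← pow_two]; exact hWe.2 w hw
  refine sSup_le fun A hA => ?_
  have hAS : A ≤ (S : Subgroup G) := hA.1
  have hA2 : ∀ a ∈ A, a * a = 1 := fun a ha => by rw [← pow_two]; exact hA.2.1.2 a ha
  set C := centralizer (W : Set G) with hCdef
  by_cases hAC : A ≤ C
  · -- `A` is then in `O₂`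
    haveI : (Q.map (QuotientGroup.mk' W)).Normal :=
      hQn.map _ (QuotientGroup.mk'_surjective W)
    set K := (centralizer ((Q.map (QuotientGroup.mk' W) : Subgroup (G ⧸ W)) : Set (G ⧸ W))).comap
      (QuotientGroup.mk' W) with hKdef
    have hAK : A ≤ K := by
      intro a ha
      rintro _ ⟨q, hq, rfl⟩
      have hc : ⁅q, a⁆ ∈ W := by
        apply subset_normalClosure
        refine subset_closure ⟨⟨?_, fun z hz => hcl q (hQS hq) a (hAS ha) z hz⟩, ?_⟩
        · exact (S : Subgroup G).mul_mem ((S : Subgroup G).mul_mem ((S : Subgroup G).mul_mem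
            (hQS hq) (hAS ha)) ((S : Subgroup G).inv_mem (hQS hq))) ((S : Subgroup G).inv_mem (hAS ha))
        · have h1 : a * ⁅q, a⁆ = ⁅q, a⁆ * a := hcl q (hQS hq) a (hAS ha) a (hAS ha)
          have h3 : ⁅q, a * a⁆ = ⁅q, a⁆ * (a * ⁅q, a⁆ * a⁻¹) := by
            simp only [commutatorElement_def]; group
          rw [hA2 a ha, commutatorElement_one_right, h1, mul_inv_cancel_right] at h3
          rw [pow_two, ← h3]
      rw [← map_mul, ← map_mul, QuotientGroup.mk'_apply, QuotientGroup.mk'_apply, QuotientGroup.eq]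
      have := hWn.conj_mem _ (W.inv_mem hc) ((q * a)⁻¹)
      simpa [commutatorElement_def, mul_assoc] using this
    set N := normalClosure (A : Set G) with hNdef
    haveI : N.Normal := normalClosure_normal
    have hN : N ≤ C ⊓ K := normalClosure_le_normal (le_inf hAC hAK)
    have hNp : IsPGroup 2 N := by
      refine LocalEvenA.isPGroup_of_forall_coprime fun n hn hno => ?_
      have hnQ : n ∈ Q := by
        apply hC
        intro q hq
        have hb : q⁻¹ * (n * q * n⁻¹) ∈ W := by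
          have h := (hN hn).2 _ ⟨q, hq, rfl⟩
          rw [← map_mul, ← map_mul, QuotientGroup.mk'_apply, QuotientGroup.mk'_apply,
            QuotientGroup.eq] at h
          have := hWn.conj_mem _ h n
          simpa [mul_assoc] using this
        exact (LocalEvenA.comm_of_coprime_chain hno ⟨1, by rw [pow_one]; exact hWe.2 _ hb⟩
          ((hN hn).1 _ hb).symm).eq.symm
      obtain ⟨k, hk⟩ := LocalEvenA.pCore_isPGroup' 2 G ⟨n, hnQ⟩
      exact LocalEvenA.eq_one_of_pPow_of_coprime (congrArg Subtype.val hk) hno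
    exact le_normalClosure.trans (LocalEvenA.le_pCore_of_normal inferInstance hNp)
  -- otherwise `A` gives an offender on `W`
  exfalso
  letI : CommGroup ↥W :=
    { (inferInstance : Group ↥W) with
      mul_comm := fun x y => Subtype.ext (LocalEvenA.elemAb_comm hWe x.2 y.2) }
  let φ : G →* MulAut ↥W := MulAut.conjNormal
  let φ' : G ⧸ C →* MulAut ↥W := QuotientGroup.lift C φ fun g hg => MulEquiv.ext fun w =>
    Subtype.ext (by
      show g * (w : G) * g⁻¹ = w
      rw [← hg w w.2, mul_inv_cancel_right])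
  letI : MulDistribMulAction (G ⧸ C) ↥W := MulDistribMulAction.compHom ↥W φ'
  set π := QuotientGroup.mk' C with hπdef
  have hπsurj : Function.Surjective π := QuotientGroup.mk'_surjective C
  have hsmul : ∀ (g : G) (w : ↥W), ((π g • w : ↥W) : G) = g * w * g⁻¹ := fun g w => rfl
  have hlift : ∀ T : Subgroup (G ⧸ C), IsPGroup 2 T →
      ∃ g : G, ∀ t ∈ T, ∃ s ∈ (S : Subgroup G), t = π (g * s * g⁻¹) := by
    intro T hT
    obtain ⟨P, hP⟩ := hT.exists_le_sylow
    obtain ⟨y, hy⟩ := MulAction.exists_smul_eq (G ⧸ C) (S.mapSurjective hπsurj) P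
    obtain ⟨g, rfl⟩ := hπsurj y
    refine ⟨g, fun t ht => ?_⟩
    have h := hP ht
    rw [← hy] at h
    obtain ⟨_, ⟨s, hs, rfl⟩, rfl⟩ := h
    exact ⟨s, hs, by simp⟩
  have hab : ∀ T : Subgroup (G ⧸ C), T ≤ ⊤ → IsPGroup 2 T → ∀ s ∈ T, ∀ t ∈ T, s * t = t * s := by
    intro T _ hT s hs t ht
    obtain ⟨g, hg⟩ := hlift T hT
    obtain ⟨x, hx, rfl⟩ := hg s hs
    obtain ⟨y, hy, rfl⟩ := hg t ht
    rw [← commutatorElement_eq_one_iff_mul_comm, ← map_commutatorElement]
    refine (QuotientGroup.eq_one_iff _).mpr ?_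
    rw [show ⁅g * x * g⁻¹, g * y * g⁻¹⁆ = g * ⁅x, y⁆ * g⁻¹ by
      simp only [commutatorElement_def]; group]
    exact hCWn.conj_mem _ (fun w hw => hcl x hx y hy w (hWS hw)) g
  have hquad : ∀ T : Subgroup (G ⧸ C), T ≤ ⊤ → IsPGroup 2 T → ∀ s ∈ T, ∀ t ∈ T,
      ∀ w ∈ (⊤ : Subgroup ↥W), s • ((t • w) * w⁻¹) = (t • w) * w⁻¹ := by
    intro T _ hT s hs t ht w _
    obtain ⟨g, hg⟩ := hlift T hT
    obtain ⟨x, hx, rfl⟩ := hg s hs
    obtain ⟨y, hy, rfl⟩ := hg t ht
    apply Subtype.ext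
    rw [hsmul, Subgroup.coe_mul, Subgroup.coe_inv, hsmul]
    have hw' : g⁻¹ * (w : G) * g ∈ (S : Subgroup G) := hWS (by
      simpa using hWn.conj_mem _ w.2 g⁻¹)
    have h := hcl y hy _ hw' x hx
    calc g * x * g⁻¹ * (g * y * g⁻¹ * w * (g * y * g⁻¹)⁻¹ * (w : G)⁻¹) * (g * x * g⁻¹)⁻¹
        = g * (x * ⁅y, g⁻¹ * (w : G) * g⁆) * x⁻¹ * g⁻¹ := by
          simp only [commutatorElement_def]; group
      _ = g * ⁅y, g⁻¹ * (w : G) * g⁆ * g⁻¹ := by rw [h]; group
      _ = _ := by simp only [commutatorElement_def]; group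
  have hker : ∀ x ∈ (⊤ : Subgroup (G ⧸ C)), Odd (orderOf x) →
      (∀ w ∈ (⊤ : Subgroup ↥W), x • w = w) → x = 1 := by
    intro x _ _ hfix
    obtain ⟨g, rfl⟩ := hπsurj x
    refine (QuotientGroup.eq_one_iff _).mpr fun w hw => ?_
    have h := congrArg Subtype.val (hfix ⟨w, hw⟩ (mem_top _))
    rw [hsmul] at h
    exact (mul_inv_eq_iff_eq_mul.mp h).symm
  set B := A.map π with hBdef
  have hBne : B ≠ ⊥ := by
    rw [Ne, Subgroup.map_eq_bot_iff, QuotientGroup.ker_mk']
    exact hAC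
  have hB2 : ∀ b ∈ B, b * b = 1 := by
    rintro _ ⟨a, ha, rfl⟩
    rw [← map_mul, hA2 a ha, map_one]
  have hBcore : B ⊓ Cfsg.pCoreOf 2 (⊤ : Subgroup (G ⧸ C)) = ⊥ := by
    rw [LocalEvenA.pCoreOf_top]
    exact le_bot_iff.mp (inf_le_right.trans hcoreM.le)
  have hoff : Nat.card (⊤ : Subgroup ↥W) ≤ Nat.card B * Nat.card (fixIn B (⊤ : Subgroup ↥W)) := by
    set A₁ := A ⊓ C
    have hA₁ : IsElementaryAbelian 2 A₁ := LocalEvenA.elemAb_mono hA.2.1 inf_le_left
    have hle : Nat.card ↥(A₁ ⊔ W) ≤ Nat.card A :=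
      hA.2.2 _ (sup_le (inf_le_left.trans hAS) hWS) (LocalEvenA.elemAb_sup hA₁ hWe inf_le_right)
    have h1 := card_sup_mul_inf_normal A₁ W
    have h2 : Nat.card A = Nat.card B * Nat.card A₁ := by
      have h := card_eq_card_quotient_mul_card_subgroup (π.subgroupMap A).ker
      rw [Nat.card_congr (QuotientGroup.quotientKerEquivOfSurjective _
        (π.subgroupMap_surjective A)).toEquiv,
        show (π.subgroupMap A).ker = A₁.subgroupOf A by
          ext w
          rw [MonoidHom.mem_ker, mem_subgroupOf]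
          exact ⟨fun h => ⟨w.2, (QuotientGroup.eq_one_iff _).mp (congrArg Subtype.val h)⟩,
            fun h => Subtype.ext ((QuotientGroup.eq_one_iff _).mpr h.2)⟩,
        Nat.card_congr (subgroupOfEquivOfLe inf_le_left).toEquiv] at h
      exact h
    have h3 : Nat.card ↥(W ⊓ A₁) ≤ Nat.card (fixIn B (⊤ : Subgroup ↥W)) := by
      refine Nat.card_le_card_of_injective
        (fun x => ⟨⟨x.1, x.2.1⟩, mem_top _, ?_⟩) fun x y h => ?_
      · rintro _ ⟨a, ha, rfl⟩
        apply Subtype.ext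
        rw [hsmul]
        show a * (x : G) * a⁻¹ = x
        rw [(Transfer.AbExp.commute hA.2.1 ha x.2.2.1).eq, mul_inv_cancel_right]
      · exact Subtype.ext (congrArg (fun z : ↥(fixIn B (⊤ : Subgroup ↥W)) => ((z : ↥W) : G)) h)
    rw [Subgroup.card_top]
    have h4 : Nat.card A₁ * Nat.card W ≤
        Nat.card A₁ * (Nat.card B * Nat.card (fixIn B (⊤ : Subgroup ↥W))) := by
      calc Nat.card A₁ * Nat.card W = Nat.card ↥(A₁ ⊔ W) * Nat.card ↥(W ⊓ A₁) := h1.symm
        _ ≤ Nat.card A * Nat.card (fixIn B (⊤ : Subgroup ↥W)) := Nat.mul_le_mul hle h3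
        _ = _ := by rw [h2]; ring
    exact Nat.le_of_mul_le_mul_left h4 Nat.card_pos
  obtain ⟨u, u', a, b, hu1, hu'1, hne, -, -, -, -, hau, hau', hbu', hbu⟩ :=
    exists_plane_of_offender (fun v : ↥W => Subtype.ext (hW2 v v.2)) ⊤ ⊤ B
      (fun _ _ w _ => mem_top _) hab hquad hker le_top hB2 hBne hBcore hoff
  obtain ⟨g, rfl⟩ := hπsurj a
  obtain ⟨h, rfl⟩ := hπsurj b
  refine hS4 (Transfer.involves_perm_four_of_plane (u := (u : G)) (u' := (u' : G)) (b := g)
    (b' := h) (hW2 _ u.2) (hW2 _ u'.2) (LocalEvenA.elemAb_comm hWe u.2 u'.2)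
    (fun e => hu1 (Subtype.ext e)) (fun e => hu'1 (Subtype.ext e))
    (fun e => hne (Subtype.ext e)) ?_ ?_ ?_ ?_)
  · rw [← hsmul, hau]
  · rw [← hsmul, hau']; rfl
  · rw [← hsmul, hbu']
  · rw [← hsmul, hbu]; rfl

/-- **Thompson factorization** for `2`-constrained `S₄`-free groups with a Sylow `2`-subgroup of
class at most two. -/
theorem thompson_factorization_classTwo (hcon : Cfsg.IsPConstrained 2 G)
    (hS4 : ¬ Cfsg.Involves (Equiv.Perm (Fin 4)) G) (S : Sylow 2 G)
    (hcl : Subgroup.lowerCentralSeries (S : Subgroup G) 2 = ⊥) :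
    normalizer ((Cfsg.thompsonSubgroupOf 2 (S : Subgroup G)) : Set G) ⊔ Cfsg.pPrimeCore 2 G = ⊤ := by
  haveI : Fact (Nat.Prime 2) := ⟨Nat.prime_two⟩
  haveI := LocalEvenA.pPrimeCore_normal' 2 G
  set O := Cfsg.pPrimeCore 2 G
  set π := QuotientGroup.mk' O
  have hsurj : Function.Surjective π := QuotientGroup.mk'_surjective O
  have hOcop := LocalEvenA.pPrimeCore_coprime (G := G) 2
  set S' : Sylow 2 (G ⧸ O) := S.mapSurjective hsurj
  have hS' : (S' : Subgroup (G ⧸ O)) = (S : Subgroup G).map π := rfl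
  have hcl' : ∀ x ∈ (S' : Subgroup (G ⧸ O)), ∀ y ∈ (S' : Subgroup (G ⧸ O)),
      ∀ z ∈ (S' : Subgroup (G ⧸ O)), z * ⁅x, y⁆ = ⁅x, y⁆ * z := by
    rintro _ ⟨x, hx, rfl⟩ _ ⟨y, hy, rfl⟩ _ ⟨z, hz, rfl⟩
    have h : ⁅⁅x, y⁆, z⁆ ∈ Subgroup.lowerCentralSeries (S : Subgroup G) 2 :=
      commutator_mem_commutator (commutator_mem_commutator hx hy) hz
    rw [hcl, mem_bot, commutatorElement_eq_one_iff_mul_comm] at h
    rw [← map_commutatorElement, ← map_mul, ← map_mul, h]
  have hcent := Components.isPConstrained_iff.mp hcon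
  have hS4' : ¬ Cfsg.Involves (Equiv.Perm (Fin 4)) (G ⧸ O) := fun h =>
    hS4 (involves_of_quotient O h)
  have hJ : Transfer.JAb 2 (S' : Subgroup (G ⧸ O)) ≤ Cfsg.pCore 2 (G ⧸ O) :=
    thompson_le_pCore_of_classTwo hcent hS4' S' hcl'
  haveI := LocalEvenA.pCore_normal' 2 (G ⧸ O)
  have hQS : Cfsg.pCore 2 (G ⧸ O) ≤ (S' : Subgroup (G ⧸ O)) :=
    (LocalEvenA.pCore_isPGroup' 2 _).le_sylow_of_normal S'
  have htop : normalizer ((Transfer.JAb 2 (S' : Subgroup (G ⧸ O))) : Set (G ⧸ O)) = ⊤ := by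
    rw [← Transfer.JAb_eq_of_le hQS hJ]
    refine top_le_iff.mp ((le_of_eq ?_).trans (Transfer.normalizer_le_normalizer_JAb _))
    exact (normalizer_eq_top _).symm
  have hinj : Set.InjOn π (S : Subgroup G) := by
    intro x hx y hy hxy
    have hmem : x⁻¹ * y ∈ O ⊓ (S : Subgroup G) :=
      ⟨QuotientGroup.eq.mp hxy, (S : Subgroup G).mul_mem ((S : Subgroup G).inv_mem hx) hy⟩
    rw [Components.inf_eq_bot_of_coprime_isPGroup hOcop S.isPGroup', mem_bot] at hmem
    exact inv_mul_eq_one.mp hmem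
  have hJp : IsPGroup 2 (Transfer.JAb 2 (S : Subgroup G)) :=
    S.isPGroup'.to_le (Transfer.JAb_le _)
  rw [← Transfer.JAb_prime]
  have hmap := Components.map_normalizer_of_coprime hOcop hJp
  rw [Transfer.map_JAb _ _ hinj, ← hS', htop] at hmap
  have := congrArg (Subgroup.comap π) hmap
  rwa [comap_map_eq, QuotientGroup.ker_mk', comap_top] at this

end Cfsg.Agent.SL2Dickson
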