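import Cfsg.Agent.Lib.SL2Dickson.Points
import Mathlib.GroupTheory.GroupAction.Quotient

/-!
# Counting fixed points of a finite subgroup of SL(2): two transvections with trace 3
-/

set_option autoImplicit false
set_option linter.style.haveILetI false
set_option linter.unusedSectionVars false
set_option linter.unusedVariables false

namespace Cfsg.Agent.SL2Dickson

open Matrix MulAction
open scoped MatrixGroups

/-- A free action has orbits of full length. -/
theorem card_dvd_of_free {G X : Type*} [Group G] [MulAction G X]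
    (h : ∀ x : X, stabilizer G x = ⊥) : Nat.card G ∣ Nat.card X := by
  rw [Nat.card_congr (selfEquivOrbitsQuotientProd h), Nat.card_prod]
  exact dvd_mul_left _ _

theorem addCard_dvd_of_free {G X : Type*} [AddGroup G] [AddAction G X]
    (h : ∀ x : X, AddAction.stabilizer G x = ⊥) : Nat.card G ∣ Nat.card X := by
  rw [Nat.card_congr (AddAction.selfEquivOrbitsQuotientProd h), Nat.card_prod]
  exact dvd_mul_left _ _

variable {K : Type*} [Field K]

/-- The upper unitriangular matrices. -/
def upper (t : K) : SL(2, K) := ⟨!![1, t; 0, 1], by simp [det_fin_two]⟩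

/-- The lower unitriangular matrices. -/
def lower (t : K) : SL(2, K) := ⟨!![1, 0; t, 1], by simp [det_fin_two]⟩

@[simp] theorem upper_coe (t : K) : (upper t).1 = !![1, t; 0, 1] := rfl

@[simp] theorem lower_coe (t : K) : (lower t).1 = !![1, 0; t, 1] := rfl

theorem upper_add (s t : K) : upper (s + t) = upper s * upper t := by
  ext i j; fin_cases i <;> fin_cases j <;> simp [Matrix.mul_apply, Fin.sum_univ_two, add_comm]

theorem upper_zero : upper (0 : K) = 1 := by
  ext i j; fin_cases i <;> fin_cases j <;> simp [upper]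

theorem upper_smul_aff (t z : K) : upper t • (aff z : Pt K) = aff (z + t) := by
  rw [smul_aff_eq_iff _ (by simp [upper])]
  simp [upper]

/-- The diagonal entry on the stabilizer of `inf₀`. -/
def diagHom : ↥(stabilizer SL(2, K) (inf₀ : Pt K)) →* K where
  toFun h := h.1.1 0 0
  map_one' := by simp
  map_mul' g h := by
    have := (smul_inf₀_eq_iff h.1).mp h.2
    simp [Matrix.mul_apply, Fin.sum_univ_two, this]

theorem not_isScalar_sq (h2 : (2 : K) ≠ 0) {h : SL(2, K)} (hs : ¬ IsScalar h) {x : Pt K}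
    (hx : h • x = x) (ht : tr h ^ 2 = 4) : ¬ IsScalar (h * h) := by
  obtain ⟨g, hg⟩ := exists_smul_inf₀ x
  set h' := g * h * g⁻¹ with hh'
  have hfix : h' • (inf₀ : Pt K) = inf₀ := by
    rw [← hg, hh', mul_smul, inv_smul_smul, mul_smul, hx]
  have h0 := (smul_inf₀_eq_iff h').mp hfix
  obtain ⟨he, he2⟩ := diag_eq_of_tr_sq h0 (by rw [tr_conj]; exact ht)
  have hs' : ¬ IsScalar h' := fun e => hs (isScalar_conj.mp e)
  have hb : h'.1 0 1 ≠ 0 := fun e => hs' (isScalar_of_triangular h0 e he)
  intro hsq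
  rw [← isScalar_conj (g := g), show g * (h * h) * g⁻¹ = h' * h' by simp [h', mul_assoc]] at hsq
  have e01 : (h' * h').1 0 1 = 0 := by rcases hsq with e | e <;> simp [e]
  rw [Matrix.SpecialLinearGroup.coe_mul, Matrix.mul_apply, Fin.sum_univ_two, ← he] at e01
  have hne : h'.1 0 0 ≠ 0 := fun e => by simp [e] at he2
  have : (2 : K) * (h'.1 0 0 * h'.1 0 1) = 0 := by linear_combination e01
  rcases mul_eq_zero.mp this with e | e
  · exact h2 e
  · rcases mul_eq_zero.mp e with e | e
    · exact hne e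
    · exact hb e

section count

variable (H : Subgroup SL(2, K)) [Finite H]

/-- The stabilizer of a point in `H`. -/
abbrev stab (x : Pt K) : Subgroup ↥H := stabilizer ↥H x

/-- The weight of a point. -/
noncomputable def weight (x : Pt K) : ℕ :=
  {h : ↥H | h • x = x ∧ ¬ IsScalar (h : SL(2, K))}.ncard +
    {h : ↥H | h • x = x ∧ ¬ IsScalar (h : SL(2, K)) ∧ tr (h : SL(2, K)) ^ 2 = 4}.ncard

/-- The elements of trace `± 2` counted at a point. -/
noncomputable def unipCount (x : Pt K) : ℕ :=
  {h : ↥H | h • x = x ∧ ¬ IsScalar (h : SL(2, K)) ∧ tr (h : SL(2, K)) ^ 2 = 4}.ncard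

variable {H}

theorem scalar_ncard (h2 : (2 : K) ≠ 0) (hneg : (-1 : SL(2, K)) ∈ H) :
    {h : ↥H | IsScalar (h : SL(2, K))}.ncard = 2 := by
  have e : {h : ↥H | IsScalar (h : SL(2, K))} = {1, ⟨-1, hneg⟩} := by
    ext h
    simp only [IsScalar, Set.mem_setOf_eq, Set.mem_insert_iff, Set.mem_singleton_iff]
    exact or_congr ⟨fun e0 => Subtype.ext e0, fun e0 => congrArg Subtype.val e0⟩
      ⟨fun e0 => Subtype.ext e0, fun e0 => congrArg Subtype.val e0⟩
  rw [e, Set.ncard_pair]
  intro h
  have h1 := congrArg (fun z : ↥H => (z : SL(2, K)).1 0 0) h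
  simp at h1
  exact h2 (by linear_combination h1)

theorem weight_eq (h2 : (2 : K) ≠ 0) (hneg : (-1 : SL(2, K)) ∈ H) (x : Pt K) :
    weight H x + 2 = Nat.card (stab H x) + unipCount H x := by
  have hsub : {h : ↥H | IsScalar (h : SL(2, K))} ⊆ (stab H x : Set ↥H) := fun h hh => hh.smul x
  have e : {h : ↥H | h • x = x ∧ ¬ IsScalar (h : SL(2, K))} =
      (stab H x : Set ↥H) \ {h : ↥H | IsScalar (h : SL(2, K))} := by
    ext h; simp [stab]
  rw [weight, unipCount, e]
  have := Set.ncard_diff_add_ncard_of_subset hsub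
  rw [scalar_ncard h2 hneg] at this
  rw [← Nat.card_coe_set_eq (stab H x : Set ↥H)] at this
  change _ = Nat.card ↥(stab H x) at this
  omega

theorem weight_smul (g : ↥H) (x : Pt K) :
    weight H (g • x) = weight H x ∧ unipCount H (g • x) = unipCount H x := by
  have key : ∀ P : SL(2, K) → Prop, (∀ a b, P (a * b * a⁻¹) ↔ P b) →
      {h : ↥H | h • g • x = g • x ∧ P h} = (MulAut.conj g) '' {h : ↥H | h • x = x ∧ P h} := by
    intro P hP
    ext h
    constructor
    · rintro ⟨h1, hP'⟩
      refine ⟨g⁻¹ * h * g, ⟨?_, ?_⟩, by simp [mul_assoc]⟩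
      · rw [mul_smul, mul_smul, h1, inv_smul_smul]
      · rw [← hP (g : SL(2, K))]
        simpa [mul_assoc] using hP'
    · rintro ⟨k, ⟨h1, hP'⟩, rfl⟩
      refine ⟨?_, ?_⟩
      · rw [MulAut.conj_apply, mul_smul, inv_smul_smul, mul_smul, h1]
      · simpa [MulAut.conj_apply] using (hP g k).mpr hP'
  have h1 := key (fun h => ¬ IsScalar h) fun a b => not_congr isScalar_conj
  have h2 := key (fun h => ¬ IsScalar h ∧ tr h ^ 2 = 4) fun a b => by
    rw [isScalar_conj, tr_conj]
  constructor
  · rw [weight, weight, h1, h2, Set.ncard_image_of_injective _ (MulAut.conj g).injective,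
      Set.ncard_image_of_injective _ (MulAut.conj g).injective]
  · rw [unipCount, unipCount, h2, Set.ncard_image_of_injective _ (MulAut.conj g).injective]

theorem stab_card_smul (g : ↥H) (x : Pt K) :
    Nat.card (stab H (g • x)) = Nat.card (stab H x) := by
  rw [stab, stabilizer_smul_eq_stabilizer_map_conj,
    Subgroup.card_map_of_injective (MulAut.conj g).injective]

theorem orbit_ncard_mul (x : Pt K) :
    (orbit ↥H x).ncard * Nat.card (stab H x) = Nat.card H := by
  rw [← index_stabilizer, mul_comm, Subgroup.card_mul_index]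

/-- A point fixed by an element of trace `± 2` carries at least four of them. -/
theorem four_le_unipCount (h2 : (2 : K) ≠ 0) (hneg : (-1 : SL(2, K)) ∈ H) {x : Pt K} {h : ↥H}
    (hx : h • x = x) (hs : ¬ IsScalar (h : SL(2, K))) (ht : tr (h : SL(2, K)) ^ 2 = 4) :
    4 ≤ unipCount H x := by
  set z : ↥H := ⟨-1, hneg⟩
  have hz : ∀ k : ↥H, ((z * k : ↥H) : SL(2, K)) = -(k : SL(2, K)) := fun k => by simp [z]
  have hzx : z • x = x := IsScalar.smul (Or.inr rfl) x
  have hinv : h⁻¹ • x = x := inv_smul_eq_iff.mpr hx.symm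
  have hsq := not_isScalar_sq h2 hs (x := x) hx ht
  have hsc : ∀ k : ↥H, IsScalar (k : SL(2, K)) ↔ IsScalar ((z * k : ↥H) : SL(2, K)) := fun k => by
    rw [hz, IsScalar, IsScalar, neg_eq_iff_eq_neg, neg_inj, or_comm]
  have htr : ∀ k : ↥H, tr ((z * k : ↥H) : SL(2, K)) ^ 2 = tr (k : SL(2, K)) ^ 2 := fun k => by
    rw [hz]; simp [tr]; ring
  have htri : tr ((h⁻¹ : ↥H) : SL(2, K)) = tr (h : SL(2, K)) := by
    simp [tr, Matrix.adjugate_fin_two]; ring
  have hsi : ¬ IsScalar ((h⁻¹ : ↥H) : SL(2, K)) := by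
    rintro (e | e)
    · exact hs (Or.inl (by simpa using e))
    · exact hs (Or.inr (by simpa [inv_eq_iff_eq_inv] using e))
  have hne : ∀ k : ↥H, z * k ≠ k := fun k e => by
    have h1 : z = 1 := mul_right_cancel (e.trans (one_mul k).symm)
    have h3 := congrArg (fun z : ↥H => (z : SL(2, K)).1 0 0) h1
    simp [z] at h3
    exact h2 (by linear_combination -h3)
  have hne1 : h⁻¹ ≠ h := fun e => hsq (Or.inl (by
    have := congrArg (fun k => ((k * h : ↥H) : SL(2, K))) e
    simpa using this.symm))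
  have hne2 : h⁻¹ ≠ z * h := fun e => hsq (Or.inr (by
    have := congrArg (fun k => ((k * h : ↥H) : SL(2, K))) e
    simp only [inv_mul_cancel, Subgroup.coe_one, Subgroup.coe_mul, hz] at this
    rw [this]
    simp [z, mul_assoc]))
  classical
  have hfour : ({h, z * h, h⁻¹, z * h⁻¹} : Finset ↥H).card = 4 := by
    rw [Finset.card_eq_succ]
    refine ⟨h, {z * h, h⁻¹, z * h⁻¹}, ?_, rfl, ?_⟩
    · simp only [Finset.mem_insert, Finset.mem_singleton, not_or]
      refine ⟨(hne h).symm, hne1.symm, fun e => hne2 ?_⟩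
      have hzz : z * z = 1 := Subtype.ext (by simp [z])
      conv_rhs => rw [e, ← mul_assoc, hzz, one_mul]
    · rw [Finset.card_eq_three]
      exact ⟨z * h, h⁻¹, z * h⁻¹, hne2.symm, fun e => hne1 (mul_left_cancel e).symm,
        (hne _).symm, rfl⟩
  rw [← hfour, unipCount, ← Set.ncard_coe_finset]
  refine Set.ncard_le_ncard (fun k hk => ?_) (Set.toFinite _)
  simp only [Finset.coe_insert, Finset.coe_singleton, Set.mem_insert_iff,
    Set.mem_singleton_iff] at hk
  rcases hk with rfl | rfl | rfl | rfl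
  · exact ⟨hx, hs, ht⟩
  · exact ⟨by rw [mul_smul, hx, hzx], fun e => hs ((hsc _).mpr e), by rw [htr]; exact ht⟩
  · exact ⟨hinv, hsi, by rw [htri]; exact ht⟩
  · exact ⟨by rw [mul_smul, hinv, hzx], fun e => hsi ((hsc _).mpr e), by rw [htr, htri]; exact ht⟩

/-- The double count of the pairs (element, fixed point). -/
theorem exists_sum_weight [IsAlgClosed K] (h2 : (2 : K) ≠ 0) (hneg : (-1 : SL(2, K)) ∈ H) :
    ∃ P : Finset (Pt K),
      (∀ x, x ∈ P ↔ ∃ h : ↥H, ¬ IsScalar (h : SL(2, K)) ∧ h • x = x) ∧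
      ∑ x ∈ P, weight H x + 4 = 2 * Nat.card H := by
  classical
  haveI : Fintype ↥H := Fintype.ofFinite _
  set NS : Finset ↥H := Finset.univ.filter fun h : ↥H => ¬ IsScalar (h : SL(2, K))
  have hfin : ∀ h ∈ NS, (fixSet (h : SL(2, K))).Finite := fun h hh =>
    (fixSet_card (Finset.mem_filter.mp hh).2).1
  let fx : ↥H → Finset (Pt K) := fun h => if hh : h ∈ NS then (hfin h hh).toFinset else ∅
  have hfx : ∀ h ∈ NS, ∀ x, x ∈ fx h ↔ h • x = x := fun h hh x => by
    simp [fx, hh, fixSet, Subgroup.smul_def]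
  refine ⟨NS.biUnion fx, fun x => ?_, ?_⟩
  · simp only [Finset.mem_biUnion]
    constructor
    · rintro ⟨h, hh, hx⟩
      exact ⟨h, (Finset.mem_filter.mp hh).2, (hfx h hh x).mp hx⟩
    · rintro ⟨h, hs, hx⟩
      have hh : h ∈ NS := Finset.mem_filter.mpr ⟨Finset.mem_univ _, hs⟩
      exact ⟨h, hh, (hfx h hh x).mpr hx⟩
  set P := NS.biUnion fx
  have hw : ∀ x, weight H x = ∑ h ∈ NS, if h • x = x then
      (if tr (h : SL(2, K)) ^ 2 = 4 then 2 else 1) else 0 := by
    intro x
    rw [← Finset.sum_filter, weight]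
    have e : ∀ h ∈ NS.filter (fun h : ↥H => h • x = x),
        (if tr (h : SL(2, K)) ^ 2 = 4 then 2 else 1) =
          1 + if tr (h : SL(2, K)) ^ 2 = 4 then 1 else 0 := fun h _ => by split <;> rfl
    rw [Finset.sum_congr rfl e, Finset.sum_add_distrib, Finset.sum_boole, Nat.cast_id,
      ← Finset.card_eq_sum_ones]
    congr 1
    · rw [← Set.ncard_coe_finset]
      congr 1
      ext h
      simp [NS, and_comm]
    · rw [← Set.ncard_coe_finset]
      congr 1
      ext h
      simp [NS]
      tauto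
  rw [Finset.sum_congr rfl fun x _ => hw x, Finset.sum_comm]
  have hin : ∀ h ∈ NS, (∑ x ∈ P, if h • x = x then
      (if tr (h : SL(2, K)) ^ 2 = 4 then 2 else 1) else 0) = 2 := by
    intro h hh
    rw [← Finset.sum_filter]
    have e : P.filter (fun x => h • x = x) = fx h := by
      ext x
      simp only [Finset.mem_filter, hfx h hh x, and_iff_right_iff_imp]
      exact fun hx => Finset.mem_biUnion.mpr ⟨h, hh, (hfx h hh x).mpr hx⟩
    rw [e, Finset.sum_const, smul_eq_mul]
    obtain ⟨-, h1, h2'⟩ := fixSet_card (Finset.mem_filter.mp hh).2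
    have hc : (fx h).card = (fixSet (h : SL(2, K))).ncard := by
      simp [fx, hh, Set.ncard_eq_toFinset_card _ (hfin h hh)]
    rw [hc]
    split
    · next ht => rw [h1 ht]
    · next ht => rw [h2' ht]
  rw [Finset.sum_congr rfl hin, Finset.sum_const, smul_eq_mul]
  have hsc : (Finset.univ.filter fun h : ↥H => IsScalar (h : SL(2, K))).card = 2 := by
    refine Eq.trans ?_ (scalar_ncard h2 hneg)
    rw [← Set.ncard_coe_finset]
    congr 1
    ext h; simp
  have htot := Finset.card_filter_add_card_filter_not (s := (Finset.univ : Finset ↥H))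
    (fun h : ↥H => IsScalar (h : SL(2, K)))
  rw [hsc, Finset.card_univ, ← Nat.card_eq_fintype_card] at htot
  change 2 + NS.card = Nat.card H at htot
  omega

end count

/-- The arithmetic of the one-orbit case. -/
theorem arith_cases {q n d m o N k : ℕ} (hq : 3 ≤ q) (hn : n = 1 + k * q) (hk : 1 ≤ k)
    (hd : d ∣ q - 1) (hd0 : 0 < d) (ho : o = n * (q - 2) + 2) (hN : N = n * (2 * q * d))
    (hm : o * (2 * m) = N) : k = 1 ∨ (q = 3 ∧ d = 2 ∧ m = 5 ∧ n = 10) := by
  obtain ⟨r, rfl⟩ : ∃ r, q = r + 2 := ⟨q - 2, by omega⟩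
  simp only [Nat.add_sub_cancel] at *
  rcases Nat.lt_or_ge k 2 with h | h
  · exact Or.inl (by omega)
  right
  have ho' : o = (r + 2) * (1 + k * r) := by rw [ho, hn]; ring
  have h1 : (1 + k * r) * m = d * (1 + k * (r + 2)) := by
    have : (r + 2) * ((1 + k * r) * m) * 2 = (r + 2) * (d * (1 + k * (r + 2))) * 2 := by
      calc (r + 2) * ((1 + k * r) * m) * 2 = o * (2 * m) := by rw [ho']; ring
        _ = N := hm
        _ = _ := by rw [hN, hn]; ring
    exact Nat.eq_of_mul_eq_mul_left (by omega) (Nat.eq_of_mul_eq_mul_right (by omega) this)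
  have hA : (1 + k * r) ∣ 2 * d := by
    have h3 : (1 + k * r) ∣ d * (1 + k * r) + 2 * d * k := by
      refine ⟨m, ?_⟩
      rw [h1]; ring
    have h4 := (Nat.dvd_add_right (dvd_mul_left _ _)).mp h3
    refine (Nat.Coprime.dvd_mul_right ?_).mp h4
    rw [Nat.coprime_comm, Nat.coprime_add_mul_left_right]
    exact Nat.coprime_one_right k
  have hdle : d ≤ r + 1 := Nat.le_of_dvd (by omega) hd
  have hle : 1 + k * r ≤ 2 * d := Nat.le_of_dvd (by omega) hA
  have hk3 : k ≤ 3 := by
    by_contra hc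
    have : 4 * r ≤ k * r := Nat.mul_le_mul_right r (by omega)
    omega
  interval_cases k
  · exfalso
    have h5 : (1 + 2 * r) ∣ d := by
      refine (Nat.Coprime.dvd_mul_left ?_).mp hA
      simp
    have := Nat.le_of_dvd hd0 h5
    omega
  · have hr : r = 1 := by omega
    subst hr
    have : d = 2 := by omega
    subst this
    simp at h1
    omega

/-- Every element of a finite subgroup satisfies a trace equation coming from a stabilizer order. -/
theorem tr_of_pow {h : SL(2, K)} {x : Pt K} (hx : h • x = x) {s : ℕ} (hs : h ^ s = 1) :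
    ∃ e : K, e ^ s = 1 ∧ tr h * e = e ^ 2 + 1 := by
  obtain ⟨g, hg⟩ := exists_smul_inf₀ x
  set h' := g * h * g⁻¹ with hh'
  have hfix : h' ∈ stabilizer SL(2, K) (inf₀ : Pt K) := by
    rw [mem_stabilizer_iff, ← hg, hh', mul_smul, inv_smul_smul, mul_smul, hx]
  refine ⟨h'.1 0 0, ?_, ?_⟩
  · have h1 := map_pow diagHom (⟨h', hfix⟩ : ↥(stabilizer SL(2, K) (inf₀ : Pt K))) s
    have h2 : (⟨h', hfix⟩ : ↥(stabilizer SL(2, K) (inf₀ : Pt K))) ^ s = 1 :=
      Subtype.ext (by simp [h', conj_pow, hs])
    rw [h2, map_one] at h1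
    exact h1.symm
  · have hd := det_eq h'
    rw [(smul_inf₀_eq_iff h').mp hfix] at hd
    rw [← tr_conj g h, ← hh', tr]
    linear_combination hd

/-- Core of Dickson's lemma, in normalised coordinates. -/
theorem exists_pair_normalised [IsAlgClosed K] (h2 : (2 : K) ≠ 0) {H : Subgroup SL(2, K)} [Finite H]
    (hneg : (-1 : SL(2, K)) ∈ H) {s₀ r₀ : K} (hs₀ : s₀ ≠ 0) (hr₀ : r₀ ≠ 0) (ha : upper s₀ ∈ H)
    (hb : lower r₀ ∈ H) :
    (∃ s, upper s ∈ H ∧ s * r₀ = 1) ∨ s₀ * r₀ = 1 ∨ s₀ * r₀ = -1 ∨ (s₀ * r₀) ^ 2 = -1 := by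
  classical
  haveI : Fintype ↥H := Fintype.ofFinite _
  -- the translation group
  let S : AddSubgroup K :=
    { carrier := {s | upper s ∈ H}
      zero_mem' := by simp [upper_zero, one_mem]
      add_mem' := fun {a b} ha hb => by
        show upper (a + b) ∈ H
        rw [upper_add]; exact mul_mem ha hb
      neg_mem' := fun {a} ha => by
        show upper (-a) ∈ H
        have : upper (-a) = (upper a)⁻¹ := by
          rw [eq_inv_iff_mul_eq_one, ← upper_add, neg_add_cancel, upper_zero]
        rw [this]; exact inv_mem ha }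
  haveI : Finite S := Finite.of_injective (fun s => (⟨upper (s : K), s.2⟩ : ↥H)) fun s t e =>
    Subtype.ext (by simpa [upper] using congrArg (fun z : ↥H => (z : SL(2, K)).1 0 1) e)
  set q := Nat.card S with hqdef
  have hq3 : 3 ≤ q := by
    have hm : s₀ + s₀ ∈ S := S.add_mem ha ha
    rw [hqdef, ← SetLike.coe_sort_coe, Nat.card_coe_set_eq]
    refine le_trans (le_of_eq ?_) (Set.ncard_le_ncard (s := {0, s₀, s₀ + s₀}) ?_ (Set.toFinite _))
    · have e1 : s₀ + s₀ ≠ 0 := by rw [← two_mul]; exact mul_ne_zero h2 hs₀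
      have e2 : s₀ ≠ s₀ + s₀ := fun e => hs₀ (by linear_combination -e)
      rw [Set.ncard_insert_of_notMem (by simp [hs₀.symm, e1.symm]), Set.ncard_pair e2]
    · rintro x (rfl | rfl | rfl)
      exacts [S.zero_mem, ha, hm]
  -- the stabilizer of `inf₀`
  set B := stab H (inf₀ : Pt K) with hB
  have hB0 : ∀ h : ↥B, (h.1 : SL(2, K)).1 1 0 = 0 := fun h => (smul_inf₀_eq_iff _).mp h.2
  let e : ↥B →* Kˣ :=
    (diagHom.comp ((H.subtype.comp B.subtype).codRestrict (stabilizer SL(2, K) (inf₀ : Pt K))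
      fun h => h.2)).toHomUnits
  have he : ∀ h : ↥B, (e h : K) = (h.1 : SL(2, K)).1 0 0 := fun h => rfl
  have hdiag : ∀ h : ↥B, (e h : K) * (h.1 : SL(2, K)).1 1 1 = 1 := fun h => by
    have := det_eq (h.1 : SL(2, K))
    rw [hB0 h, mul_zero, sub_zero] at this
    exact this
  set e2 : ↥B →* Kˣ := (powMonoidHom 2).comp e with he2def
  have hker : ∀ h : ↥B, h ∈ e2.ker ↔ tr (h.1 : SL(2, K)) ^ 2 = 4 := by
    intro h
    rw [MonoidHom.mem_ker, Units.ext_iff]
    show (e h : K) ^ 2 = 1 ↔ _
    rw [he]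
    refine ⟨fun h1 => tr_sq_of_diag_eq (hB0 h) ?_, fun h1 => (diag_eq_of_tr_sq (hB0 h) h1).2⟩
    have h3 := hdiag h
    rw [he] at h3
    refine mul_left_cancel₀ (a := (h.1 : SL(2, K)).1 0 0) (fun e0 => by simp [e0] at h3) ?_
    rw [← sq, h1, h3]
  set d := Nat.card e2.range with hddef
  have hd0 : 0 < d := Nat.card_pos
  have hcardB : Nat.card B = Nat.card e2.ker * d := by
    rw [hddef, ← Subgroup.index_ker, Subgroup.card_mul_index]
  have hkercard : Nat.card e2.ker = 2 * q := by
    set e' : ↥e2.ker →* Kˣ := e.comp e2.ker.subtype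
    have h1 : Nat.card e'.ker = q := by
      refine Nat.card_congr
        { toFun := fun h => ⟨(h.1.1.1 : SL(2, K)).1 0 1, ?_⟩
          invFun := fun s => ⟨⟨⟨⟨upper (s : K), s.2⟩, ?_⟩, ?_⟩, ?_⟩
          left_inv := fun h => ?_
          right_inv := fun s => Subtype.ext (by simp [upper]) }
      · show upper _ ∈ H
        have h00 : (e h.1.1 : K) = 1 := congrArg Units.val h.2
        have h11 := hdiag h.1.1
        rw [h00, one_mul] at h11
        rw [he] at h00
        convert h.1.1.1.2 using 1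
        ext i j; fin_cases i <;> fin_cases j <;> simp [upper, h00, h11, hB0]
      · show upper (s : K) • (inf₀ : Pt K) = inf₀
        rw [smul_inf₀_eq_iff]; simp [upper]
      · rw [hker]; simp [upper, tr]; ring
      · exact Units.ext (by simp [e', he, upper])
      · have h00 : (e h.1.1 : K) = 1 := congrArg Units.val h.2
        have h11 := hdiag h.1.1
        rw [h00, one_mul] at h11
        rw [he] at h00
        refine Subtype.ext (Subtype.ext (Subtype.ext (Subtype.ext ?_)))
        ext i j; fin_cases i <;> fin_cases j <;> simp [upper, h00, h11, hB0]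
    have h3 : Nat.card e'.range = 2 := by
      have hr : (e'.range : Set Kˣ) = {1, -1} := by
        ext u
        constructor
        · rintro ⟨h, rfl⟩
          have h4 : (e h.1 : K) ^ 2 = 1 := congrArg Units.val h.2
          rcases sq_eq_one_iff.mp h4 with h5 | h5
          · exact Or.inl (Units.ext (by simpa [e'] using h5))
          · exact Or.inr (Units.ext (by simpa [e'] using h5))
        · rintro (rfl | rfl)
          · exact one_mem _
          · refine ⟨⟨⟨⟨-1, hneg⟩, ?_⟩, ?_⟩, ?_⟩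
            · exact IsScalar.smul (Or.inr rfl) _
            · rw [hker]; simp [tr]; ring
            · exact Units.ext (by simp [e', he])
      rw [← SetLike.coe_sort_coe, Nat.card_coe_set_eq, hr, Set.ncard_pair]
      intro h5
      have h6 := congrArg Units.val h5
      simp at h6
      exact h2 (by linear_combination h6)
    rw [← Subgroup.card_mul_index e'.ker, Subgroup.index_ker, h1, h3, mul_comm]
  have huInf : unipCount H (inf₀ : Pt K) + 2 = 2 * q := by
    rw [← hkercard]
    have hsub : {h : ↥H | IsScalar (h : SL(2, K))} ⊆ (e2.ker.map B.subtype : Set ↥H) := by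
      intro h hh
      refine ⟨⟨h, hh.smul _⟩, ?_, rfl⟩
      rw [SetLike.mem_coe, hker]
      rcases hh with e0 | e0 <;> simp [tr, e0] <;> ring
    have := Set.ncard_diff_add_ncard_of_subset hsub
    rw [scalar_ncard h2 hneg, ← Nat.card_coe_set_eq (e2.ker.map B.subtype : Set ↥H)] at this
    change _ = Nat.card ↥(e2.ker.map B.subtype) at this
    rw [Subgroup.card_map_of_injective B.subtype_injective] at this
    rw [← this, unipCount]
    congr 2
    ext h
    constructor
    · rintro ⟨h1, h4, h5⟩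
      exact ⟨⟨⟨h, h1⟩, (hker _).mpr h5, rfl⟩, h4⟩
    · rintro ⟨⟨k, hk, rfl⟩, h4⟩
      exact ⟨k.2, h4, (hker k).mp hk⟩
  have hd : d ∣ q - 1 := by
    let X := {s : K // s ∈ S ∧ s ≠ 0}
    haveI : Finite X := Finite.of_injective (fun s => (⟨s.1, s.2.1⟩ : S))
      fun a b h => Subtype.ext (congrArg Subtype.val h :)
    have hact : ∀ (u : e2.range) (s : X),
        (((u : Kˣ) : K) * s.1) ∈ S ∧ ((u : Kˣ) : K) * s.1 ≠ 0 := by
      rintro ⟨_, h, rfl⟩ s
      refine ⟨?_, mul_ne_zero (Units.ne_zero _) s.2.2⟩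
      show upper _ ∈ H
      have h3 : ((h.1 : SL(2, K)) * upper s.1) =
          upper (((e2 h : Kˣ) : K) * s.1) * (h.1 : SL(2, K)) := by
        have h11 := hdiag h
        rw [he] at h11
        ext i j
        fin_cases i <;> fin_cases j <;>
          simp [Matrix.mul_apply, Fin.sum_univ_two, hB0, he2def, he]
        linear_combination -(h.1 : SL(2, K)).1 0 0 * s.1 * h11
      have h4 : upper (((e2 h : Kˣ) : K) * s.1) =
          (h.1 : SL(2, K)) * upper s.1 * (h.1 : SL(2, K))⁻¹ := by
        rw [h3, mul_inv_cancel_right]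
      rw [h4]
      exact mul_mem (mul_mem h.1.2 s.2.1) (inv_mem h.1.2)
    let hMA : MulAction e2.range X :=
      { smul := fun u s => ⟨((u : Kˣ) : K) * s.1, hact u s⟩
        one_smul := fun s => Subtype.ext (one_mul _)
        mul_smul := fun u v s => Subtype.ext (by
          show _ * s.1 = _ * (_ * s.1)
          rw [Subgroup.coe_mul, Units.val_mul, mul_assoc]) }
    have := card_dvd_of_free (G := e2.range) (X := X) fun s => by
      rw [eq_bot_iff]
      intro u hu
      have h3 : ((u : Kˣ) : K) * s.1 = 1 * s.1 := by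
        rw [one_mul]; exact congrArg Subtype.val hu
      exact Subtype.ext (Units.ext (mul_right_cancel₀ s.2.2 h3))
    convert this using 1
    have e3 : {s : K | s ∈ S ∧ s ≠ 0} = (S : Set K) \ {0} := by ext; simp
    show q - 1 = Nat.card ({s : K | s ∈ S ∧ s ≠ 0} : Set K)
    rw [Nat.card_coe_set_eq, e3, Set.ncard_diff_singleton_of_mem S.zero_mem,
      ← Nat.card_coe_set_eq]
    rfl
  set n := (orbit ↥H (inf₀ : Pt K)).ncard with hndef
  have hN : Nat.card H = n * (2 * q * d) := by
    rw [← orbit_ncard_mul (inf₀ : Pt K), ← hB, hcardB, hkercard]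
  -- points of the orbit different from `inf₀`
  let Z := {z : K // aff z ∈ orbit ↥H (inf₀ : Pt K)}
  haveI hΩfin : Finite (orbit ↥H (inf₀ : Pt K)) := Set.Finite.to_subtype (Set.finite_range _)
  haveI : Finite Z := Finite.of_injective (fun z => (⟨aff z.1, z.2⟩ : orbit ↥H (inf₀ : Pt K)))
    fun a b h => Subtype.ext (aff_injective (congrArg Subtype.val h))
  have hZ : Nat.card Z + 1 = n := by
    have e3 : orbit ↥H (inf₀ : Pt K) \ {inf₀} = aff '' {z : K | aff z ∈ orbit ↥H (inf₀ : Pt K)} := by
      ext x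
      constructor
      · rintro ⟨hx, hne⟩
        rcases eq_inf₀_or_aff x with rfl | ⟨z, rfl⟩
        · exact absurd rfl hne
        · exact ⟨z, hx, rfl⟩
      · rintro ⟨z, hz, rfl⟩
        exact ⟨hz, aff_ne_inf₀ z⟩
    rw [hndef, ← Set.ncard_diff_singleton_add_one (mem_orbit_self _) (Set.finite_range _), e3,
      Set.ncard_image_of_injective _ aff_injective, ← Nat.card_coe_set_eq]
    rfl
  have hzero : aff (0 : K) ∈ orbit ↥H (inf₀ : Pt K) := by
    by_contra h0
    obtain ⟨P, hP, hsum⟩ := exists_sum_weight (H := H) h2 hneg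
    have hls : ¬ IsScalar (lower r₀) := by
      rintro (e0 | e0) <;>
        · have := congrArg (fun z : SL(2, K) => z.1 1 0) e0
          simp [lower, hr₀] at this
    have hus : ¬ IsScalar (upper s₀) := by
      rintro (e0 | e0) <;>
        · have := congrArg (fun z : SL(2, K) => z.1 0 1) e0
          simp [upper, hs₀] at this
    have hlfix : (⟨lower r₀, hb⟩ : ↥H) • (aff (0 : K) : Pt K) = aff 0 := by
      show lower r₀ • (aff (0 : K) : Pt K) = _
      have hv : (lower r₀).1 *ᵥ ![(0 : K), 1] ≠ 0 := fun e0 => by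
        simpa [lower, mulVec, vecHead, vecTail] using congrFun e0 1
      rw [aff, smul_mk_eq _ _ hv, Projectivization.mk_eq_mk_iff']
      exact ⟨1, by ext i; fin_cases i <;> simp [lower, mulVec, vecHead, vecTail]⟩
    have hufix : (⟨upper s₀, ha⟩ : ↥H) • (inf₀ : Pt K) = inf₀ := by
      show upper s₀ • (inf₀ : Pt K) = _
      rw [smul_inf₀_eq_iff]; simp [upper]
    have hbig : ∀ (x : Pt K) (h : ↥H), h • x = x → ¬ IsScalar (h : SL(2, K)) →
        tr (h : SL(2, K)) ^ 2 = 4 →
        Nat.card H < ∑ y ∈ (Set.finite_range (fun g : ↥H => g • x)).toFinset, weight H y := by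
      intro x h hx hs ht
      rw [Finset.sum_congr rfl (g := fun _ => weight H x) (fun y hy => by
        obtain ⟨g, rfl⟩ := (Set.Finite.mem_toFinset _).mp hy
        exact (weight_smul g x).1), Finset.sum_const, smul_eq_mul,
        ← Set.ncard_eq_toFinset_card _]
      have h4 := four_le_unipCount h2 hneg hx hs ht
      have h5 := weight_eq h2 hneg x
      rw [← orbit_ncard_mul x]
      exact Nat.mul_lt_mul_of_pos_left (by omega) ((Set.ncard_pos (Set.finite_range _)).mpr
        ⟨x, mem_orbit_self x⟩)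
    have h1 := hbig inf₀ ⟨upper s₀, ha⟩ hufix hus (by simp [upper, tr]; ring)
    have h3 := hbig (aff 0) ⟨lower r₀, hb⟩ hlfix hls (by simp [lower, tr]; ring)
    have hdis : Disjoint (Set.finite_range (fun g : ↥H => g • (inf₀ : Pt K))).toFinset
        (Set.finite_range (fun g : ↥H => g • (aff (0 : K) : Pt K))).toFinset := by
      rw [Finset.disjoint_left]
      intro y hy hy'
      rw [Set.Finite.mem_toFinset] at hy hy'
      exact h0 ((orbit_eq_iff.mpr hy).symm.trans (orbit_eq_iff.mpr hy') ▸ mem_orbit_self _)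
    have hsubP : ∀ (x : Pt K) (h : ↥H), h • x = x → ¬ IsScalar (h : SL(2, K)) →
        (Set.finite_range (fun g : ↥H => g • x)).toFinset ⊆ P := by
      intro x h hx hs y hy
      obtain ⟨g, rfl⟩ := (Set.Finite.mem_toFinset _).mp hy
      exact (hP _).mpr ⟨g * h * g⁻¹, fun e0 => hs (isScalar_conj.mp (by simpa using e0)),
        by rw [mul_smul, inv_smul_smul, mul_smul, hx]⟩
    have h6 := Finset.sum_le_sum_of_subset (f := weight H)
      (Finset.union_subset (hsubP _ _ hufix hus) (hsubP _ _ hlfix hls))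
    rw [Finset.sum_union hdis] at h6
    omega
  have hSZ : q ∣ Nat.card Z := by
    let hA : AddAction S Z :=
      { vadd := fun s z => ⟨(s : K) + z.1, by
          obtain ⟨g, hg⟩ := z.2
          refine ⟨(⟨upper (s : K), s.2⟩ : ↥H) * g, ?_⟩
          show ((⟨upper (s : K), s.2⟩ : ↥H) * g) • (inf₀ : Pt K) = _
          rw [mul_smul, show g • (inf₀ : Pt K) = aff z.1 from hg]
          show upper (s : K) • aff z.1 = _
          rw [upper_smul_aff, add_comm]⟩
        zero_vadd := fun z => Subtype.ext (zero_add _)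
        add_vadd := fun s t z => Subtype.ext (add_assoc _ _ _) }
    refine addCard_dvd_of_free (G := S) (X := Z) fun z => ?_
    rw [eq_bot_iff]
    intro s hs
    have h3 : (s : K) + z.1 = z.1 := congrArg Subtype.val hs
    exact Subtype.ext (by simpa using h3)
  haveI : Nonempty Z := ⟨⟨0, hzero⟩⟩
  obtain ⟨k, hk⟩ := hSZ
  have hk1 : 1 ≤ k := by
    rcases Nat.eq_zero_or_pos k with rfl | h
    · rw [mul_zero] at hk
      exact absurd hk Nat.card_pos.ne'
    · exact h
  have hn : n = 1 + k * q := by rw [← hZ, hk]; ring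
  by_cases hk' : k = 1
  · -- three points
    left
    subst hk'
    have hrc : lower r₀ • (inf₀ : Pt K) = aff (1 / r₀) := by
      rw [smul_inf₀_eq_aff_iff]
      simp [lower, hr₀]
    let φ : S → Z := fun s => ⟨(s : K), by
      obtain ⟨g, hg⟩ := hzero
      refine ⟨(⟨upper (s : K), s.2⟩ : ↥H) * g, ?_⟩
      show ((⟨upper (s : K), s.2⟩ : ↥H) * g) • (inf₀ : Pt K) = _
      rw [mul_smul, show g • (inf₀ : Pt K) = aff 0 from hg]
      show upper (s : K) • aff (0 : K) = _
      rw [upper_smul_aff, zero_add]⟩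
    have hφ : Function.Bijective φ := by
      rw [Nat.bijective_iff_injective_and_card]
      exact ⟨fun a b h => Subtype.ext (congrArg Subtype.val h :), by rw [hk, mul_one]⟩
    obtain ⟨s, hs⟩ := hφ.2 ⟨1 / r₀, ⟨⟨lower r₀, hb⟩, hrc⟩⟩
    refine ⟨s, s.2, ?_⟩
    rw [show (s : K) = 1 / r₀ from congrArg Subtype.val hs, one_div, inv_mul_cancel₀ hr₀]
  right
  obtain ⟨P, hP, hsum⟩ := exists_sum_weight (H := H) h2 hneg
  set Ω := (Set.finite_range (fun g : ↥H => g • (inf₀ : Pt K))).toFinset with hΩ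
  have hΩw : ∑ y ∈ Ω, weight H y + 4 * n = n * (2 * q * d) + n * (2 * q) := by
    rw [Finset.sum_congr rfl (g := fun _ => weight H (inf₀ : Pt K)) (fun y hy => by
        obtain ⟨g, rfl⟩ := (Set.Finite.mem_toFinset _).mp hy
        exact (weight_smul g _).1), Finset.sum_const, smul_eq_mul,
      ← Set.ncard_eq_toFinset_card _]
    have h5 := weight_eq h2 hneg (inf₀ : Pt K)
    rw [← hB, hcardB, hkercard] at h5
    show n * weight H (inf₀ : Pt K) + 4 * n = _
    have h6 : weight H (inf₀ : Pt K) + 4 = 2 * q * d + 2 * q := by omega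
    rw [mul_comm 4 n, ← mul_add, h6, mul_add]
  have hΩP : Ω ⊆ P := by
    intro y hy
    obtain ⟨g, rfl⟩ := (Set.Finite.mem_toFinset _).mp hy
    refine (hP _).mpr ⟨g * ⟨upper s₀, ha⟩ * g⁻¹, fun e0 => ?_, ?_⟩
    · have e1 : IsScalar (upper s₀) := isScalar_conj.mp (by simpa using e0)
      rcases e1 with e1 | e1 <;>
        · have := congrArg (fun z : SL(2, K) => z.1 0 1) e1
          simp [upper, hs₀] at this
    · rw [mul_smul, inv_smul_smul, mul_smul]
      congr 1
      show upper s₀ • (inf₀ : Pt K) = _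
      rw [smul_inf₀_eq_iff]; simp [upper]
  -- points outside the orbit of `inf₀`
  have hout : ∀ y ∈ P, y ∉ Ω →
      unipCount H y = 0 ∧ 4 ≤ Nat.card (stab H y) ∧
      weight H y + 2 = Nat.card (stab H y) ∧ Disjoint Ω
        (Set.finite_range (fun g : ↥H => g • y)).toFinset ∧
      (Set.finite_range (fun g : ↥H => g • y)).toFinset ⊆ P := by
    intro y hy hyΩ
    obtain ⟨h, hs, hh⟩ := (hP y).mp hy
    set O := (Set.finite_range (fun g : ↥H => g • y)).toFinset
    have hdis : Disjoint Ω O := by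
      rw [Finset.disjoint_left]
      intro z hz hz'
      rw [hΩ, Set.Finite.mem_toFinset] at hz
      rw [Set.Finite.mem_toFinset] at hz'
      refine hyΩ ((Set.Finite.mem_toFinset _).mpr ?_)
      have he1 := (orbit_eq_iff.mpr hz).symm.trans (orbit_eq_iff.mpr hz')
      show y ∈ orbit ↥H _
      rw [he1]
      exact mem_orbit_self y
    have hOP : O ⊆ P := by
      intro z hz
      obtain ⟨g, rfl⟩ := (Set.Finite.mem_toFinset _).mp hz
      exact (hP _).mpr ⟨g * h * g⁻¹, fun e0 => hs (isScalar_conj.mp (by simpa using e0)),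
        by rw [mul_smul, inv_smul_smul, mul_smul, hh]⟩
    have hOw : ∑ z ∈ O, weight H z = (orbit ↥H y).ncard * weight H y := by
      rw [Finset.sum_congr rfl (g := fun _ => weight H y) (fun z hz => by
        obtain ⟨g, rfl⟩ := (Set.Finite.mem_toFinset _).mp hz
        exact (weight_smul g _).1), Finset.sum_const, smul_eq_mul,
        ← Set.ncard_eq_toFinset_card _]
      rfl
    have hu : unipCount H y = 0 := by
      by_contra hu
      obtain ⟨h', hh', hs', ht'⟩ := Set.nonempty_of_ncard_ne_zero hu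
      have h4 := four_le_unipCount h2 hneg hh' hs' ht'
      have h5 := weight_eq h2 hneg y
      have h6 := Finset.sum_le_sum_of_subset (f := weight H) (Finset.union_subset hΩP hOP)
      rw [Finset.sum_union hdis, hOw] at h6
      have h7 : Nat.card H < (orbit ↥H y).ncard * weight H y := by
        rw [← orbit_ncard_mul y]
        exact Nat.mul_lt_mul_of_pos_left (by omega) ((Set.ncard_pos (Set.finite_range _)).mpr
          ⟨y, mem_orbit_self y⟩)
      have h8 : 4 * n ≤ n * (2 * q) := by rw [mul_comm 4 n]; exact Nat.mul_le_mul_left n (by omega)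
      omega
    have h5 := weight_eq h2 hneg y
    refine ⟨hu, ?_, by omega, hdis, hOP⟩
    set z : ↥H := ⟨-1, hneg⟩
    have hzy : z • y = y := IsScalar.smul (Or.inr rfl) y
    have hne : z ≠ 1 := fun e1 => by
      have h3 := congrArg (fun w : ↥H => (w : SL(2, K)).1 0 0) e1
      simp [z] at h3
      exact h2 (by linear_combination -h3)
    have hcard : 2 ∣ Nat.card (stab H y) := by
      have ho : orderOf (⟨z, hzy⟩ : stab H y) = 2 := by
        refine orderOf_eq_prime (Subtype.ext (Subtype.ext ?_)) fun e1 => hne (congrArg Subtype.val e1)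
        simp [z, sq]
      exact (dvd_of_eq ho.symm).trans (orderOf_dvd_natCard _)
    have h3 : 2 < Nat.card (stab H y) := by
      rw [← SetLike.coe_sort_coe, Nat.card_coe_set_eq, Set.two_lt_ncard (Set.toFinite _)]
      exact ⟨1, one_mem _, z, hzy, h, hh, hne.symm, fun e1 => hs (e1 ▸ Or.inl rfl),
        fun e1 => hs (e1 ▸ Or.inr rfl)⟩
    omega
  -- there is exactly one further orbit
  have hq4 : 4 * n ≤ n * (2 * q) := by rw [mul_comm 4 n]; exact Nat.mul_le_mul_left n (by omega)
  obtain ⟨x, hx, hxΩ⟩ : ∃ x ∈ P, x ∉ Ω := by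
    by_contra hc
    push Not at hc
    rw [Finset.Subset.antisymm hc hΩP] at hsum
    rw [hN] at hsum
    have h3 : n * (2 * q) ≤ n * (2 * q * d) :=
      Nat.mul_le_mul_left n (Nat.le_mul_of_pos_right _ hd0)
    have h4 : n * (2 * q) = 2 * (n * q) := by ring
    have h6 : q ≤ k * q := Nat.le_mul_of_pos_left q hk1
    have h5 : 3 * n ≤ n * q := by rw [mul_comm 3 n]; exact Nat.mul_le_mul_left n hq3
    omega
  obtain ⟨hu, hs4, hwx, hdisx, hOPx⟩ := hout x hx hxΩ
  set O := (Set.finite_range (fun g : ↥H => g • x)).toFinset with hO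
  have hOw : ∑ z ∈ O, weight H z + 2 * (orbit ↥H x).ncard = Nat.card H := by
    rw [Finset.sum_congr rfl (g := fun _ => weight H x) (fun z hz => by
      obtain ⟨g, rfl⟩ := (Set.Finite.mem_toFinset _).mp hz
      exact (weight_smul g _).1), Finset.sum_const, smul_eq_mul,
      ← Set.ncard_eq_toFinset_card _, ← orbit_ncard_mul x, ← hwx, mul_add, mul_comm 2]
    rfl
  have hall : ∀ y ∈ P, y ∈ Ω ∨ y ∈ O := by
    intro y hy
    by_contra hc
    push Not at hc
    obtain ⟨-, hy4, hwy, hdisy, hOPy⟩ := hout y hy hc.1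
    set O' := (Set.finite_range (fun g : ↥H => g • y)).toFinset
    have hdis' : Disjoint O O' := by
      rw [Finset.disjoint_left]
      intro z hz hz'
      rw [hO, Set.Finite.mem_toFinset] at hz
      rw [Set.Finite.mem_toFinset] at hz'
      refine hc.2 ((Set.Finite.mem_toFinset _).mpr ?_)
      have he1 := (orbit_eq_iff.mpr hz).symm.trans (orbit_eq_iff.mpr hz')
      show y ∈ orbit ↥H _
      rw [he1]
      exact mem_orbit_self y
    have h6 := Finset.sum_le_sum_of_subset (f := weight H)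
      (Finset.union_subset (Finset.union_subset hΩP hOPx) hOPy)
    rw [Finset.sum_union (Finset.disjoint_union_left.mpr ⟨hdisy, hdis'⟩),
      Finset.sum_union hdisx] at h6
    have hO'w : ∑ z ∈ O', weight H z + 2 * (orbit ↥H y).ncard = Nat.card H := by
      rw [Finset.sum_congr rfl (g := fun _ => weight H y) (fun z hz => by
        obtain ⟨g, rfl⟩ := (Set.Finite.mem_toFinset _).mp hz
        exact (weight_smul g _).1), Finset.sum_const, smul_eq_mul,
        ← Set.ncard_eq_toFinset_card _, ← orbit_ncard_mul y, ← hwy, mul_add, mul_comm 2]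
      rfl
    have h7 : 4 * (orbit ↥H x).ncard ≤ Nat.card H := by
      rw [← orbit_ncard_mul x, mul_comm 4]; exact Nat.mul_le_mul_left _ hs4
    have h8 : 4 * (orbit ↥H y).ncard ≤ Nat.card H := by
      rw [← orbit_ncard_mul y, mul_comm 4]; exact Nat.mul_le_mul_left _ hy4
    omega
  have hPeq : P = Ω ∪ O := by
    refine Finset.Subset.antisymm (fun y hy => Finset.mem_union.mpr (hall y hy)) ?_
    exact Finset.union_subset hΩP hOPx
  rw [hPeq, Finset.sum_union hdisx] at hsum
  have ho : (orbit ↥H x).ncard = n * (q - 2) + 2 := by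
    have h3 : n * (q - 2) + 2 * n = n * q := by
      rw [mul_comm 2 n, ← mul_add, Nat.sub_add_cancel (by omega)]
    have h4 : n * (2 * q) = 2 * (n * q) := by ring
    omega
  have hs2 : 2 ∣ Nat.card (stab H x) := by
    set z : ↥H := ⟨-1, hneg⟩
    have hzy : z • x = x := IsScalar.smul (Or.inr rfl) x
    have hord : orderOf (⟨z, hzy⟩ : stab H x) = 2 := by
      refine orderOf_eq_prime (Subtype.ext (Subtype.ext ?_)) fun e1 => ?_
      · simp [z, sq]
      · have h3 := congrArg (fun w : stab H x => (w.1 : SL(2, K)).1 0 0) e1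
        simp [z] at h3
        exact h2 (by linear_combination -h3)
    exact (dvd_of_eq hord.symm).trans (orderOf_dvd_natCard _)
  obtain ⟨m, hm⟩ := hs2
  have hmN : (orbit ↥H x).ncard * (2 * m) = Nat.card H := by rw [← hm, orbit_ncard_mul]
  obtain ⟨hq, hd2, hm5, -⟩ :=
    (arith_cases hq3 hn hk1 hd hd0 ho hN hmN).resolve_left hk'
  have h3 : (3 : K) = 0 := by
    have e3 : q • (⟨s₀, ha⟩ : S) = 0 := card_nsmul_eq_zero'
    have e4 : (q : K) * s₀ = 0 := by
      rw [← nsmul_eq_mul]; exact congrArg Subtype.val e3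
    rw [hq] at e4
    simpa [hs₀] using e4
  -- traces of the elements
  have htr : ∀ h : ↥H, tr (h : SL(2, K)) = 0 ∨ tr (h : SL(2, K)) ^ 2 = 4 ∨
      tr (h : SL(2, K)) ^ 4 - 3 * tr (h : SL(2, K)) ^ 2 + 1 = 0 := by
    intro h
    by_cases hs : IsScalar (h : SL(2, K))
    · right; left
      rcases hs with e1 | e1 <;> simp [tr, e1] <;> ring
    obtain ⟨y, hy⟩ := exists_fixed (h : SL(2, K))
    have hyP : y ∈ P := (hP y).mpr ⟨h, hs, hy⟩
    have hst : (h : SL(2, K)) ^ Nat.card (stab H y) = 1 := by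
      have := pow_card_eq_one' (x := (⟨h, hy⟩ : stab H y))
      exact congrArg (fun w : stab H y => ((w : ↥H) : SL(2, K))) this
    obtain ⟨e1, he1, hte⟩ := tr_of_pow hy hst
    have he0 : e1 ≠ 0 := by
      rintro rfl
      simp at hte
    rcases hall y hyP with hy' | hy'
    · obtain ⟨g, rfl⟩ := (Set.Finite.mem_toFinset _).mp hy'
      rw [stab_card_smul, ← hB, hcardB, hkercard, hq, hd2] at he1
      have h4 : (e1 ^ 4 - 1) ^ 3 = 0 := by
        linear_combination he1 - (e1 ^ 8 - e1 ^ 4) * h3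
      have h5 : (e1 ^ 2 - 1) * (e1 ^ 2 + 1) = 0 := by
        linear_combination pow_eq_zero_iff (three_ne_zero) |>.mp h4
      rcases mul_eq_zero.mp h5 with h6 | h6
      · right; left
        refine mul_right_cancel₀ (pow_ne_zero 2 he0) ?_
        linear_combination (tr (h : SL(2, K)) * e1 + e1 ^ 2 + 1) * hte + (e1 ^ 2 - 1) * h6
      · left
        have h8 : tr (h : SL(2, K)) * e1 = 0 := by rw [hte]; exact h6
        exact (mul_eq_zero.mp h8).resolve_right he0
    · obtain ⟨g, rfl⟩ := (Set.Finite.mem_toFinset _).mp hy'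
      rw [stab_card_smul, hm, hm5] at he1
      have hne : e1 ^ 2 - 1 ≠ 0 := by
        intro h6
        have hu' : unipCount H (g • x) = 0 := (weight_smul g x).2.trans hu
        have hmem : h ∈ {k : ↥H | k • g • x = g • x ∧ ¬ IsScalar (k : SL(2, K)) ∧
            tr (k : SL(2, K)) ^ 2 = 4} := ⟨hy, hs, ?_⟩
        · exact Set.notMem_empty h ((Set.ncard_eq_zero (Set.toFinite _)).mp hu' ▸ hmem)
        refine mul_right_cancel₀ (pow_ne_zero 2 he0) ?_
        linear_combination (tr (h : SL(2, K)) * e1 + e1 ^ 2 + 1) * hte + (e1 ^ 2 - 1) * h6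
      right; right
      refine mul_right_cancel₀ (pow_ne_zero 4 he0) ?_
      rw [zero_mul]
      have h7 : (e1 ^ 2 - 1) * (e1 ^ 8 + e1 ^ 6 + e1 ^ 4 + e1 ^ 2 + 1) = 0 := by
        linear_combination he1
      linear_combination (mul_eq_zero.mp h7).resolve_left hne +
        ((tr (h : SL(2, K)) * e1) ^ 3 + (tr (h : SL(2, K)) * e1) ^ 2 * (e1 ^ 2 + 1) +
          (tr (h : SL(2, K)) * e1) * (e1 ^ 2 + 1) ^ 2 + (e1 ^ 2 + 1) ^ 3 -
          3 * e1 ^ 2 * (tr (h : SL(2, K)) * e1 + e1 ^ 2 + 1)) * hte
  set r := s₀ * r₀ with hr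
  have hr0 : r ≠ 0 := mul_ne_zero hs₀ hr₀
  have t1 : tr (upper s₀ * lower r₀) = 2 + r := by
    simp [tr, Matrix.mul_apply, Fin.sum_univ_two, hr]; ring
  have t2 : tr (upper s₀ * (lower r₀)⁻¹) = 2 - r := by
    simp [tr, Matrix.adjugate_fin_two, Matrix.mul_apply, Fin.sum_univ_two, hr]; ring
  have hu1 := htr ⟨_, mul_mem ha hb⟩
  have hu2 := htr ⟨_, mul_mem ha (inv_mem hb)⟩
  simp only [t1] at hu1
  simp only [t2] at hu2
  rcases hu1 with h1 | h1 | h1
  · left; linear_combination h1 - h3
  · rcases mul_eq_zero.mp (show r * (r + 4) = 0 by linear_combination h1) with h5 | h5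
    · exact absurd h5 hr0
    · right; left; linear_combination h5 - h3
  rcases hu2 with h4 | h4 | h4
  · right; left; linear_combination -h4 + h3
  · rcases mul_eq_zero.mp (show r * (r - 4) = 0 by linear_combination h4) with h5 | h5
    · exact absurd h5 hr0
    · left; linear_combination h5 + h3
  right; right
  have h5 : r * (r ^ 2 + 1) * 16 = 0 := by
    linear_combination h1 - h4 - 8 * r * h3
  have h16 : (16 : K) ≠ 0 := by
    rw [show (16 : K) = 2 ^ 4 by norm_num]
    exact pow_ne_zero 4 h2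
  exact eq_neg_of_add_eq_zero_left
    ((mul_eq_zero.mp ((mul_eq_zero.mp h5).resolve_right h16)).resolve_left hr0)

end Cfsg.Agent.SL2Dickson
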