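import Cfsg.Agent.Lib.SL2Dickson.Dickson
import Cfsg.Agent.Lib.LocalEvenA.Core
import Cfsg.Prelude.Def_LocalEven
import Cfsg.Prelude.Def_PLocal

/-!
# The structure of Qd
-/

set_option autoImplicit false
set_option linter.style.haveILetI false
set_option linter.unusedSectionVars false
set_option linter.unusedVariables false

namespace Cfsg.Agent.SL2Dickson

open Matrix
open scoped MatrixGroups commutatorElement

variable {F : Type*} [Field F]

/-- The affine matrix of a translation part and a linear part. -/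
def block (v : Fin 2 → F) (q : SL(2, F)) : SL(3, F) :=
  ⟨!![q.1 0 0, q.1 0 1, v 0; q.1 1 0, q.1 1 1, v 1; 0, 0, 1], by
    have h := q.2
    rw [det_fin_two] at h
    simp [det_fin_three]
    linear_combination h⟩

@[simp] theorem block_coe (v : Fin 2 → F) (q : SL(2, F)) :
    (block v q).1 = !![q.1 0 0, q.1 0 1, v 0; q.1 1 0, q.1 1 1, v 1; 0, 0, 1] := rfl

theorem block_mem (v : Fin 2 → F) (q : SL(2, F)) : block v q ∈ Cfsg.qdOver F :=
  Subgroup.subset_closure (by simp)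

theorem block_mul (v w : Fin 2 → F) (q r : SL(2, F)) :
    block v q * block w r = block (v + q.1 *ᵥ w) (q * r) := by
  ext i j
  fin_cases i <;> fin_cases j <;>
    simp [Matrix.mul_apply, Fin.sum_univ_three, Fin.sum_univ_two, mulVec, dotProduct,
      vecHead, vecTail] <;> ring

theorem block_zero_one : block (0 : Fin 2 → F) 1 = 1 := by
  ext i j; fin_cases i <;> fin_cases j <;> simp

theorem block_inj {v w : Fin 2 → F} {q r : SL(2, F)} (h : block v q = block w r) :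
    v = w ∧ q = r := by
  have e : ∀ i j, (block v q).1 i j = (block w r).1 i j := fun i j => by rw [h]
  refine ⟨funext fun i => ?_, ?_⟩
  · fin_cases i
    · simpa [vecHead, vecTail] using e 0 2
    · simpa [vecHead, vecTail] using e 1 2
  · ext i j
    fin_cases i <;> fin_cases j
    · simpa using e 0 0
    · simpa using e 0 1
    · simpa using e 1 0
    · simpa using e 1 1

theorem block_inv (v : Fin 2 → F) (q : SL(2, F)) :
    (block v q)⁻¹ = block (-((q⁻¹).1 *ᵥ v)) q⁻¹ := by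
  refine inv_eq_of_mul_eq_one_left ?_
  rw [block_mul, neg_add_cancel, inv_mul_cancel, block_zero_one]

/-- Every element of `Qd` is an affine matrix. -/
theorem exists_block {M : SL(3, F)} (hM : M ∈ Cfsg.qdOver F) : ∃ v q, block v q = M := by
  induction hM using Subgroup.closure_induction with
  | mem M hM =>
    obtain ⟨h0, h1, h2⟩ := hM
    have hd : (!![M.1 0 0, M.1 0 1; M.1 1 0, M.1 1 1]).det = 1 := by
      have := M.2
      rw [det_fin_three] at this
      rw [det_fin_two]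
      simp [h0, h1, h2] at this
      simpa using this
    refine ⟨![M.1 0 2, M.1 1 2], ⟨_, hd⟩, ?_⟩
    ext i j
    show (!![M.1 0 0, M.1 0 1, M.1 0 2; M.1 1 0, M.1 1 1, M.1 1 2; 0, 0, 1] :
      Matrix (Fin 3) (Fin 3) F) i j = M.1 i j
    fin_cases i <;> fin_cases j <;> simp [h0, h1, h2, vecHead, vecTail]
  | one => exact ⟨0, 1, block_zero_one⟩
  | mul x y _ _ hx hy =>
    obtain ⟨v, q, rfl⟩ := hx
    obtain ⟨w, r, rfl⟩ := hy
    exact ⟨_, _, (block_mul v w q r).symm⟩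
  | inv x _ hx =>
    obtain ⟨v, q, rfl⟩ := hx
    exact ⟨_, _, (block_inv v q).symm⟩

/-- An element of `Qd`. -/
def qdMk (v : Fin 2 → F) (q : SL(2, F)) : ↥(Cfsg.qdOver F) := ⟨block v q, block_mem v q⟩

theorem qdMk_mul (v w : Fin 2 → F) (q r : SL(2, F)) :
    qdMk v q * qdMk w r = qdMk (v + q.1 *ᵥ w) (q * r) := Subtype.ext (block_mul v w q r)

theorem qdMk_one : qdMk (0 : Fin 2 → F) 1 = 1 := Subtype.ext block_zero_one

theorem qdMk_inj {v w : Fin 2 → F} {q r : SL(2, F)} (h : qdMk v q = qdMk w r) : v = w ∧ q = r :=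
  block_inj (congrArg Subtype.val h)

theorem qdMk_surj (M : ↥(Cfsg.qdOver F)) : ∃ v q, qdMk v q = M := by
  obtain ⟨v, q, h⟩ := exists_block M.2
  exact ⟨v, q, Subtype.ext h⟩

theorem qdMk_inv (v : Fin 2 → F) (q : SL(2, F)) :
    (qdMk v q)⁻¹ = qdMk (-((q⁻¹).1 *ᵥ v)) q⁻¹ := Subtype.ext (block_inv v q)

/-- The translations. -/
def qdTr : Multiplicative (Fin 2 → F) →* ↥(Cfsg.qdOver F) where
  toFun v := qdMk (Multiplicative.toAdd v) 1
  map_one' := qdMk_one
  map_mul' v w := by rw [qdMk_mul]; simp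

/-- The linear part of a complement. -/
def qdLin : SL(2, F) →* ↥(Cfsg.qdOver F) where
  toFun q := qdMk 0 q
  map_one' := qdMk_one
  map_mul' q r := by rw [qdMk_mul]; simp

/-- The linear part. -/
noncomputable def linPart (M : ↥(Cfsg.qdOver F)) : SL(2, F) := (qdMk_surj M).choose_spec.choose

theorem linPart_mk (v : Fin 2 → F) (q : SL(2, F)) : linPart (qdMk v q) = q :=
  (qdMk_inj (qdMk_surj (qdMk v q)).choose_spec.choose_spec).2

/-- The projection to `SL(2)`. -/
noncomputable def qdProj : ↥(Cfsg.qdOver F) →* SL(2, F) where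
  toFun := linPart
  map_one' := by rw [← qdMk_one, linPart_mk]
  map_mul' M N := by
    obtain ⟨v, q, rfl⟩ := qdMk_surj M
    obtain ⟨w, r, rfl⟩ := qdMk_surj N
    rw [qdMk_mul, linPart_mk, linPart_mk, linPart_mk]

theorem qdProj_mk (v : Fin 2 → F) (q : SL(2, F)) : qdProj (qdMk v q) = q := linPart_mk v q

theorem qdProj_surjective : Function.Surjective (qdProj (F := F)) :=
  fun q => ⟨qdMk 0 q, qdProj_mk 0 q⟩

theorem qdProj_eq_one_iff (M : ↥(Cfsg.qdOver F)) : qdProj M = 1 ↔ M ∈ (qdTr (F := F)).range := by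
  constructor
  · intro h
    obtain ⟨v, q, rfl⟩ := qdMk_surj M
    rw [qdProj_mk] at h
    exact ⟨Multiplicative.ofAdd v, by rw [h]; rfl⟩
  · rintro ⟨v, rfl⟩
    exact qdProj_mk _ _

theorem qdMk_conj_tr (v w : Fin 2 → F) (q : SL(2, F)) :
    qdMk v q * qdMk w 1 * (qdMk v q)⁻¹ = qdMk (q.1 *ᵥ w) 1 := by
  rw [mul_inv_eq_iff_eq_mul, qdMk_mul, qdMk_mul, mul_one, one_mul]
  simp [add_comm]

instance qdTr_range_normal : (qdTr (F := F)).range.Normal := by
  refine ⟨?_⟩
  rintro _ ⟨w, rfl⟩ M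
  obtain ⟨v, q, rfl⟩ := qdMk_surj M
  exact ⟨Multiplicative.ofAdd (q.1 *ᵥ Multiplicative.toAdd w), (qdMk_conj_tr v _ q).symm⟩

section finiteField

variable [Finite F] {p : ℕ} [hp : Fact p.Prime] [CharP F p]

theorem qdTr_isPGroup : IsPGroup p (qdTr (F := F)).range := by
  rintro ⟨_, v, rfl⟩
  refine ⟨1, Subtype.ext ?_⟩
  rw [SubgroupClass.coe_pow, OneMemClass.coe_one, pow_one, ← map_pow]
  convert map_one (qdTr (F := F))
  apply Multiplicative.toAdd.injective
  funext i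
  simp [CharP.cast_eq_zero]

/-- Elements of `p`-power order have trace `2`. -/
theorem tr_of_pPow {h : SL(2, F)} {k : ℕ} (hk : h ^ p ^ k = 1) : tr h = 2 := by
  have hnil : IsNilpotent (h.1 - 1) := by
    refine ⟨p ^ k, ?_⟩
    haveI : CharP (Matrix (Fin 2) (Fin 2) F) p :=
      charP_of_injective_ringHom (f := Matrix.scalar (Fin 2))
        (fun a b e => by simpa using congrFun (congrFun e 0) 0) p
    rw [sub_pow_char_pow_of_commute (p := p) (n := k) (Commute.one_right h.1), one_pow,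
      ← Matrix.SpecialLinearGroup.coe_pow, hk, Matrix.SpecialLinearGroup.coe_one, sub_self]
  have h1 := (Matrix.isNilpotent_trace_of_isNilpotent hnil).eq_zero
  rw [Matrix.trace_fin_two] at h1
  simp only [Matrix.sub_apply, Matrix.one_apply_eq] at h1
  rw [tr]
  linear_combination h1

/-- A `p`-element whose products with all upper transvections are `p`-elements is upper. -/
theorem eq_upper_of_pGroup {h : SL(2, F)} (hh : ∃ k : ℕ, h ^ p ^ k = 1)
    (hu : ∃ k : ℕ, (h * upper 1) ^ p ^ k = 1) : h = upper (h.1 0 1) := by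
  obtain ⟨k, hk⟩ := hh
  obtain ⟨l, hl⟩ := hu
  have h1 := tr_of_pPow hk
  have h2 := tr_of_pPow hl
  have e : tr (h * upper 1) = tr h + h.1 1 0 := by
    simp [tr, Matrix.mul_apply, Fin.sum_univ_two]; ring
  rw [e, h1] at h2
  have h10 : h.1 1 0 = 0 := by linear_combination h2
  obtain ⟨he, -⟩ := diag_eq_of_tr_sq h10 (by rw [h1]; norm_num)
  have hd := det_eq h
  rw [h10, mul_zero, sub_zero, ← he] at hd
  have h00 : h.1 0 0 = 1 := by
    have e2 : (h.1 0 0 - 1) ^ 2 = 0 := by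
      rw [tr, ← he] at h1
      linear_combination hd - h1
    exact sub_eq_zero.mp (pow_eq_zero_iff two_ne_zero |>.mp e2)
  ext i j; fin_cases i <;> fin_cases j <;> simp [h10, h00, ← he]

/-- `SL(2)` has no nontrivial normal `p`-subgroup. -/
theorem normal_pGroup_eq_bot (N : Subgroup SL(2, F)) [hN : N.Normal] (hNp : IsPGroup p N) :
    N = ⊥ := by
  rw [eq_bot_iff]
  intro h hh
  have pp : ∀ x ∈ N, ∃ k : ℕ, x ^ p ^ k = 1 := fun x hx => by
    obtain ⟨k, hk⟩ := hNp ⟨x, hx⟩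
    exact ⟨k, congrArg Subtype.val hk⟩
  obtain ⟨k, hk⟩ := pp h hh
  have h1 := tr_of_pPow hk
  have hcu := pp _ (N.mul_mem (hN.conj_mem h hh (upper 1)) (N.inv_mem hh))
  obtain ⟨l, hl⟩ := hcu
  have h2 := tr_of_pPow hl
  have hcl := pp _ (N.mul_mem (hN.conj_mem h hh (lower 1)) (N.inv_mem hh))
  obtain ⟨m, hm⟩ := hcl
  have h3 := tr_of_pPow hm
  have hd := det_eq h
  have hui : ((upper (1 : F))⁻¹).1 = !![1, -1; 0, 1] := by
    simp [Matrix.adjugate_fin_two]
  have e2 : tr (upper 1 * h * (upper 1)⁻¹ * h⁻¹) = 2 + h.1 1 0 ^ 2 := by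
    simp [tr, Matrix.mul_apply, Fin.sum_univ_two, Matrix.adjugate_fin_two, Matrix.vecMul,
      dotProduct, vecHead, vecTail]
    linear_combination (2 : F) * hd
  have e3 : tr (lower 1 * h * (lower 1)⁻¹ * h⁻¹) = 2 + h.1 0 1 ^ 2 := by
    simp [tr, Matrix.mul_apply, Fin.sum_univ_two, Matrix.adjugate_fin_two, Matrix.vecMul,
      dotProduct, vecHead, vecTail]
    linear_combination (2 : F) * hd
  rw [e2] at h2
  rw [e3] at h3
  have h10 : h.1 1 0 = 0 := pow_eq_zero_iff two_ne_zero |>.mp (by linear_combination h2)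
  have h01 : h.1 0 1 = 0 := pow_eq_zero_iff two_ne_zero |>.mp (by linear_combination h3)
  obtain ⟨he, -⟩ := diag_eq_of_tr_sq h10 (by rw [h1]; norm_num)
  rw [h10, mul_zero, sub_zero, ← he] at hd
  have h00 : h.1 0 0 = 1 := by
    have e4 : (h.1 0 0 - 1) ^ 2 = 0 := by
      rw [tr, ← he] at h1
      linear_combination hd - h1
    exact sub_eq_zero.mp (pow_eq_zero_iff two_ne_zero |>.mp e4)
  rw [Subgroup.mem_bot]
  ext i j; fin_cases i <;> fin_cases j <;> simp [h10, h01, h00, ← he]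

theorem pCore_qdOver : Cfsg.pCore p ↥(Cfsg.qdOver F) = (qdTr (F := F)).range := by
  refine le_antisymm (fun M hM => ?_)
    (LocalEvenA.le_pCore_of_normal qdTr_range_normal qdTr_isPGroup)
  rw [← qdProj_eq_one_iff]
  haveI := LocalEvenA.pCore_normal' p ↥(Cfsg.qdOver F)
  haveI : ((Cfsg.pCore p ↥(Cfsg.qdOver F)).map qdProj).Normal :=
    Subgroup.Normal.map inferInstance _ qdProj_surjective
  rw [← Subgroup.mem_bot, ← normal_pGroup_eq_bot _
    ((LocalEvenA.pCore_isPGroup' p ↥(Cfsg.qdOver F)).map qdProj)]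
  exact Subgroup.mem_map_of_mem _ hM

end finiteField

section prime

variable {p : ℕ} [hp : Fact p.Prime]

/-- The standard Sylow subgroup of `Qd(p)`. -/
def sylQd (p : ℕ) [Fact p.Prime] : Subgroup ↥(Cfsg.qdOver (ZMod p)) where
  carrier := {M | ∃ v s, qdMk v (upper s) = M}
  one_mem' := ⟨0, 0, by rw [upper_zero, qdMk_one]⟩
  mul_mem' := by
    rintro _ _ ⟨v, s, rfl⟩ ⟨w, t, rfl⟩
    exact ⟨_, _, by rw [upper_add, qdMk_mul]⟩
  inv_mem' := by
    rintro _ ⟨v, s, rfl⟩
    refine ⟨-((upper s)⁻¹.1 *ᵥ v), -s, ?_⟩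
    rw [qdMk_inv]
    congr 1
    exact (inv_eq_of_mul_eq_one_right (by rw [← upper_add, add_neg_cancel, upper_zero])).symm

theorem qdMk_mem_sylQd {v : Fin 2 → ZMod p} {q : SL(2, ZMod p)} :
    qdMk v q ∈ sylQd p ↔ ∃ s, q = upper s := by
  constructor
  · rintro ⟨w, s, h⟩
    exact ⟨s, ((qdMk_inj h).2).symm⟩
  · rintro ⟨s, rfl⟩
    exact ⟨v, s, rfl⟩

theorem sylQd_isPGroup : IsPGroup p (sylQd p) := by
  intro x
  obtain ⟨v, s, hx⟩ := x.2
  refine ⟨2, Subtype.ext ?_⟩
  rw [SubgroupClass.coe_pow, OneMemClass.coe_one, ← hx]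
  have hproj : qdProj (qdMk v (upper s) ^ p) = 1 := by
    rw [map_pow, qdProj_mk, upper_pow, ZMod.natCast_self, zero_mul, upper_zero]
  obtain ⟨w, hw⟩ := (qdProj_eq_one_iff _).mp hproj
  rw [sq, pow_mul, ← hw, ← map_pow]
  convert map_one (qdTr (F := ZMod p))
  apply Multiplicative.toAdd.injective
  funext i
  simp

/-- Every Sylow subgroup is conjugate to the standard one. -/
theorem exists_sylow_sylQd : ∃ P : Sylow p ↥(Cfsg.qdOver (ZMod p)),
    (P : Subgroup ↥(Cfsg.qdOver (ZMod p))) = sylQd p := by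
  obtain ⟨P, hP⟩ := (sylQd_isPGroup (p := p)).exists_le_sylow
  refine ⟨P, le_antisymm (fun M hM => ?_) hP⟩
  obtain ⟨v, q, rfl⟩ := qdMk_surj M
  have pp : ∀ y ∈ (P : Subgroup ↥(Cfsg.qdOver (ZMod p))), ∃ k : ℕ, qdProj y ^ p ^ k = 1 :=
    fun y hy => by
      obtain ⟨k, hk⟩ := P.2 ⟨y, hy⟩
      refine ⟨k, ?_⟩
      rw [← map_pow, show y ^ p ^ k = 1 from congrArg Subtype.val hk, map_one]
  have h1 := pp _ hM
  have h2 := pp _ (mul_mem hM (hP (qdMk_mem_sylQd.mpr ⟨1, rfl⟩ : qdMk 0 (upper 1) ∈ sylQd p)))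
  rw [qdProj_mk] at h1
  rw [map_mul, qdProj_mk, qdProj_mk] at h2
  exact qdMk_mem_sylQd.mpr ⟨_, eq_upper_of_pGroup h1 h2⟩

/-- The automorphism of the standard Sylow subgroup exchanging the two maximal elementary
abelian subgroups, on coordinates. -/
theorem exists_aut_sylQd : ∃ α : MulAut (sylQd p), ∃ t : sylQd p,
    (∃ v, qdMk v 1 = (t : ↥(Cfsg.qdOver (ZMod p)))) ∧
      ¬ ∃ v, qdMk v 1 = ((α t : sylQd p) : ↥(Cfsg.qdOver (ZMod p))) := by
  classical
  let mk : (ZMod p × ZMod p × ZMod p) → sylQd p := fun c =>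
    ⟨qdMk ![c.1, c.2.1] (upper c.2.2), qdMk_mem_sylQd.mpr ⟨_, rfl⟩⟩
  have hmk : Function.Bijective mk := by
    refine ⟨?_, ?_⟩
    · rintro ⟨x, y, s⟩ ⟨x', y', s'⟩ h
      obtain ⟨hv, hq⟩ := qdMk_inj (congrArg Subtype.val h)
      have e0 : x = x' := by simpa using congrFun hv 0
      have e1 : y = y' := by simpa using congrFun hv 1
      have e2 : s = s' := by simpa using congrArg (fun z : SL(2, ZMod p) => z.1 0 1) hq
      rw [e0, e1, e2]
    · rintro ⟨M, v, s, hM⟩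
      refine ⟨(v 0, v 1, s), Subtype.ext ?_⟩
      show qdMk ![v 0, v 1] (upper s) = M
      rw [← hM]
      congr 1
      ext i; fin_cases i <;> rfl
  have hmul : ∀ c d : ZMod p × ZMod p × ZMod p, mk c * mk d =
      mk (c.1 + d.1 + c.2.2 * d.2.1, c.2.1 + d.2.1, c.2.2 + d.2.2) := by
    intro c d
    apply Subtype.ext
    show qdMk _ _ * qdMk _ _ = qdMk _ _
    rw [qdMk_mul, ← upper_add]
    congr 1
    ext i; fin_cases i <;> simp [mulVec, dotProduct, Fin.sum_univ_two] <;> ring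
  let e := Equiv.ofBijective mk hmk
  let f : (ZMod p × ZMod p × ZMod p) → (ZMod p × ZMod p × ZMod p) := fun c =>
    (c.2.1 * c.2.2 - c.1, c.2.2, c.2.1)
  have hf : Function.Involutive f := fun c => by
    rcases c with ⟨x, y, s⟩
    simp only [f, Prod.mk.injEq, and_true]
    ring
  let φ : sylQd p ≃ sylQd p := e.symm.trans ((Function.Involutive.toPerm f hf).trans e)
  have hφ : ∀ c, φ (mk c) = mk (f c) := fun c => by
    show e (f (e.symm (e c))) = _
    rw [e.symm_apply_apply]; rfl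
  refine ⟨MulEquiv.mk' φ fun x y => ?_, mk (0, 1, 0), ⟨![0, 1], ?_⟩, ?_⟩
  · obtain ⟨c, rfl⟩ := hmk.2 x
    obtain ⟨d, rfl⟩ := hmk.2 y
    rw [hmul, hφ, hφ, hφ, hmul]
    congr 1
    simp only [f, Prod.mk.injEq]
    refine ⟨by ring, trivial⟩
  · show qdMk ![0, 1] 1 = qdMk ![0, 1] (upper 0)
    rw [upper_zero]
  · rintro ⟨v, hv⟩
    rw [show (MulEquiv.mk' φ _) (mk (0, 1, 0)) = mk (f (0, 1, 0)) from hφ _] at hv
    have h1 := congrArg (fun z : SL(2, ZMod p) => z.1 0 1) (qdMk_inj hv).2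
    simp [f] at h1

/-- The Borel subgroup of `Qd(p)`. -/
noncomputable def borelQd (p : ℕ) [Fact p.Prime] : Subgroup ↥(Cfsg.qdOver (ZMod p)) :=
  (MulAction.stabilizer SL(2, ZMod p) (inf₀ : Pt (ZMod p))).comap qdProj

theorem mem_borelQd {M : ↥(Cfsg.qdOver (ZMod p))} : M ∈ borelQd p ↔ (qdProj M).1 1 0 = 0 :=
  (smul_inf₀_eq_iff _)

theorem borelQd_ne_top : borelQd p ≠ ⊤ := by
  intro h
  have h1 : qdMk (0 : Fin 2 → ZMod p) (lower 1) ∈ borelQd p := h ▸ Subgroup.mem_top _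
  rw [mem_borelQd, qdProj_mk] at h1
  simp at h1

/-- A subgroup strictly over the Borel subgroup is everything. -/
theorem eq_top_of_borelQd {H : Subgroup ↥(Cfsg.qdOver (ZMod p))} (hH : borelQd p ≤ H)
    {M : ↥(Cfsg.qdOver (ZMod p))} (hM : M ∈ H) (hMB : M ∉ borelQd p) : H = ⊤ := by
  set g := qdProj M with hg
  have hc : g.1 1 0 ≠ 0 := fun h => hMB (mem_borelQd.mpr h)
  have htr : ∀ v, qdMk v 1 ∈ H := fun v => hH (mem_borelQd.mpr (by rw [qdProj_mk]; simp))
  set C := H.map qdProj with hC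
  have hup : ∀ t : ZMod p, upper t ∈ C := fun t =>
    ⟨qdMk 0 (upper t), hH (mem_borelQd.mpr (by rw [qdProj_mk]; simp)), qdProj_mk _ _⟩
  have e : g = upper ((g.1 0 0 - 1) / g.1 1 0) * lower (g.1 1 0) *
      upper ((g.1 1 1 - 1) / g.1 1 0) := by
    have hd := det_eq g
    ext i j; fin_cases i <;> fin_cases j <;> simp [Matrix.mul_apply, Fin.sum_univ_two] <;>
      field_simp <;> ring_nf <;> first | done | linear_combination -hd
  have hl : lower (g.1 1 0) ∈ C := by
    have hgC : g ∈ C := Subgroup.mem_map_of_mem _ hM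
    have h1 := C.mul_mem (C.mul_mem (C.inv_mem (hup ((g.1 0 0 - 1) / g.1 1 0))) hgC)
      (C.inv_mem (hup ((g.1 1 1 - 1) / g.1 1 0)))
    have h2 : (upper ((g.1 0 0 - 1) / g.1 1 0))⁻¹ * g * (upper ((g.1 1 1 - 1) / g.1 1 0))⁻¹ =
        lower (g.1 1 0) := by
      conv_lhs => arg 1; arg 2; rw [e]
      simp only [mul_assoc, inv_mul_cancel_left, mul_inv_cancel, mul_one]
    rwa [h2] at h1
  have hl1 : lower (1 : ZMod p) ∈ C := by
    have := C.pow_mem hl ((g.1 1 0)⁻¹).val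
    rwa [lower_pow, ZMod.natCast_zmod_val, inv_mul_cancel₀ hc] at this
  have hCtop : C = ⊤ := by
    rw [eq_top_iff, ← closure_upper_lower p, Subgroup.closure_le]
    rintro x (rfl | rfl)
    exacts [hup 1, hl1]
  rw [Subgroup.eq_top_iff']
  intro N
  obtain ⟨N', hN', hNN'⟩ : qdProj N ∈ C := hCtop ▸ Subgroup.mem_top _
  have : N * N'⁻¹ ∈ (qdTr (F := ZMod p)).range := by
    rw [← qdProj_eq_one_iff, map_mul, map_inv, hNN', mul_inv_cancel]
  obtain ⟨w, hw⟩ := this
  have h2 : N * N'⁻¹ ∈ H := hw ▸ htr _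
  simpa using H.mul_mem h2 hN'

theorem normalizer_sylQd :
    Subgroup.normalizer (sylQd p : Set ↥(Cfsg.qdOver (ZMod p))) = borelQd p := by
  have hle : borelQd p ≤ Subgroup.normalizer (sylQd p : Set ↥(Cfsg.qdOver (ZMod p))) := by
    intro M hM
    have hmem : ∀ N : ↥(Cfsg.qdOver (ZMod p)), (qdProj N).1 1 0 = 0 → ∀ x ∈ sylQd p,
        N * x * N⁻¹ ∈ sylQd p := by
      intro N hN x hx
      obtain ⟨w, t, rfl⟩ := hx
      obtain ⟨v, q, rfl⟩ := qdMk_surj N
      rw [qdProj_mk] at hN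
      rw [qdMk_inv, qdMk_mul, qdMk_mul, qdMk_mem_sylQd]
      refine ⟨q.1 0 0 ^ 2 * t, ?_⟩
      rw [mul_inv_eq_iff_eq_mul]
      have hd := det_eq q
      rw [hN, mul_zero, sub_zero] at hd
      ext i j; fin_cases i <;> fin_cases j <;> simp [Matrix.mul_apply, Fin.sum_univ_two, hN]
      linear_combination -(q.1 0 0 * t) * hd
    rw [Subgroup.mem_normalizer_iff]
    intro x
    refine ⟨hmem M (mem_borelQd.mp hM) x, fun h => ?_⟩
    have := hmem M⁻¹ (mem_borelQd.mp (inv_mem hM)) _ h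
    simpa [mul_assoc] using this
  refine le_antisymm (fun M hM => ?_) hle
  by_contra hMB
  have htop := eq_top_of_borelQd hle hM hMB
  have h1 : qdMk 0 (lower 1) * qdMk 0 (upper 1) * (qdMk 0 (lower 1))⁻¹ ∈ sylQd p :=
    (Subgroup.mem_normalizer_iff.mp (htop ▸ Subgroup.mem_top (qdMk (0 : Fin 2 → ZMod p) (lower 1)))
      _).mp (qdMk_mem_sylQd.mpr ⟨1, rfl⟩)
  rw [qdMk_inv, qdMk_mul, qdMk_mul, qdMk_mem_sylQd] at h1
  obtain ⟨s, hs⟩ := h1
  have := congrArg (fun z : SL(2, ZMod p) => z.1 1 0) hs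
  simp [lower_inv, Matrix.mul_apply, Fin.sum_univ_two] at this

/-- Normalizers of characteristic subgroups of conjugates of the standard Sylow subgroup. -/
theorem normalizer_char_aux (S₀ : Subgroup ↥(Cfsg.qdOver (ZMod p))) (g : ↥(Cfsg.qdOver (ZMod p)))
    (hS : S₀ = (sylQd p).map (MulAut.conj g).toMonoidHom) (hSp : IsPGroup p S₀) (T : Subgroup ↥S₀)
    (hT : T ≠ ⊥) (hTc : T.Characteristic) :
    Subgroup.normalizer ((T.map S₀.subtype : Subgroup ↥(Cfsg.qdOver (ZMod p))) :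
        Set ↥(Cfsg.qdOver (ZMod p))) = Subgroup.normalizer (S₀ : Set ↥(Cfsg.qdOver (ZMod p))) ∧
      Subgroup.normalizer (S₀ : Set ↥(Cfsg.qdOver (ZMod p))) ≠ ⊤ := by
  set N := Subgroup.normalizer (S₀ : Set ↥(Cfsg.qdOver (ZMod p)))
  set T₀ := T.map S₀.subtype
  have hNle : N ≤ Subgroup.normalizer (T₀ : Set ↥(Cfsg.qdOver (ZMod p))) := by
    intro M hM
    have hfix := Subgroup.characteristic_iff_map_eq.mp hTc (S₀.normalizerMonoidHom ⟨M, hM⟩)
    rw [Subgroup.mem_normalizer_iff_map_conj_eq]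
    conv_rhs => rw [show T₀ = T.map S₀.subtype from rfl, ← hfix, Subgroup.map_map]
    rw [show T₀ = T.map S₀.subtype from rfl, Subgroup.map_map]
    rfl
  have hN : N = (borelQd p).map (MulAut.conj g).toMonoidHom := by
    rw [← normalizer_sylQd, Subgroup.map_equiv_normalizer_eq, ← hS]
  have hNtop : N ≠ ⊤ := by
    intro h
    apply borelQd_ne_top (p := p)
    rw [hN] at h
    apply Subgroup.map_injective (f := (MulAut.conj g).toMonoidHom) (MulAut.conj g).injective
    rw [h, Subgroup.map_top_of_surjective _ (MulAut.conj g).surjective]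
  refine ⟨le_antisymm (fun M hM => ?_) hNle, hNtop⟩
  by_contra hMN
  set H := (Subgroup.normalizer (T₀ : Set ↥(Cfsg.qdOver (ZMod p)))).comap
    (MulAut.conj g).toMonoidHom
  have hHtop : H = ⊤ := by
    refine eq_top_of_borelQd (H := H) (M := (MulAut.conj g).symm M) ?_ ?_ ?_
    · rw [← Subgroup.map_le_iff_le_comap, ← hN]; exact hNle
    · show (MulAut.conj g) ((MulAut.conj g).symm M) ∈ Subgroup.normalizer (T₀ : Set ↥(Cfsg.qdOver (ZMod p)))
      rw [MulEquiv.apply_symm_apply]; exact hM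
    · intro hb
      apply hMN
      rw [hN]
      exact ⟨_, hb, MulEquiv.apply_symm_apply _ _⟩
  have hnorm : T₀.Normal := by
    rw [← Subgroup.normalizer_eq_top_iff, ← top_le_iff]
    intro x _
    obtain ⟨y, rfl⟩ := (MulAut.conj g).surjective x
    have : y ∈ H := hHtop ▸ Subgroup.mem_top y
    exact this
  -- a normal p-subgroup is the translation group
  have hT0p : IsPGroup p T₀ := (hSp.to_subgroup T).map S₀.subtype
  have hle : T₀ ≤ (qdTr (F := ZMod p)).range :=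
    (LocalEvenA.le_pCore_of_normal hnorm hT0p).trans (pCore_qdOver (p := p)).le
  have hge : ∀ w, qdMk w 1 ∈ T₀ := by
    obtain ⟨x, hx, hx1⟩ := T₀.bot_or_exists_ne_one.resolve_left (fun h =>
      hT ((Subgroup.map_eq_bot_iff_of_injective T S₀.subtype_injective).mp h))
    obtain ⟨v, rfl⟩ := hle hx
    set v' := Multiplicative.toAdd v
    have hv0 : v' ≠ 0 := fun h => hx1 (by
      show qdMk v' 1 = 1
      rw [h, qdMk_one])
    have hmv : ∀ q : SL(2, ZMod p), qdMk (q.1 *ᵥ v') 1 ∈ T₀ := fun q => by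
      rw [← qdMk_conj_tr 0 v' q]; exact hnorm.conj_mem _ hx _
    let A : AddSubgroup (Fin 2 → ZMod p) :=
      { carrier := {w | qdMk w 1 ∈ T₀}
        zero_mem' := by simp [qdMk_one, one_mem]
        add_mem' := fun {a b} ha hb => by
          have := T₀.mul_mem ha hb
          rwa [qdMk_mul, one_mul, Matrix.SpecialLinearGroup.coe_one, one_mulVec] at this
        neg_mem' := fun {a} ha => by
          have := T₀.inv_mem ha
          rwa [qdMk_inv, inv_one, Matrix.SpecialLinearGroup.coe_one, one_mulVec] at this }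
    have hsmul : ∀ (c : ZMod p) (w : Fin 2 → ZMod p), w ∈ A → c • w ∈ A := fun c w hw => by
      rw [← ZMod.natCast_zmod_val c, Nat.cast_smul_eq_nsmul]
      exact A.nsmul_mem hw _
    have he0 : v' 1 • (Pi.single 0 1 : Fin 2 → ZMod p) ∈ A := by
      have := A.sub_mem (hmv (upper 1)) hx
      convert this using 1
      ext i; fin_cases i <;> simp [v', mulVec, dotProduct, Fin.sum_univ_two]
    have he1 : v' 0 • (Pi.single 1 1 : Fin 2 → ZMod p) ∈ A := by
      have := A.sub_mem (hmv (lower 1)) hx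
      convert this using 1
      ext i; fin_cases i <;> simp [v', mulVec, dotProduct, Fin.sum_univ_two]
    have hflip : ∀ w ∈ A, ∀ q : SL(2, ZMod p), q.1 *ᵥ w ∈ A := fun w hw q => by
      show qdMk (q.1 *ᵥ w) 1 ∈ T₀
      rw [← qdMk_conj_tr 0 w q]; exact hnorm.conj_mem _ hw _
    have hboth : (Pi.single 0 1 : Fin 2 → ZMod p) ∈ A ∧ (Pi.single 1 1 : Fin 2 → ZMod p) ∈ A := by
      by_cases h1 : v' 1 = 0
      · have h00 : v' 0 ≠ 0 := fun h => hv0 (by ext i; fin_cases i <;> simp [h, h1])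
        have h11 : (Pi.single 1 1 : Fin 2 → ZMod p) ∈ A := by
          have := hsmul (v' 0)⁻¹ _ he1
          rwa [smul_smul, inv_mul_cancel₀ h00, one_smul] at this
        refine ⟨?_, h11⟩
        have := A.sub_mem (hflip _ h11 (upper 1)) h11
        convert this using 1
        ext i; fin_cases i <;> simp [mulVec, dotProduct, Fin.sum_univ_two]
      · have h00 : (Pi.single 0 1 : Fin 2 → ZMod p) ∈ A := by
          have := hsmul (v' 1)⁻¹ _ he0
          rwa [smul_smul, inv_mul_cancel₀ h1, one_smul] at this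
        refine ⟨h00, ?_⟩
        have := A.sub_mem (hflip _ h00 (lower 1)) h00
        convert this using 1
        ext i; fin_cases i <;> simp [mulVec, dotProduct, Fin.sum_univ_two]
    intro w
    have hw : w = w 0 • (Pi.single 0 1 : Fin 2 → ZMod p) + w 1 • Pi.single 1 1 := by
      ext i; fin_cases i <;> simp
    show w ∈ A
    rw [hw]
    exact A.add_mem (hsmul _ _ hboth.1) (hsmul _ _ hboth.2)
  obtain ⟨α, t, ⟨v, hv⟩, hα⟩ := exists_aut_sylQd (p := p)
  let eS : sylQd p ≃* S₀ := ((MulAut.conj g).subgroupMap (sylQd p)).trans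
    (MulEquiv.subgroupCongr hS.symm)
  have heS : ∀ y : sylQd p, (eS y : ↥(Cfsg.qdOver (ZMod p))) = g * (y : ↥(Cfsg.qdOver (ZMod p))) * g⁻¹ :=
    fun y => rfl
  let β : MulAut S₀ := (eS.symm.trans α).trans eS
  have hfix := Subgroup.characteristic_iff_map_eq.mp hTc β
  have ht : eS t ∈ T := by
    have h1 : (eS t : ↥(Cfsg.qdOver (ZMod p))) ∈ T₀ := by
      rw [heS, ← hv]
      exact hnorm.conj_mem _ (hge v) g
    obtain ⟨y, hy, hye⟩ := h1
    rwa [← Subtype.ext (hye : (y : ↥(Cfsg.qdOver (ZMod p))) = _)]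
  have h2 : β (eS t) ∈ T := hfix ▸ Subgroup.mem_map_of_mem _ ht
  have h3 : (eS (α t) : ↥(Cfsg.qdOver (ZMod p))) ∈ T₀ := by
    refine ⟨eS (α t), ?_, rfl⟩
    simpa [β] using h2
  rw [heS] at h3
  have h4 := hnorm.conj_mem _ h3 g⁻¹
  obtain ⟨w, hw⟩ := hle (show (α t : ↥(Cfsg.qdOver (ZMod p))) ∈ T₀ by simpa [mul_assoc] using h4)
  exact hα ⟨_, hw⟩

/-- Normalizers of characteristic subgroups of Sylow subgroups. -/
theorem normalizer_char_qd (S : Sylow p ↥(Cfsg.qdOver (ZMod p)))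
    (T : Subgroup ↥(S : Subgroup ↥(Cfsg.qdOver (ZMod p)))) (hT : T ≠ ⊥) (hTc : T.Characteristic) :
    Subgroup.normalizer ((T.map (S : Subgroup ↥(Cfsg.qdOver (ZMod p))).subtype :
        Subgroup ↥(Cfsg.qdOver (ZMod p))) : Set ↥(Cfsg.qdOver (ZMod p))) =
      Subgroup.normalizer ((S : Subgroup ↥(Cfsg.qdOver (ZMod p))) : Set ↥(Cfsg.qdOver (ZMod p))) ∧
    Subgroup.normalizer ((S : Subgroup ↥(Cfsg.qdOver (ZMod p))) : Set ↥(Cfsg.qdOver (ZMod p)))
      ≠ ⊤ := by
  obtain ⟨P, hP⟩ := exists_sylow_sylQd (p := p)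
  obtain ⟨g, hg⟩ := MulAction.exists_smul_eq ↥(Cfsg.qdOver (ZMod p)) P S
  refine normalizer_char_aux _ g ?_ S.2 T hT hTc
  rw [← hP, ← hg, Sylow.coe_subgroup_smul]
  rfl

/-- `Qd(p)` is not `p`-stable. -/
theorem not_pStable_qd (hp2 : p ≠ 2) :
    ¬ Cfsg.IsNormalizerPStable p ↥(Cfsg.qdOver (ZMod p)) := by
  intro hst
  set P := (qdTr (F := ZMod p)).range
  have htop : ∀ x, x ∈ Subgroup.normalizer (P : Set ↥(Cfsg.qdOver (ZMod p))) := fun x => by
    rw [Subgroup.normalizer_eq_top]; trivial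
  set N := Subgroup.normalizer (P : Set ↥(Cfsg.qdOver (ZMod p)))
  set C := (Subgroup.centralizer (P : Set ↥(Cfsg.qdOver (ZMod p)))).subgroupOf N
  set q := QuotientGroup.mk' C
  let O : Subgroup SL(2, ZMod p) := (Cfsg.pCore p (↥N ⧸ C)).comap
    (q.comp ((qdLin (F := ZMod p)).codRestrict N fun x => htop _))
  have hquad : ∀ t : SL(2, ZMod p), (t.1 - 1) * (t.1 - 1) = 0 → t ∈ O := by
    intro t ht
    refine hst P qdTr_isPGroup (qdLin t) (htop _) (le_bot_iff.mp ?_)
    have hz : ∀ (n : ℕ), (qdLin t : ↥(Cfsg.qdOver (ZMod p))) ^ n = qdMk 0 (t ^ n) := fun n => by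
      rw [← map_pow]; rfl
    set L : Subgroup ↥(Cfsg.qdOver (ZMod p)) := P ⊓ Subgroup.centralizer {qdLin t}
    have h1 : ⁅P, Subgroup.zpowers (qdLin t)⁆ ≤ L := by
      rw [Subgroup.commutator_comm, Subgroup.commutator_le]
      rintro _ ⟨n, rfl⟩ x hx
      obtain ⟨n', hn'⟩ : ∃ n' : ℕ, qdLin t ^ n' = qdLin t ^ n :=
        mem_powers_iff_mem_zpowers.mpr ⟨n, rfl⟩
      show ⁅qdLin t ^ n, x⁆ ∈ L
      rw [← hn', hz]
      obtain ⟨w, rfl⟩ := hx
      have hc : ⁅qdMk 0 (t ^ n'), qdTr w⁆ =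
          qdMk (((t ^ n').1 - 1) *ᵥ Multiplicative.toAdd w) 1 := by
        rw [commutatorElement_def, show qdTr w = qdMk (Multiplicative.toAdd w) 1 from rfl,
          qdMk_conj_tr, qdMk_inv, qdMk_mul, inv_one, mul_one]
        congr 1
        simp only [sub_mulVec, one_mulVec, sub_eq_add_neg, Matrix.SpecialLinearGroup.coe_one,
          add_mulVec, neg_mulVec]
      rw [hc]
      refine ⟨⟨_, rfl⟩, Subgroup.mem_centralizer_iff.mpr ?_⟩
      rintro _ rfl
      show qdMk 0 t * _ = _ * qdMk 0 t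
      rw [qdMk_mul, qdMk_mul, mul_one, one_mul]
      congr 1
      have e1 : ∀ m : ℕ, t.1 * ((t ^ m).1 - 1) = (t ^ m).1 - 1 := by
        intro m
        induction m with
        | zero => simp
        | succ m ih =>
          rw [pow_succ, Matrix.SpecialLinearGroup.coe_mul]
          have e2 : t.1 * t.1 - t.1 = t.1 - 1 := by
            have : (t.1 - 1) * (t.1 - 1) = t.1 * t.1 - t.1 - (t.1 - 1) := by noncomm_ring
            rw [this, sub_eq_zero] at ht
            exact ht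
          calc t.1 * ((t ^ m).1 * t.1 - 1)
              = t.1 * ((t ^ m).1 - 1) * t.1 + (t.1 * t.1 - t.1) := by noncomm_ring
            _ = ((t ^ m).1 - 1) * t.1 + (t.1 - 1) := by rw [ih, e2]
            _ = _ := by noncomm_ring
      simp only [zero_add, one_mulVec, mulVec_zero, add_zero, mulVec_mulVec, e1,
        Matrix.SpecialLinearGroup.coe_one]
    refine (Subgroup.commutator_mono h1 le_rfl).trans ?_
    rw [Subgroup.commutator_le]
    rintro x hx _ ⟨n, rfl⟩
    rw [Subgroup.mem_bot, commutatorElement_eq_one_iff_mul_comm]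
    exact ((Subgroup.mem_centralizer_singleton_iff.mp hx.2).symm ▸ rfl :
      qdLin t * x = x * qdLin t) |> fun h => ((Commute.zpow_left h n).eq).symm
  have hu : upper (1 : ZMod p) ∈ O := hquad _ (isUnip_upper 1)
  have hl : lower (1 : ZMod p) ∈ O := hquad _ (isUnip_lower 1)
  have hO : O = ⊤ := by
    rw [eq_top_iff, ← closure_upper_lower p, Subgroup.closure_le]
    rintro x (rfl | rfl)
    exacts [hu, hl]
  obtain ⟨k, hk⟩ := (LocalEvenA.pCore_isPGroup' p (↥N ⧸ C))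
    ⟨_, (show (-1 : SL(2, ZMod p)) ∈ O from hO ▸ Subgroup.mem_top _)⟩
  have hk' := congrArg Subtype.val hk
  rw [SubgroupClass.coe_pow, OneMemClass.coe_one] at hk'
  rw [← map_pow] at hk'
  have hodd : Odd (p ^ k) := (hp.out.odd_of_ne_two hp2).pow
  rw [hodd.neg_one_pow] at hk'
  have h2 := Subgroup.mem_centralizer_iff.mp
    (Subgroup.mem_subgroupOf.mp ((QuotientGroup.eq_one_iff _).mp hk'))
    (qdTr (Multiplicative.ofAdd ![1, 0])) ⟨_, rfl⟩
  have h3 := qdMk_conj_tr (0 : Fin 2 → ZMod p) ![1, 0] (-1)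
  have h4 : qdMk (0 : Fin 2 → ZMod p) (-1) * qdMk ![1, 0] 1 * (qdMk 0 (-1))⁻¹ = qdMk ![1, 0] 1 :=
    mul_inv_eq_iff_eq_mul.mpr h2.symm
  rw [h3] at h4
  have h5 := congrFun (qdMk_inj h4).1 0
  simp [neg_mulVec] at h5
  have h6 : ((2 : ℕ) : ZMod p) = 0 := by push_cast; linear_combination -h5
  rw [CharP.cast_eq_zero_iff (ZMod p) p] at h6
  exact hp2 ((Nat.prime_dvd_prime_iff_eq hp.out Nat.prime_two).mp h6)

/-- The translations are self-centralizing. -/
theorem centralizer_tr_le {M : ↥(Cfsg.qdOver F)}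
    (h : M ∈ Subgroup.centralizer ((qdTr (F := F)).range : Set ↥(Cfsg.qdOver F))) :
    M ∈ (qdTr (F := F)).range := by
  obtain ⟨v, q, rfl⟩ := qdMk_surj M
  have hfix : ∀ w, q.1 *ᵥ w = w := fun w => by
    have h1 := Subgroup.mem_centralizer_iff.mp h (qdTr (Multiplicative.ofAdd w)) ⟨_, rfl⟩
    exact (qdMk_inj ((qdMk_conj_tr v w q).symm.trans (mul_inv_eq_iff_eq_mul.mpr h1.symm))).1
  refine ⟨Multiplicative.ofAdd v, ?_⟩
  have hq : q = 1 := by
    apply Subtype.ext
    show q.1 = 1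
    exact Matrix.ext_of_mulVec_single fun j => by rw [hfix, one_mulVec]
  rw [hq]; rfl

end prime

end Cfsg.Agent.SL2Dickson
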