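import Cfsg.Agent.Lib.SL2Dickson.Sylow
import Mathlib.FieldTheory.Finite.Basic
import Mathlib.FieldTheory.Finite.GaloisField

/-!
# Two quadratic linear maps over a finite field
-/

set_option autoImplicit false
set_option linter.style.haveILetI false
set_option linter.unusedSectionVars false
set_option linter.unusedVariables false

namespace Cfsg.Agent.SL2Dickson

open Matrix Polynomial
open scoped MatrixGroups

variable {K : Type*} [Field K] [Fintype K] {p : ℕ} [hp : Fact p.Prime] [CharP K p]
variable {W : Type*} [AddCommGroup W] [Module K W]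

/-- A nonzero map fixed by the Frobenius power has a nonzero eigenvalue in the field. -/
theorem exists_eigen_of_pow_card {z : Module.End K W} (hz : z ^ Fintype.card K = z) (h0 : z ≠ 0) :
    ∃ c : K, c ≠ 0 ∧ ∃ v : W, v ≠ 0 ∧ z v = c • v := by
  classical
  by_contra hcon
  push Not at hcon
  have hinj : ∀ c : K, c ≠ 0 → Function.Injective (z - algebraMap K (Module.End K W) c) := by
    intro c hc
    rw [injective_iff_map_eq_zero]
    intro v hv
    by_contra hv0
    apply hcon c hc v hv0
    simpa [sub_eq_zero, Module.algebraMap_end_apply] using hv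
  set P : Polynomial K := ∏ c ∈ Finset.univ.erase (0 : K), (X - C c)
  have hP : ∀ s : Finset K, (0 : K) ∉ s → Function.Injective (aeval z (∏ c ∈ s, (X - C c))) := by
    intro s
    induction s using Finset.induction_on with
    | empty => intro _; simp [Function.injective_id, Module.End.coe_one]
    | insert c s hc ih =>
      intro h
      rw [Finset.mem_insert, not_or] at h
      rw [Finset.prod_insert hc, map_mul, map_sub, aeval_X, aeval_C, Module.End.coe_mul]
      exact (hinj c (Ne.symm h.1)).comp (ih h.2)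
  have hdeg : (X ^ Fintype.card K - X : K[X]).natDegree = Fintype.card K :=
    FiniteField.X_pow_card_sub_X_natDegree_eq K Fintype.one_lt_card
  have hfac : (X ^ Fintype.card K - X : K[X]) = P * X := by
    have hm : (X ^ Fintype.card K - X : K[X]).Monic :=
      monic_X_pow_sub (by rw [degree_X]; exact_mod_cast Fintype.one_lt_card)
    have hr := FiniteField.roots_X_pow_card_sub_X K
    have hs : (X ^ Fintype.card K - X : K[X]).Splits := by
      rw [splits_iff_card_roots, hr, hdeg, ← Finset.card_def, Finset.card_univ]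
    rw [hs.eq_prod_roots_of_monic hm, hr, ← Finset.prod_eq_multiset_prod,
      ← Finset.mul_prod_erase Finset.univ _ (Finset.mem_univ (0 : K)), map_zero, sub_zero,
      mul_comm]
  have h1 : aeval z (X ^ Fintype.card K - X : K[X]) = 0 := by simp [hz]
  rw [hfac, map_mul, aeval_X] at h1
  apply h0
  ext v
  apply hP _ (Finset.notMem_erase 0 _)
  rw [← Module.End.mul_apply, h1]
  simp

/-- Two quadratic maps with `p`-singular product spectrum inside the field share an invariant
plane. -/
theorem exists_plane [Nontrivial W] {T T' X₀ Y₀ : Module.End K W} (hx : X₀ * X₀ = 0) (hy : Y₀ * Y₀ = 0)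
    (hT : T = (1 + X₀) * (1 + Y₀)) (hT' : T' = (1 - Y₀) * (1 - X₀)) {e k : ℕ}
    (hk : T ^ (p ^ e * k) = 1) (hkq : k ∣ Fintype.card K - 1) (hnil : ¬ IsNilpotent (X₀ * Y₀)) :
    ∃ d : K, d ≠ 0 ∧ ∃ w : W, w ≠ 0 ∧ X₀ (Y₀ w) = d • w := by
  haveI : CharP (Module.End K W) p :=
    charP_of_injective_algebraMap (FaithfulSMul.algebraMap_injective K (Module.End K W)) p
  set z := X₀ * Y₀ + Y₀ * X₀ with hz
  have hTT' : T * T' = 1 := by
    rw [hT, hT']
    calc (1 + X₀) * (1 + Y₀) * ((1 - Y₀) * (1 - X₀))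
        = 1 - X₀ * X₀ - (1 + X₀) * (Y₀ * Y₀) * (1 - X₀) := by noncomm_ring
      _ = 1 := by rw [hx, hy]; simp
  have hT'T : T' * T = 1 := by
    rw [hT, hT']
    calc (1 - Y₀) * (1 - X₀) * ((1 + X₀) * (1 + Y₀))
        = 1 - Y₀ * Y₀ - (1 - Y₀) * (X₀ * X₀) * (1 + Y₀) := by noncomm_ring
      _ = 1 := by rw [hx, hy]; simp
  have hsum : (T - 1) + (T' - 1) = z := by rw [hT, hT', hz]; noncomm_ring
  have hc : Commute T T' := hTT'.trans hT'T.symm
  have hzx : z * X₀ = X₀ * z := by
    rw [hz, add_mul, mul_add, mul_assoc Y₀ X₀ X₀, hx, mul_zero, add_zero, ← mul_assoc X₀ X₀ Y₀,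
      hx, zero_mul, zero_add, mul_assoc]
  have hzn : ∀ n : ℕ, X₀ * Y₀ * z ^ n = (X₀ * Y₀) ^ (n + 1) := by
    intro n
    induction n with
    | zero => simp
    | succ n ih =>
      rw [pow_succ z n, ← mul_assoc, ih, pow_succ, hz, mul_add, mul_assoc ((X₀ * Y₀) ^ n),
        mul_assoc ((X₀ * Y₀) ^ n), show X₀ * Y₀ * (Y₀ * X₀) = 0 by
          rw [← mul_assoc, mul_assoc X₀ Y₀ Y₀, hy, mul_zero, zero_mul], mul_zero, add_zero,
        ← mul_assoc, ← pow_succ, ← pow_succ]
  have hznil : ¬ IsNilpotent z := fun ⟨n, hn⟩ => hnil ⟨n + 1, by rw [← hzn, hn, mul_zero]⟩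
  set N := p ^ e
  set S := T ^ N
  set S' := T' ^ N
  have hq1 : 1 ≤ Fintype.card K := Fintype.card_pos
  have hSk : S ^ k = 1 := by rw [← hk, ← pow_mul]
  have hSS' : S * S' = 1 := by rw [← hc.mul_pow, hTT', one_pow]
  have hSq : S ^ Fintype.card K = S := by
    obtain ⟨m, hm⟩ := hkq
    rw [show Fintype.card K = k * m + 1 by omega, pow_succ, pow_mul, hSk, one_pow, one_mul]
  have hSq' : S' ^ Fintype.card K = S' := by
    have h1 : S' ^ Fintype.card K * S ^ Fintype.card K = 1 := by
      rw [← (hc.symm.pow_pow N N).mul_pow, ← hc.symm.mul_pow, hT'T, one_pow, one_pow]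
    rw [hSq] at h1
    calc S' ^ Fintype.card K = S' ^ Fintype.card K * (S * S') := by rw [hSS', mul_one]
      _ = S' := by rw [← mul_assoc, h1, one_mul]
  have hc1 : Commute (T - 1) (T' - 1) :=
    (hc.sub_right (Commute.one_right T)).sub_left ((Commute.one_left _))
  have hzN : z ^ N = (S - 1) + (S' - 1) := by
    rw [← hsum, add_pow_char_pow_of_commute (p := p) (n := e) (h := hc1), sub_pow_char_pow_of_commute (p := p) (h := Commute.one_right T),
      sub_pow_char_pow_of_commute (p := p) (h := Commute.one_right T'), one_pow]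
  obtain ⟨f, -, hf⟩ := FiniteField.card K p
  have hzq : (z ^ N) ^ Fintype.card K = z ^ N := by
    rw [hzN, hf, add_pow_char_pow_of_commute (p := p) (h :=
      ((hc.pow_pow N N).sub_right (Commute.one_right _)).sub_left (Commute.one_left _)),
      sub_pow_char_pow_of_commute (p := p) (h := Commute.one_right S),
      sub_pow_char_pow_of_commute (p := p) (h := Commute.one_right S'), one_pow, ← hf, hSq, hSq']
  obtain ⟨c, hc0, v, hv0, hv⟩ := exists_eigen_of_pow_card hzq fun h => hznil ⟨N, h⟩
  obtain ⟨d, hd⟩ : ∃ d : K, d ^ N = c :=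
    ((bijective_iterateFrobenius K p e).2 c).imp fun d hd => by rwa [iterateFrobenius_def] at hd
  have hd0 : d ≠ 0 := fun h => hc0 (by rw [← hd, h, zero_pow (pow_ne_zero e hp.out.ne_zero)])
  obtain ⟨u, hu0, hu⟩ : ∃ u : W, u ≠ 0 ∧ z u = d • u := by
    by_contra hcon
    push Not at hcon
    have hinj : Function.Injective (z - algebraMap K (Module.End K W) d) := by
      rw [injective_iff_map_eq_zero]
      intro u hu
      by_contra hu0
      exact hcon u hu0 (by simpa [sub_eq_zero, Module.algebraMap_end_apply] using hu)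
    apply hv0
    have h1 : ((z - algebraMap K (Module.End K W) d) ^ N) v = 0 := by
      rw [sub_pow_char_pow_of_commute (p := p) (h := Algebra.commute_algebraMap_right d z), ← map_pow, hd]
      simp only [LinearMap.sub_apply, Module.algebraMap_end_apply]; exact sub_eq_zero.mpr hv
    rw [Module.End.coe_pow] at h1
    exact hinj.iterate N (h1.trans (by simp))
  refine ⟨d, hd0, ?_⟩
  by_cases hxu : X₀ u = 0
  · refine ⟨u, hu0, ?_⟩
    have := hu
    rw [hz, LinearMap.add_apply, Module.End.mul_apply, Module.End.mul_apply, hxu, map_zero,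
      add_zero] at this
    exact this
  · refine ⟨X₀ u, hxu, ?_⟩
    have h1 := congrArg (fun f : Module.End K W => f u) hzx
    simp only [Module.End.mul_apply] at h1
    rw [hu, map_smul, hz, LinearMap.add_apply, Module.End.mul_apply, Module.End.mul_apply,
      ← Module.End.mul_apply (f := X₀) (g := X₀), hx, LinearMap.zero_apply, map_zero, add_zero]
      at h1
    exact h1

/-- The plane gives a homomorphism onto a subgroup of `SL(2, K)` which is not a `p`-group. -/
theorem exists_hom_of_plane {G : Type*} [Group G] [Finite G]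
    (ρ : G →* Module.End K W) (a b : G) (hG : Subgroup.closure ({a, b} : Set G) = ⊤)
    (ha : (ρ a - 1) * (ρ a - 1) = 0) (hb : (ρ b - 1) * (ρ b - 1) = 0)
    {d : K} (hd : d ≠ 0) {w : W} (hw0 : w ≠ 0) (hw : (ρ a - 1) ((ρ b - 1) w) = d • w) :
    ∃ φ : G →* SL(2, K), φ a = upper d ∧ φ b = lower 1 := by
  set u := (ρ b - 1) w with hu
  have hau : ρ a u = u + d • w := by
    simp only [LinearMap.sub_apply, Module.End.one_apply] at hw
    rw [← hw]; abel
  have hxw : (ρ a - 1) w = 0 := by
    have h1 : (ρ a - 1) ((ρ a - 1) u) = 0 := by rw [← Module.End.mul_apply, ha]; rfl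
    rw [hw, map_smul] at h1
    exact (smul_eq_zero.mp h1).resolve_left hd
  have haw : ρ a w = w := by
    simpa [sub_eq_zero] using hxw
  have hbu : ρ b u = u := by
    have h1 : (ρ b - 1) u = 0 := by rw [hu, ← Module.End.mul_apply, hb]; rfl
    simpa [sub_eq_zero] using h1
  have hbw : ρ b w = w + u := by rw [hu]; simp
  have hind : ∀ s t : K, s • w + t • u = 0 → s = 0 ∧ t = 0 := by
    intro s t h
    have h1 : (ρ a - 1) (s • w + t • u) = (ρ a - 1) 0 := by rw [h]
    rw [map_add, map_smul, map_smul, hxw, hw, smul_zero, zero_add, map_zero, smul_smul,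
      smul_eq_zero] at h1
    have ht : t = 0 := (mul_eq_zero.mp (h1.resolve_right hw0)).resolve_right hd
    rw [ht, zero_smul, add_zero, smul_eq_zero] at h
    exact ⟨h.resolve_right hw0, ht⟩
  let R : G → SL(2, K) → Prop := fun g C =>
    ρ g w = C.1 0 0 • w + C.1 1 0 • u ∧ ρ g u = C.1 0 1 • w + C.1 1 1 • u
  have huniq : ∀ g C D, R g C → R g D → C = D := by
    rintro g C D ⟨h1, h2⟩ ⟨h3, h4⟩
    obtain ⟨e1, e2⟩ := hind (C.1 0 0 - D.1 0 0) (C.1 1 0 - D.1 1 0) (by
      rw [sub_smul, sub_smul]; rw [h1] at h3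
      rw [sub_add_sub_comm, h3, sub_self])
    obtain ⟨e3, e4⟩ := hind (C.1 0 1 - D.1 0 1) (C.1 1 1 - D.1 1 1) (by
      rw [sub_smul, sub_smul]; rw [h2] at h4
      rw [sub_add_sub_comm, h4, sub_self])
    ext i j
    fin_cases i <;> fin_cases j
    exacts [sub_eq_zero.mp e1, sub_eq_zero.mp e3, sub_eq_zero.mp e2, sub_eq_zero.mp e4]
  have hmul : ∀ g h C D, R g C → R h D → R (g * h) (C * D) := by
    rintro g h C D ⟨h1, h2⟩ ⟨h3, h4⟩
    refine ⟨?_, ?_⟩ <;>
      rw [map_mul, Module.End.mul_apply] <;>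
      [rw [h3]; rw [h4]] <;>
      simp only [map_add, map_smul, h1, h2, Matrix.SpecialLinearGroup.coe_mul, Matrix.mul_apply,
        Fin.sum_univ_two] <;>
      module
  let G₀ : Submonoid G :=
    { carrier := {g | ∃ C, R g C}
      one_mem' := ⟨1, by simp [R]⟩
      mul_mem' := fun {g h} ⟨C, hC⟩ ⟨D, hD⟩ => ⟨C * D, hmul g h C D hC hD⟩ }
  have hall : ∀ g, g ∈ G₀ := by
    intro g
    have hg : g ∈ Subgroup.closure ({a, b} : Set G) := hG ▸ Subgroup.mem_top g
    rw [← Subgroup.mem_toSubmonoid, Subgroup.closure_toSubmonoid_of_finite] at hg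
    refine (Submonoid.closure_le.mpr ?_) hg
    rintro z (rfl | rfl)
    · exact ⟨upper d, by simp [R, haw, hau, add_comm]⟩
    · exact ⟨lower 1, by simp [R, hbw, hbu]⟩
  choose φ hφ using hall
  refine ⟨MonoidHom.mk' φ fun g h => huniq _ _ _ (hφ _) (hmul g h _ _ (hφ g) (hφ h)), ?_, ?_⟩
  · exact huniq _ _ _ (hφ a) (by simp [R, haw, hau, add_comm])
  · exact huniq _ _ _ (hφ b) (by simp [R, hbw, hbu])

/-- A group containing `upper d` and `lower 1` is not a `p`-group. -/
theorem not_pGroup_range {G : Type*} [Group G] (φ : G →* SL(2, K)) {a b : G} {d : K} (hd : d ≠ 0)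
    (ha : φ a = upper d) (hb : φ b = lower 1) : ¬ IsPGroup p φ.range := by
  intro h
  obtain ⟨k, hk⟩ := h ⟨upper d * lower 1, a * b, by rw [map_mul, ha, hb]⟩
  have h1 := tr_upper_lower d (1 : K)
  rw [(isUnip_of_pPow (congrArg Subtype.val hk)).tr_eq, mul_one] at h1
  exact hd (by linear_combination -h1)

end Cfsg.Agent.SL2Dickson
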