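import Cfsg.Agent.Lib.SL2Dickson.Dickson
import Mathlib.LinearAlgebra.Eigenspace.Matrix
import Mathlib.LinearAlgebra.Dual.Lemmas
import Mathlib.LinearAlgebra.Matrix.Charpoly.Eigs
import Mathlib.GroupTheory.PGroup

/-!
# A quadratic pair contains SL(2, p) with a natural submodule
-/

set_option autoImplicit false
set_option linter.style.haveILetI false
set_option linter.unusedSectionVars false
set_option linter.unusedVariables false

namespace Cfsg.Agent.SL2Dickson

open Matrix
open scoped MatrixGroups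

theorem map_upper {R S : Type*} [Field R] [Field S] (f : R →+* S) (t : R) :
    Matrix.SpecialLinearGroup.map f (upper t) = upper (f t) := by
  ext i j; fin_cases i <;> fin_cases j <;> simp

theorem map_lower {R S : Type*} [Field R] [Field S] (f : R →+* S) (t : R) :
    Matrix.SpecialLinearGroup.map f (lower t) = lower (f t) := by
  ext i j; fin_cases i <;> fin_cases j <;> simp

/-- A diagonal element. -/
def diagSL {L : Type*} [Field L] (c : L) (hc : c ≠ 0) : SL(2, L) :=
  ⟨!![c, 0; 0, c⁻¹], by simp [det_fin_two, hc]⟩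

@[simp] theorem diagSL_coe {L : Type*} [Field L] (c : L) (hc : c ≠ 0) :
    (diagSL c hc).1 = !![c, 0; 0, c⁻¹] := rfl

/-- Conjugation by a diagonal matrix rescales the transvections. -/
theorem diag_conj {L : Type*} [Field L] (c : L) (hc : c ≠ 0) :
    ∃ D : SL(2, L), (∀ s, D * upper s * D⁻¹ = upper (c ^ 2 * s)) ∧
      ∀ r, D * lower r * D⁻¹ = lower ((c ^ 2)⁻¹ * r) := by
  refine ⟨diagSL c hc, fun s => ?_, fun r => ?_⟩ <;>
    rw [mul_inv_eq_iff_eq_mul] <;> ext i j <;> fin_cases i <;> fin_cases j <;>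
      simp [Matrix.mul_apply, Fin.sum_univ_two] <;> field_simp

section embedding

variable {L : Type*} [Field L] [IsAlgClosed L] {p : ℕ} [hp : Fact p.Prime] [CharP L p]

/-- A finite subgroup with two transvections of different axes contains a conjugate of `SL(2, p)`. -/
theorem exists_sl_two_prime (hp2 : p ≠ 2) {H : Subgroup SL(2, L)} [Finite H] {a b : SL(2, L)}
    (ha : a ∈ H) (hb : b ∈ H) (hau : IsUnip a) (hbu : IsUnip b) (hab : tr (a * b) ≠ 2) :
    ∃ g : SL(2, L), ∀ q : SL(2, ZMod p),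
      g⁻¹ * Matrix.SpecialLinearGroup.map (ZMod.castHom (dvd_refl p) L) q * g ∈ H := by
  have h2 : (2 : L) ≠ 0 := fun e => hp2 (by
    have h : ((2 : ℕ) : L) = 0 := by simpa using e
    rw [CharP.cast_eq_zero_iff L p] at h
    exact (Nat.prime_dvd_prime_iff_eq hp.out Nat.prime_two).mp h)
  obtain ⟨a', b', ha', hb', hau', hbu', htr⟩ := exists_pair_trace_three hp2 ha hb hau hbu hab
  have h1ne : (3 : L) ≠ 2 := fun e => one_ne_zero (α := L) (by linear_combination e)
  obtain ⟨g, s, r, hs, hr, hga, hgb⟩ :=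
    exists_conj_normal_form h2 hau' hbu' (by rw [htr]; exact h1ne)
  have hsr : s * r = 1 := by
    have e := tr_conj g (a' * b')
    rw [show g * (a' * b') * g⁻¹ = (g * a' * g⁻¹) * (g * b' * g⁻¹) by simp [mul_assoc], hga, hgb,
      tr_upper_lower, htr] at e
    linear_combination e
  obtain ⟨c, hc⟩ := IsAlgClosed.exists_pow_nat_eq s⁻¹ two_pos
  have hc0 : c ≠ 0 := by
    rintro rfl
    rw [zero_pow two_ne_zero] at hc
    exact hs (inv_eq_zero.mp hc.symm)
  obtain ⟨D, hDu, hDl⟩ := diag_conj c hc0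
  refine ⟨D * g, fun q => ?_⟩
  set f := Matrix.SpecialLinearGroup.map (n := Fin 2) (ZMod.castHom (dvd_refl p) L)
  have hq : q ∈ Subgroup.closure ({upper (1 : ZMod p), lower (1 : ZMod p)} :
      Set (Matrix.SpecialLinearGroup (Fin 2) (ZMod p))) := by
    rw [closure_upper_lower]; trivial
  induction hq using Subgroup.closure_induction with
  | mem x hx =>
    rcases hx with rfl | rfl
    · rw [map_upper, map_one]
      have e : D * (g * a' * g⁻¹) * D⁻¹ = upper 1 := by
        rw [hga, hDu, hc, inv_mul_cancel₀ hs]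
      rw [← e]; simpa [mul_assoc] using ha'
    · rw [map_lower, map_one]
      have e : D * (g * b' * g⁻¹) * D⁻¹ = lower 1 := by
        rw [hgb, hDl, hc, inv_inv, hsr]
      rw [← e]; simpa [mul_assoc] using hb'
  | one => simp [H.one_mem]
  | mul x y _ _ hx hy =>
    have := H.mul_mem hx hy
    simpa [mul_assoc] using this
  | inv x _ hx =>
    have := H.inv_mem hx
    simpa [mul_assoc] using this

end embedding

section nilpotent

variable {R : Type*} [Ring R]

theorem word_form {x y : R} (hx : x * x = 0) (hy : y * y = 0) :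
    ∀ (n : ℕ) (l : List R), (∀ z ∈ l, z = x ∨ z = y) → 2 * n ≤ l.length →
      ∃ r : R, l.prod = (x * y) ^ n * r ∨ l.prod = (y * x) ^ n * r := by
  intro n
  induction n with
  | zero => exact fun l _ _ => ⟨l.prod, Or.inl (by simp)⟩
  | succ n ih =>
    intro l hl hlen
    match l, hlen with
    | c₁ :: c₂ :: t, hlen =>
      obtain ⟨r, hr⟩ := ih t (fun z hz => hl z (by simp [hz])) (by simp at hlen; omega)
      have h1 := hl c₁ (by simp)
      have h2 := hl c₂ (by simp)
      simp only [List.prod_cons, ← mul_assoc]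
      rcases h1 with e1 | e1 <;> rcases h2 with e2 | e2 <;> rw [e1, e2]
      · exact ⟨0, Or.inl (by rw [hx]; simp)⟩
      · rcases hr with hr | hr <;> rw [hr]
        · exact ⟨r, Or.inl (by simp only [pow_succ', mul_assoc])⟩
        · rcases n with - | n
          · exact ⟨r, Or.inl (by simp [mul_assoc])⟩
          · refine ⟨0, Or.inl ?_⟩
            rw [pow_succ' (y * x), mul_zero, show x * y * ((y * x) * (y * x) ^ n * r) =
              x * (y * y) * (x * (y * x) ^ n * r) by simp only [mul_assoc], hy]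
            simp
      · rcases hr with hr | hr <;> rw [hr]
        · rcases n with - | n
          · exact ⟨r, Or.inr (by simp [mul_assoc])⟩
          · refine ⟨0, Or.inl ?_⟩
            rw [pow_succ' (x * y), mul_zero, show y * x * ((x * y) * (x * y) ^ n * r) =
              y * (x * x) * (y * (x * y) ^ n * r) by simp only [mul_assoc], hx]
            simp
        · exact ⟨r, Or.inr (by simp only [pow_succ', mul_assoc])⟩
      · exact ⟨0, Or.inl (by rw [hy]; simp)⟩
    | [], hlen => simp at hlen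
    | [_], hlen => simp at hlen; omega

theorem word_eq_zero {x y : R} (hx : x * x = 0) (hy : y * y = 0) {N : ℕ} (hN : (x * y) ^ N = 0)
    (l : List R) (hl : ∀ z ∈ l, z = x ∨ z = y) (hlen : 2 * (N + 1) ≤ l.length) : l.prod = 0 := by
  obtain ⟨r, hr | hr⟩ := word_form hx hy (N + 1) l hl hlen
  · rw [hr, pow_succ, hN, zero_mul, zero_mul]
  · have e : ∀ k : ℕ, (y * x) ^ (k + 1) = y * (x * y) ^ k * x := by
      intro k
      induction k with
      | zero => simp
      | succ k ih => rw [pow_succ, ih, pow_succ (x * y)]; simp only [mul_assoc]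
    rw [hr, e, hN]; simp

/-- The additive span of the words of length at least `n`. -/
def wordSpan (x y : R) (n : ℕ) : AddSubgroup R :=
  AddSubgroup.closure {z | ∃ l : List R, (∀ u ∈ l, u = x ∨ u = y) ∧ n ≤ l.length ∧ l.prod = z}

theorem wordSpan_mul {x y : R} {m n : ℕ} {u v : R} (hu : u ∈ wordSpan x y m)
    (hv : v ∈ wordSpan x y n) : u * v ∈ wordSpan x y (m + n) := by
  induction hu using AddSubgroup.closure_induction with
  | mem z hz =>
    induction hv using AddSubgroup.closure_induction with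
    | mem w hw =>
      obtain ⟨l, hl, hlen, rfl⟩ := hz
      obtain ⟨k, hk, hklen, rfl⟩ := hw
      refine AddSubgroup.subset_closure ⟨l ++ k, fun t ht => ?_, by simp; omega, by simp⟩
      rcases List.mem_append.mp ht with h | h
      exacts [hl t h, hk t h]
    | zero => rw [mul_zero]; exact zero_mem _
    | add a b _ _ h1 h2 => rw [mul_add]; exact add_mem h1 h2
    | neg a _ h1 => rw [mul_neg]; exact neg_mem h1
  | zero => rw [zero_mul]; exact zero_mem _
  | add a b _ _ h1 h2 => rw [add_mul]; exact add_mem h1 h2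
  | neg a _ h1 => rw [neg_mul]; exact neg_mem h1

theorem wordSpan_mono {x y : R} {m n : ℕ} (h : m ≤ n) : wordSpan x y n ≤ wordSpan x y m :=
  AddSubgroup.closure_mono fun _ ⟨l, hl, hlen, e⟩ => ⟨l, hl, h.trans hlen, e⟩

/-- If `(ab - ...)` is nilpotent then the quadratic pair generates a `p`-group. -/
theorem isPGroup_of_nilpotent {G : Type*} [Group G] [Finite G] {p : ℕ} [hp : Fact p.Prime]
    (hchar : (p : R) = 0) (ρ : G →* R) (a b : G) (ha : (ρ a - 1) * (ρ a - 1) = 0)
    (hb : (ρ b - 1) * (ρ b - 1) = 0) (hnil : IsNilpotent ((ρ a - 1) * (ρ b - 1))) :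
    ∀ h ∈ Subgroup.closure ({a, b} : Set G), ∃ k : ℕ, ρ h ^ p ^ k = 1 := by
  obtain ⟨N, hN⟩ := hnil
  set x := ρ a - 1
  set y := ρ b - 1
  have hmem : ∀ h ∈ Subgroup.closure ({a, b} : Set G), ρ h - 1 ∈ wordSpan x y 1 := by
    intro h hh
    rw [← Subgroup.mem_toSubmonoid, Subgroup.closure_toSubmonoid_of_finite] at hh
    induction hh using Submonoid.closure_induction with
    | mem z hz =>
      rcases hz with rfl | rfl
      · exact AddSubgroup.subset_closure ⟨[x], by simp, le_rfl, by simp [x]⟩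
      · exact AddSubgroup.subset_closure ⟨[y], by simp, le_rfl, by simp [y]⟩
    | one => simp
    | mul u v _ _ hu hv =>
      rw [map_mul, show ρ u * ρ v - 1 = (ρ u - 1) * (ρ v - 1) + (ρ u - 1) + (ρ v - 1) by
        noncomm_ring]
      exact add_mem (add_mem (wordSpan_mono (by omega) (wordSpan_mul hu hv)) hu) hv
  intro h hh
  have hpow : ∀ n, (ρ h - 1) ^ (n + 1) ∈ wordSpan x y (n + 1) := by
    intro n
    induction n with
    | zero => simpa using hmem h hh
    | succ n ih => rw [pow_succ]; exact wordSpan_mul ih (hmem h hh)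
  have hz : (ρ h - 1) ^ (2 * (N + 1)) = 0 := by
    have hle : wordSpan x y (2 * (N + 1)) ≤ ⊥ := by
      refine (AddSubgroup.closure_le _).mpr ?_
      rintro _ ⟨l, hl, hlen, rfl⟩
      exact word_eq_zero ha hb hN l hl hlen
    exact hle (by
      have := hpow (2 * N + 1)
      rwa [show 2 * N + 1 + 1 = 2 * (N + 1) by ring] at this)
  refine ⟨2 * (N + 1), ?_⟩
  rcases subsingleton_or_nontrivial R with hR | hR
  · exact Subsingleton.elim _ _
  haveI : CharP R p := ringChar.of_eq (CharP.ringChar_of_prime_eq_zero hp.out hchar)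
  have h1 := sub_pow_char_pow_of_commute (p := p) (n := 2 * (N + 1)) (Commute.one_right (ρ h))
  rw [one_pow, pow_eq_zero_of_le (Nat.lt_pow_self hp.out.one_lt).le hz] at h1
  exact sub_eq_zero.mp h1.symm

end nilpotent

/-- **Quadratic pairs**: two quadratic elements with non-nilpotent product of differences generate a
group involving `SL(2, p)` together with a natural submodule. -/
theorem exists_natural {p : ℕ} [hp : Fact p.Prime] (hp2 : p ≠ 2) {ι : Type*} [Fintype ι]
    [DecidableEq ι] {G : Type*} [Group G] [Finite G] (ρ : G →* Matrix ι ι (ZMod p)) (a b : G)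
    (ha : (ρ a - 1) * (ρ a - 1) = 0) (hb : (ρ b - 1) * (ρ b - 1) = 0)
    (hnp : ¬ IsNilpotent ((ρ a - 1) * (ρ b - 1))) :
    ∃ (S : Subgroup G) (π : ↥S →* SL(2, ZMod p)) (Q : Matrix ι (Fin 2) (ZMod p)),
      S ≤ Subgroup.closure ({a, b} : Set G) ∧ Function.Surjective π ∧
      Function.Injective (fun v => Q *ᵥ v) ∧ ∀ s : ↥S, ρ (s : G) * Q = Q * (π s).1 := by
  let L := AlgebraicClosure (ZMod p)
  let c : ZMod p →+* L := algebraMap (ZMod p) L
  haveI : CharP L p := charP_of_injective_algebraMap c.injective p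
  let ρL : G →* Matrix ι ι L := (c.mapMatrix : Matrix ι ι (ZMod p) →+* _).toMonoidHom.comp ρ
  set x := ρL a - 1
  set y := ρL b - 1
  have hmap : ∀ g, ρL g - 1 = c.mapMatrix (ρ g - 1) := fun g => by rw [map_sub, map_one]; rfl
  have hx : x * x = 0 := by simp only [x]; rw [hmap, ← map_mul, ha, map_zero]
  have hy : y * y = 0 := by simp only [y]; rw [hmap, ← map_mul, hb, map_zero]
  -- an eigenvector of `x y` with nonzero eigenvalue
  obtain ⟨μ, hμ, w, hw0, hw⟩ : ∃ μ : L, μ ≠ 0 ∧ ∃ w : ι → L, w ≠ 0 ∧ (x * y) *ᵥ w = μ • w := by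
    by_contra hcon
    push Not at hcon
    apply hnp
    have hroots : ∀ r ∈ (x * y).charpoly.roots, r = 0 := by
      intro r hr
      by_contra hr0
      have h1 : r ∈ spectrum L (x * y) :=
        Matrix.mem_spectrum_iff_isRoot_charpoly.mpr (Polynomial.isRoot_of_mem_roots hr)
      rw [← Matrix.spectrum_toLin' (x * y), ← Module.End.hasEigenvalue_iff_mem_spectrum] at h1
      obtain ⟨w, hw⟩ := h1.exists_hasEigenvector
      exact hcon r hr0 w hw.2 (by rw [← mulVec_mulVec]; simpa using hw.apply_eq_smul)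
    have hsplit : (x * y).charpoly.Splits := IsAlgClosed.splits _
    have hchar : (x * y).charpoly = Polynomial.X ^ Fintype.card ι := by
      rw [hsplit.eq_prod_roots_of_monic (Matrix.charpoly_monic _),
        Multiset.map_congr rfl (g := fun _ => (Polynomial.X : Polynomial L))
          (fun r hr => by rw [hroots r hr, map_zero, sub_zero]),
        Multiset.map_const', Multiset.prod_replicate]
      congr 1
      rw [← hsplit.natDegree_eq_card_roots, Matrix.charpoly_natDegree_eq_dim]
    have hnil : (x * y) ^ Fintype.card ι = 0 := by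
      have := Matrix.aeval_self_charpoly (x * y)
      rwa [hchar, map_pow, Polynomial.aeval_X] at this
    refine ⟨Fintype.card ι, Matrix.map_injective c.injective ?_⟩
    show c.mapMatrix (((ρ a - 1) * (ρ b - 1)) ^ Fintype.card ι) = c.mapMatrix 0
    rw [map_pow, map_mul, ← hmap, ← hmap, map_zero]
    exact hnil
  set u := y *ᵥ w
  have hxu : x *ᵥ u = μ • w := by rw [mulVec_mulVec]; exact hw
  have hxw : x *ᵥ w = 0 := by
    have : μ • (x *ᵥ w) = 0 := by
      rw [← mulVec_smul, ← hxu, mulVec_mulVec, hx, zero_mulVec]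
    exact (smul_eq_zero.mp this).resolve_left hμ
  have hyu : y *ᵥ u = 0 := by rw [mulVec_mulVec, hy, zero_mulVec]
  let P : Matrix ι (Fin 2) L := Matrix.of fun i j => ![w i, u i] j
  have hPmul : ∀ v : Fin 2 → L, P *ᵥ v = v 0 • w + v 1 • u := fun v => by
    ext i; simp [P, mulVec, dotProduct, Fin.sum_univ_two, mul_comm]
  have hPinj : ∀ v : Fin 2 → L, P *ᵥ v = 0 → v = 0 := by
    intro v hv
    rw [hPmul] at hv
    have h1 : v 1 • (μ • w) = 0 := by
      have := congrArg (x *ᵥ ·) hv
      simpa [mulVec_add, mulVec_smul, hxw, hxu] using this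
    have hv1 : v 1 = 0 := by simpa [hμ, hw0] using h1
    have hv0 : v 0 = 0 := by simpa [hv1, hw0] using hv
    ext i; fin_cases i <;> simp [hv0, hv1]
  have hPinj' : ∀ M N : Matrix (Fin 2) (Fin 2) L, P * M = P * N → M = N := by
    intro M N h
    refine Matrix.ext_of_mulVec_single fun j => sub_eq_zero.mp (hPinj _ ?_)
    rw [mulVec_sub, mulVec_mulVec, mulVec_mulVec, h, sub_self]
  have hA : ρL a * P = P * (upper μ).1 := by
    rw [show ρL a = 1 + x by simp [x], Matrix.add_mul, Matrix.one_mul]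
    refine Matrix.ext_of_mulVec_single fun j => ?_
    rw [add_mulVec, ← mulVec_mulVec, ← mulVec_mulVec, hPmul, hPmul]
    fin_cases j <;> simp [mulVec_add, mulVec_smul, hxw, hxu, upper_coe, add_comm]
  have hB : ρL b * P = P * (lower (1 : L)).1 := by
    rw [show ρL b = 1 + y by simp [y], Matrix.add_mul, Matrix.one_mul]
    refine Matrix.ext_of_mulVec_single fun j => ?_
    rw [add_mulVec, ← mulVec_mulVec, ← mulVec_mulVec, hPmul, hPmul]
    fin_cases j <;> simp [mulVec_add, mulVec_smul, hyu, lower_coe, u]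
  let G₀ : Submonoid G :=
    { carrier := {g | ∃ C : SL(2, L), ρL g * P = P * C.1}
      one_mem' := ⟨1, by simp⟩
      mul_mem' := by
        rintro g h ⟨C, hC⟩ ⟨D, hD⟩
        exact ⟨C * D, by rw [map_mul, Matrix.SpecialLinearGroup.coe_mul, Matrix.mul_assoc, hD,
          ← Matrix.mul_assoc, hC, Matrix.mul_assoc]⟩ }
  have hcl : ∀ h ∈ Subgroup.closure ({a, b} : Set G), h ∈ G₀ := by
    intro h hh
    rw [← Subgroup.mem_toSubmonoid, Subgroup.closure_toSubmonoid_of_finite] at hh
    refine (Submonoid.closure_le.mpr ?_) hh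
    rintro z (rfl | rfl)
    exacts [⟨_, hA⟩, ⟨_, hB⟩]
  set H := Subgroup.closure ({a, b} : Set G)
  choose θ' hθ' using fun h : ↥H => hcl h h.2
  let θ : ↥H →* SL(2, L) := MonoidHom.mk' θ' fun g h => Subtype.ext (hPinj' _ _ (by
    rw [← hθ', Subgroup.coe_mul, map_mul, Matrix.SpecialLinearGroup.coe_mul, Matrix.mul_assoc,
      hθ', ← Matrix.mul_assoc, hθ', Matrix.mul_assoc]))
  haveI : Finite θ.range := Finite.of_surjective θ.rangeRestrict θ.rangeRestrict_surjective
  have haH : a ∈ H := Subgroup.subset_closure (Set.mem_insert a _)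
  have hbH : b ∈ H := Subgroup.subset_closure (Set.mem_insert_of_mem a (Set.mem_singleton b))
  have hθa : θ ⟨a, haH⟩ = upper μ := Subtype.ext (hPinj' _ _ ((hθ' ⟨a, haH⟩).symm.trans hA))
  have hθb : θ ⟨b, hbH⟩ = lower 1 := Subtype.ext (hPinj' _ _ ((hθ' ⟨b, hbH⟩).symm.trans hB))
  obtain ⟨g, hg⟩ := exists_sl_two_prime (p := p) hp2 (H := θ.range) ⟨_, hθa⟩ ⟨_, hθb⟩
    (isUnip_upper μ) (isUnip_lower 1) (by rw [tr_upper_lower, mul_one]; simpa using hμ)
  let f : SL(2, ZMod p) →* SL(2, L) :=
    (MulAut.conj g⁻¹).toMonoidHom.comp (Matrix.SpecialLinearGroup.map (ZMod.castHom (dvd_refl p) L))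
  have hfinj : Function.Injective f := by
    intro q q' e
    have e' := (MulAut.conj g⁻¹).injective e
    refine Subtype.ext (Matrix.map_injective (ZMod.castHom (dvd_refl p) L).injective ?_)
    exact congrArg Subtype.val e'
  have hfr : f.range ≤ θ.range := by
    rintro _ ⟨q, rfl⟩
    simpa [f] using hg q
  let S₀ : Subgroup ↥H := f.range.comap θ
  let e := MonoidHom.ofInjective hfinj
  let π₀ : ↥S₀ →* SL(2, ZMod p) :=
    e.symm.toMonoidHom.comp ((θ.comp S₀.subtype).codRestrict f.range fun s => s.2)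
  let S : Subgroup G := S₀.map H.subtype
  let eS : ↥S₀ ≃* ↥S := S₀.equivMapOfInjective H.subtype H.subtype_injective
  refine ⟨S, π₀.comp eS.symm.toMonoidHom, ?_⟩
  have hπ : Function.Surjective (π₀.comp eS.symm.toMonoidHom) := by
    intro q
    obtain ⟨h, hh⟩ := hfr ⟨q, rfl⟩
    refine ⟨eS ⟨h, ⟨q, hh.symm⟩⟩, ?_⟩
    show π₀ (eS.symm (eS _)) = q
    rw [MulEquiv.symm_apply_apply]
    refine e.symm_apply_eq.mpr (Subtype.ext ?_)
    exact hh
  have hSH : S ≤ H := Subgroup.map_subtype_le _
  let P' : Matrix ι (Fin 2) L := P * (g⁻¹).1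
  have hP' : ∀ s : ↥S, ρL (s : G) * P' = P' * c.mapMatrix ((π₀.comp eS.symm.toMonoidHom) s).1 := by
    intro s
    obtain ⟨s₀, rfl⟩ := eS.surjective s
    show ρL ((s₀ : ↥H) : G) * P' = P' * c.mapMatrix (π₀ (eS.symm (eS s₀))).1
    rw [MulEquiv.symm_apply_apply]
    have h1 : θ (s₀ : ↥H) = g⁻¹ * Matrix.SpecialLinearGroup.map (ZMod.castHom (dvd_refl p) L)
        (π₀ s₀) * g := by
      have h2 : f (π₀ s₀) = θ (s₀ : ↥H) := congrArg Subtype.val (e.apply_symm_apply _)
      rw [← h2]; simp [f]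
    have h3 : (Matrix.SpecialLinearGroup.map (ZMod.castHom (dvd_refl p) L) (π₀ s₀)).1 =
        c.mapMatrix (π₀ s₀).1 := by
      rw [RingHom.ext_zmod c (ZMod.castHom (dvd_refl p) L)]
      rfl
    rw [← h3, ← Matrix.mul_assoc, hθ', Matrix.mul_assoc, Matrix.mul_assoc]
    congr 1
    rw [← Matrix.SpecialLinearGroup.coe_mul, ← Matrix.SpecialLinearGroup.coe_mul]
    show ((θ (s₀ : ↥H)) * g⁻¹).1 = _
    rw [h1]
    simp [mul_assoc]
  obtain ⟨i₀, j₀, hij⟩ : ∃ i j, P' i j ≠ 0 := by
    by_contra hcon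
    push Not at hcon
    have h0 : P * (g⁻¹).1 = P * (0 : Matrix (Fin 2) (Fin 2) L) := by
      rw [Matrix.mul_zero]; exact Matrix.ext hcon
    have := congrArg (g.1 * ·) (hPinj' _ _ h0)
    rw [← Matrix.SpecialLinearGroup.coe_mul, mul_inv_cancel, Matrix.mul_zero] at this
    exact one_ne_zero (α := L) (by simpa using congrFun (congrFun this 0) 0)
  obtain ⟨φ, hφ⟩ : ∃ φ : Module.Dual (ZMod p) L, φ (P' i₀ j₀) ≠ 0 := by
    by_contra hcon
    push Not at hcon
    exact hij ((Module.forall_dual_apply_eq_zero_iff (ZMod p) (P' i₀ j₀)).mp hcon)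
  let Q : Matrix ι (Fin 2) (ZMod p) := P'.map φ
  have hQ : ∀ s : ↥S, ρ (s : G) * Q = Q * ((π₀.comp eS.symm.toMonoidHom) s).1 := by
    intro s
    ext i j
    have h := congrArg φ (congrFun (congrFun (hP' s) i) j)
    rw [Matrix.mul_apply, Matrix.mul_apply, map_sum, map_sum] at h
    rw [Matrix.mul_apply, Matrix.mul_apply]
    refine Eq.trans ?_ (h.trans ?_)
    · refine Finset.sum_congr rfl fun k _ => ?_
      show _ = φ (c (ρ (s : G) i k) * P' k j)
      rw [← Algebra.smul_def, map_smul, smul_eq_mul]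
      rfl
    · refine Finset.sum_congr rfl fun k _ => ?_
      show φ (P' i k * c _) = _
      rw [mul_comm, ← Algebra.smul_def, map_smul, smul_eq_mul, mul_comm]
      rfl
  refine ⟨Q, hSH, hπ, ?_, hQ⟩
  have hker : ∀ v, Q *ᵥ v = 0 → ∀ q : SL(2, ZMod p), Q *ᵥ (q.1 *ᵥ v) = 0 := by
    intro v hv q
    obtain ⟨s, rfl⟩ := hπ q
    rw [mulVec_mulVec, ← hQ, ← mulVec_mulVec, hv, mulVec_zero]
  intro v v' hvv
  by_contra hne
  have hv : Q *ᵥ (v - v') = 0 := by rw [mulVec_sub, sub_eq_zero]; exact hvv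
  set z := v - v' with hz
  have hz0 : z ≠ 0 := sub_ne_zero.mpr hne
  have he : ∀ j, Q *ᵥ (Pi.single j 1) = 0 := by
    have hu := hker z hv (upper 1)
    have hl := hker z hv (lower 1)
    have hue : (upper (1 : ZMod p)).1 *ᵥ z = z + z 1 • (Pi.single 0 1 : Fin 2 → ZMod p) := by
      ext i; fin_cases i <;> simp [mulVec, dotProduct, Fin.sum_univ_two]
    have hle : (lower (1 : ZMod p)).1 *ᵥ z = z + z 0 • (Pi.single 1 1 : Fin 2 → ZMod p) := by
      ext i; fin_cases i <;> simp [mulVec, dotProduct, Fin.sum_univ_two, add_comm]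
    rw [hue, mulVec_add, hv, zero_add, mulVec_smul, smul_eq_zero] at hu
    rw [hle, mulVec_add, hv, zero_add, mulVec_smul, smul_eq_zero] at hl
    have h01 : Q *ᵥ (Pi.single 0 1) = 0 → Q *ᵥ (Pi.single 1 1) = 0 := by
      intro h0
      have h1 := hker _ h0 (lower 1)
      have e : (lower (1 : ZMod p)).1 *ᵥ (Pi.single 0 1 : Fin 2 → ZMod p) =
          (Pi.single 0 1 : Fin 2 → ZMod p) + Pi.single 1 1 := by
        ext k; fin_cases k <;> simp [mulVec, dotProduct, Fin.sum_univ_two]
      rwa [e, mulVec_add, h0, zero_add] at h1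
    have h10 : Q *ᵥ (Pi.single 1 1) = 0 → Q *ᵥ (Pi.single 0 1) = 0 := by
      intro h0
      have h1 := hker _ h0 (upper 1)
      have e : (upper (1 : ZMod p)).1 *ᵥ (Pi.single 1 1 : Fin 2 → ZMod p) =
          (Pi.single 0 1 : Fin 2 → ZMod p) + Pi.single 1 1 := by
        ext k; fin_cases k <;> simp [mulVec, dotProduct, Fin.sum_univ_two]
      rwa [e, mulVec_add, h0, add_zero] at h1
    rw [Fin.forall_fin_two]
    by_cases hz1 : z 1 = 0
    · have hz00 : z 0 ≠ 0 := fun h => hz0 (by ext i; fin_cases i <;> simp [h, hz1])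
      exact ⟨h10 (hl.resolve_left hz00), hl.resolve_left hz00⟩
    · exact ⟨hu.resolve_left hz1, h01 (hu.resolve_left hz1)⟩
  apply hφ
  have := congrFun (he j₀) i₀
  simpa [Q, mulVec_single] using this

end Cfsg.Agent.SL2Dickson
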