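import Mathlib.LinearAlgebra.Projectivization.Action
import Mathlib.FieldTheory.IsAlgClosed.Basic
import Mathlib.LinearAlgebra.Eigenspace.Triangularizable
import Mathlib.LinearAlgebra.Matrix.SpecialLinearGroup

/-!
# The action of SL(2) on the projective line over an algebraically closed field
-/

set_option autoImplicit false
set_option linter.style.haveILetI false
set_option linter.unusedSectionVars false

namespace Cfsg.Agent.SL2Dickson

open Matrix
open scoped MatrixGroups LinearAlgebra.Projectivization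

variable {K : Type*} [Field K]

/-- The projective line. -/
abbrev Pt (K : Type*) [Field K] : Type _ := ℙ K (Fin 2 → K)

theorem smul_mk_eq (g : SL(2, K)) {v : Fin 2 → K} (hv : v ≠ 0) (hv' : g.1 *ᵥ v ≠ 0) :
    g • (Projectivization.mk K v hv : Pt K) = Projectivization.mk K (g.1 *ᵥ v) hv' := rfl

/-- The fixed point of the upper triangular matrices. -/
def inf₀ : Pt K := Projectivization.mk K ![1, 0] fun h => one_ne_zero (congrFun h 0)

/-- The finite point `z`. -/
def aff (z : K) : Pt K := Projectivization.mk K ![z, 1] fun h => one_ne_zero (congrFun h 1)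

theorem aff_ne_inf₀ (z : K) : aff z ≠ inf₀ := by
  intro h
  obtain ⟨c, hc⟩ := (Projectivization.mk_eq_mk_iff' K _ _ _ _).mp h
  simpa using congrFun hc 1

theorem aff_injective : Function.Injective (aff (K := K)) := by
  intro z w h
  obtain ⟨c, hc⟩ := (Projectivization.mk_eq_mk_iff' K _ _ _ _).mp h
  have h1 : c = 1 := by simpa using congrFun hc 1
  simpa [h1] using (congrFun hc 0).symm

theorem eq_inf₀_or_aff (x : Pt K) : x = inf₀ ∨ ∃ z, x = aff z := by
  induction x using Projectivization.ind with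
  | h v hv =>
    by_cases h1 : v 1 = 0
    · left
      refine (Projectivization.mk_eq_mk_iff' K _ _ _ _).mpr ⟨v 0, ?_⟩
      ext i; fin_cases i <;> simp [h1]
    · right
      refine ⟨v 0 / v 1, (Projectivization.mk_eq_mk_iff' K _ _ _ _).mpr ⟨v 1, ?_⟩⟩
      ext i; fin_cases i <;> simp [h1, mul_div_cancel₀]

theorem det_eq (h : SL(2, K)) : h.1 0 0 * h.1 1 1 - h.1 0 1 * h.1 1 0 = 1 := by
  rw [← det_fin_two, h.2]

theorem smul_inf₀_eq_iff (h : SL(2, K)) : h • (inf₀ : Pt K) = inf₀ ↔ h.1 1 0 = 0 := by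
  have hv : h.1 *ᵥ ![(1 : K), 0] ≠ 0 := by
    intro e
    have e0 : h.1 0 0 = 0 := by simpa [mulVec, vecHead, vecTail] using congrFun e 0
    have e1 : h.1 1 0 = 0 := by simpa [mulVec, vecHead, vecTail] using congrFun e 1
    simpa [e0, e1] using det_eq h
  rw [inf₀, smul_mk_eq h _ hv, Projectivization.mk_eq_mk_iff']
  constructor
  · rintro ⟨c, hc⟩
    simpa [mulVec, vecHead, vecTail] using (congrFun hc 1).symm
  · intro h0
    refine ⟨h.1 0 0, ?_⟩
    ext i; fin_cases i <;> simp [mulVec, vecHead, vecTail, h0]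

theorem smul_inf₀_eq_aff_iff (h : SL(2, K)) (z : K) :
    h • (inf₀ : Pt K) = aff z ↔ h.1 1 0 ≠ 0 ∧ h.1 0 0 = z * h.1 1 0 := by
  have hv : h.1 *ᵥ ![(1 : K), 0] ≠ 0 := by
    intro e
    have e0 : h.1 0 0 = 0 := by simpa [mulVec, vecHead, vecTail] using congrFun e 0
    have e1 : h.1 1 0 = 0 := by simpa [mulVec, vecHead, vecTail] using congrFun e 1
    simpa [e0, e1] using det_eq h
  rw [inf₀, aff, smul_mk_eq h _ hv, Projectivization.mk_eq_mk_iff']
  constructor
  · rintro ⟨c, hc⟩
    have h0 : c * z = h.1 0 0 := by simpa [mulVec, vecHead, vecTail] using congrFun hc 0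
    have h1 : c = h.1 1 0 := by simpa [mulVec, vecHead, vecTail] using congrFun hc 1
    refine ⟨fun e => ?_, by rw [← h0, h1, mul_comm]⟩
    refine hv ?_
    ext i; fin_cases i <;> simp [mulVec, vecHead, vecTail, e, ← h0, h1]
  · rintro ⟨-, h2⟩
    refine ⟨h.1 1 0, ?_⟩
    ext i; fin_cases i <;> simp [mulVec, vecHead, vecTail, h2, mul_comm]

/-- For an upper triangular matrix the finite fixed points solve a linear equation. -/
theorem smul_aff_eq_iff (h : SL(2, K)) (h0 : h.1 1 0 = 0) (z w : K) :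
    h • (aff z : Pt K) = aff w ↔ h.1 0 0 * z + h.1 0 1 = w * h.1 1 1 := by
  have h11 : h.1 1 1 ≠ 0 := fun e => by simpa [h0, e] using det_eq h
  have hv : h.1 *ᵥ ![z, (1 : K)] ≠ 0 := by
    intro e
    exact h11 (by simpa [mulVec, vecHead, vecTail, h0] using congrFun e 1)
  rw [aff, aff, smul_mk_eq h _ hv, Projectivization.mk_eq_mk_iff']
  constructor
  · rintro ⟨c, hc⟩
    have e0 : c * w = h.1 0 0 * z + h.1 0 1 := by
      simpa [mulVec, vecHead, vecTail] using congrFun hc 0
    have e1 : c = h.1 1 1 := by simpa [mulVec, vecHead, vecTail, h0] using congrFun hc 1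
    rw [← e0, e1, mul_comm]
  · intro h2
    refine ⟨h.1 1 1, ?_⟩
    ext i; fin_cases i <;> simp [mulVec, vecHead, vecTail, h0]
    linear_combination -h2

theorem exists_smul_pair {x y : Pt K} (h : x ≠ y) :
    ∃ g : SL(2, K), g • x = inf₀ ∧ g • y = aff (0 : K) :=
  (MulAction.is_two_pretransitive_iff).mp inferInstance h (aff_ne_inf₀ 0).symm

theorem exists_smul_inf₀ (x : Pt K) : ∃ g : SL(2, K), g • x = inf₀ := by
  rcases eq_or_ne x inf₀ with rfl | h
  · exact ⟨1, one_smul _ _⟩
  · obtain ⟨g, hg, -⟩ := exists_smul_pair h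
    exact ⟨g, hg⟩

/-- The trace of an element of `SL(2)`. -/
abbrev tr (h : SL(2, K)) : K := h.1 0 0 + h.1 1 1

theorem tr_mul_comm (g h : SL(2, K)) : tr (g * h) = tr (h * g) := by
  simp only [tr, Matrix.SpecialLinearGroup.coe_mul, mul_apply, Fin.sum_univ_two]
  ring

theorem tr_conj (g h : SL(2, K)) : tr (g * h * g⁻¹) = tr h := by
  rw [tr_mul_comm, ← mul_assoc, inv_mul_cancel, one_mul]

/-- A matrix of trace `± 2` fixing `inf₀` has equal diagonal entries. -/
theorem diag_eq_of_tr_sq {h : SL(2, K)} (h0 : h.1 1 0 = 0) (ht : tr h ^ 2 = 4) :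
    h.1 0 0 = h.1 1 1 ∧ h.1 0 0 ^ 2 = 1 := by
  have hd := det_eq h
  rw [h0, mul_zero, sub_zero] at hd
  have e : (h.1 0 0 - h.1 1 1) ^ 2 = 0 := by
    rw [show (h.1 0 0 - h.1 1 1) ^ 2 = tr h ^ 2 - 4 * (h.1 0 0 * h.1 1 1) by simp only [tr]; ring,
      ht, hd]
    ring
  have e' : h.1 0 0 = h.1 1 1 := sub_eq_zero.mp (pow_eq_zero_iff two_ne_zero |>.mp e)
  refine ⟨e', ?_⟩
  rw [sq]
  conv_lhs => arg 2; rw [e']
  exact hd

theorem tr_sq_of_diag_eq {h : SL(2, K)} (h0 : h.1 1 0 = 0) (he : h.1 0 0 = h.1 1 1) :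
    tr h ^ 2 = 4 := by
  have hd := det_eq h
  rw [h0, mul_zero, sub_zero] at hd
  rw [tr, ← he] at *
  linear_combination 4 * hd

/-- The scalar elements. -/
def IsScalar (h : SL(2, K)) : Prop := h = 1 ∨ h = -1

theorem IsScalar.smul {h : SL(2, K)} (hs : IsScalar h) (x : Pt K) : h • x = x := by
  induction x using Projectivization.ind with
  | h v hv =>
    rcases hs with rfl | rfl
    · exact one_smul _ _
    · rw [smul_mk_eq _ _ (by simpa [neg_mulVec] using hv), Projectivization.mk_eq_mk_iff']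
      exact ⟨-1, by ext i; simp [neg_mulVec]⟩

theorem isScalar_of_triangular {h : SL(2, K)} (h0 : h.1 1 0 = 0) (h1 : h.1 0 1 = 0)
    (he : h.1 0 0 = h.1 1 1) : IsScalar h := by
  have hd := det_eq h
  rw [h0, mul_zero, sub_zero, ← he] at hd
  rcases mul_self_eq_one_iff.mp hd with e | e
  · left
    ext i j; fin_cases i <;> fin_cases j <;> simp [h0, h1, ← he, e]
  · right
    ext i j; fin_cases i <;> fin_cases j <;> simp [h0, h1, ← he, e]

theorem isScalar_conj {g h : SL(2, K)} : IsScalar (g * h * g⁻¹) ↔ IsScalar h := by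
  constructor
  · rintro (e | e)
    · exact Or.inl (conj_eq_one_iff.mp e)
    · right
      have := congrArg (fun z => g⁻¹ * z * g) e
      simpa [mul_assoc] using this
  · rintro (rfl | rfl)
    · exact Or.inl (by simp)
    · exact Or.inr (by simp)

/-- Every element fixes a point over an algebraically closed field. -/
theorem exists_fixed [IsAlgClosed K] (h : SL(2, K)) : ∃ x : Pt K, h • x = x := by
  obtain ⟨c, hc⟩ := Module.End.exists_eigenvalue h.1.toLin'
  obtain ⟨v, hv⟩ := hc.exists_hasEigenvector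
  refine ⟨Projectivization.mk K v hv.2, ?_⟩
  have e : h.1 *ᵥ v = c • v := by simpa using hv.apply_eq_smul
  have hne : h.1 *ᵥ v ≠ 0 := by
    intro e0
    have h2 := congrArg (fun u => h.1.adjugate *ᵥ u) e0
    simp [mulVec_mulVec, adjugate_mul, h.2] at h2
    exact hv.2 h2
  rw [smul_mk_eq h _ hne, Projectivization.mk_eq_mk_iff']
  exact ⟨c, e.symm⟩

/-- The set of fixed points. -/
def fixSet (h : SL(2, K)) : Set (Pt K) := {x | h • x = x}

theorem fixSet_conj (g h : SL(2, K)) : fixSet (g * h * g⁻¹) = (g • ·) '' fixSet h := by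
  ext x
  constructor
  · intro hx
    refine ⟨g⁻¹ • x, ?_, smul_inv_smul g x⟩
    show h • g⁻¹ • x = g⁻¹ • x
    have := congrArg (g⁻¹ • ·) (hx : (g * h * g⁻¹) • x = x)
    simpa [mul_smul] using this
  · rintro ⟨y, hy, rfl⟩
    show (g * h * g⁻¹) • g • y = g • y
    rw [mul_smul, inv_smul_smul, mul_smul, hy]

/-- A non-scalar element fixes one point if its trace is `± 2`, and two points otherwise. -/
theorem fixSet_card [IsAlgClosed K] {h : SL(2, K)} (hs : ¬ IsScalar h) :
    (fixSet h).Finite ∧ (tr h ^ 2 = 4 → (fixSet h).ncard = 1) ∧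
      (tr h ^ 2 ≠ 4 → (fixSet h).ncard = 2) := by
  obtain ⟨x, hx⟩ := exists_fixed h
  obtain ⟨g, hg⟩ := exists_smul_inf₀ x
  set h' := g * h * g⁻¹ with hh'
  have hfix : h' • (inf₀ : Pt K) = inf₀ := by
    rw [← hg, hh', mul_smul, inv_smul_smul, mul_smul, hx]
  have h0 := (smul_inf₀_eq_iff h').mp hfix
  have hs' : ¬ IsScalar h' := fun e => hs (isScalar_conj.mp e)
  have hinj : Function.Injective (g • · : Pt K → Pt K) := MulAction.injective g
  have himg := fixSet_conj g h
  rw [← Set.finite_image_iff hinj.injOn, ← Set.ncard_image_of_injective _ hinj, ← himg,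
    ← tr_conj g h]
  have hd := det_eq h'
  rw [h0, mul_zero, sub_zero] at hd
  by_cases he : h'.1 0 0 = h'.1 1 1
  · have hset : fixSet h' = {inf₀} := by
      ext y
      rcases eq_inf₀_or_aff y with rfl | ⟨z, rfl⟩
      · simp [fixSet, hfix]
      · simp only [fixSet, Set.mem_setOf_eq, Set.mem_singleton_iff, aff_ne_inf₀, iff_false,
          smul_aff_eq_iff h' h0]
        intro e
        refine hs' (isScalar_of_triangular h0 ?_ he)
        rw [he] at e
        linear_combination e
    exact ⟨hset ▸ Set.finite_singleton _, fun _ => by rw [hset, Set.ncard_singleton],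
      fun ht => absurd (tr_sq_of_diag_eq h0 he) ht⟩
  · set z₀ := h'.1 0 1 / (h'.1 1 1 - h'.1 0 0)
    have hne : h'.1 1 1 - h'.1 0 0 ≠ 0 := sub_ne_zero.mpr (Ne.symm he)
    have hset : fixSet h' = {inf₀, aff z₀} := by
      ext y
      rcases eq_inf₀_or_aff y with rfl | ⟨z, rfl⟩
      · simp [fixSet, hfix]
      · simp only [fixSet, Set.mem_setOf_eq, Set.mem_insert_iff, Set.mem_singleton_iff,
          aff_ne_inf₀, false_or, smul_aff_eq_iff h' h0, aff_injective.eq_iff]
        rw [eq_div_iff hne]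
        constructor <;> intro e <;> linear_combination -e
    exact ⟨hset ▸ Set.toFinite _, fun ht => absurd (diag_eq_of_tr_sq h0 ht).1 he,
      fun _ => by rw [hset, Set.ncard_pair (aff_ne_inf₀ z₀).symm]⟩

end Cfsg.Agent.SL2Dickson
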