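import Cfsg.Agent.Lib.SL2Dickson.QdFacts
import Cfsg.Prelude.Def_ConjugacyFunctors
import Cfsg.Prelude.Def_LocalEven

/-!
# Conjugacy functors do not control fusion in Qd(p)
-/

set_option autoImplicit false
set_option linter.style.haveILetI false
set_option linter.unusedSectionVars false
set_option linter.unusedVariables false

namespace Cfsg.Agent.SL2Dickson

open Subgroup

universe u

variable {X : Type u} [Group X] [Finite X] {p : ℕ} [hp : Fact p.Prime]

/-- A normal `p`-subgroup lies in every Sylow subgroup. -/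
theorem le_sylow_of_normal {N : Subgroup X} [N.Normal] (hN : IsPGroup p N) (T : Sylow p X) :
    N ≤ (T : Subgroup X) := by
  have h := T.3 (T.2.to_sup_of_normal_right hN) le_sup_left
  exact le_sup_right.trans h.le

/-- In a copy of `Qd(p)`, the normalizer of the value of a functor is that of the Sylow
subgroup. -/
theorem normalizer_functor_qd (e : X ≃* ↥(Cfsg.qdOver (ZMod p)))
    {W : ∀ (Q : Type u) [Group Q], Subgroup Q} (hW : Cfsg.IsCharPFunctor.{u} p W)
    (T : Sylow p X) :
    normalizer ((Cfsg.inducedFunctor W (T : Subgroup X) : Subgroup X) : Set X) =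
      normalizer ((T : Subgroup X) : Set X) ∧
    normalizer ((T : Subgroup X) : Set X) ≠ ⊤ := by
  have hmax : ((T : Subgroup X).map e.toMonoidHom) = (T : Subgroup X).comap e.symm.toMonoidHom :=
    map_equiv_eq_comap_symm e _
  let S : Sylow p ↥(Cfsg.qdOver (ZMod p)) := T.comapOfInjective e.symm.toMonoidHom e.symm.injective
    (fun x _ => ⟨e x, e.symm_apply_apply x⟩)
  have hS : (S : Subgroup ↥(Cfsg.qdOver (ZMod p))) = (T : Subgroup X).map e.toMonoidHom := hmax.symm
  let φ : ↥(T : Subgroup X) ≃* ↥(S : Subgroup ↥(Cfsg.qdOver (ZMod p))) :=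
    (e.subgroupMap (T : Subgroup X)).trans (MulEquiv.subgroupCongr hS.symm)
  have hφ : ∀ x : ↥(T : Subgroup X), (φ x : ↥(Cfsg.qdOver (ZMod p))) = e x := fun x => rfl
  set T₀ : Subgroup ↥(S : Subgroup ↥(Cfsg.qdOver (ZMod p))) := (W ↥(T : Subgroup X)).map φ.toMonoidHom
  have hne : T₀ ≠ ⊥ := by
    rw [Ne, map_eq_bot_iff_of_injective _ φ.injective]
    refine hW.1 _ T.2 ((nontrivial_iff_ne_bot _).mpr fun hbot => ?_)
    obtain ⟨P, hP⟩ := exists_sylow_sylQd (p := p)
    obtain ⟨g, hg⟩ := MulAction.exists_smul_eq ↥(Cfsg.qdOver (ZMod p)) P S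
    have hb : (S : Subgroup ↥(Cfsg.qdOver (ZMod p))) = ⊥ := by rw [hS, hbot, Subgroup.map_bot]
    have hc : Nat.card ↥(P : Subgroup ↥(Cfsg.qdOver (ZMod p))) = Nat.card ↥(S : Subgroup ↥(Cfsg.qdOver (ZMod p))) := by
      rw [← hg]; exact Nat.card_congr (Sylow.equivSMul P g).toEquiv
    rw [hb, card_bot] at hc
    have h1 : qdTr (F := ZMod p) (Multiplicative.ofAdd ![1, 0]) ∈ (P : Subgroup ↥(Cfsg.qdOver (ZMod p))) :=
      le_sylow_of_normal (qdTr_isPGroup (p := p) (F := ZMod p)) P ⟨_, rfl⟩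
    rw [eq_bot_of_card_eq _ hc, mem_bot] at h1
    have h2 := congrFun (qdMk_inj (h1.trans qdMk_one.symm)).1 0
    simp at h2
  have hchar : T₀.Characteristic := by
    rw [characteristic_iff_map_eq]
    intro α
    have h1 := hW.2 ↥(T : Subgroup X) ↥(T : Subgroup X) T.2 (φ.trans (α.trans φ.symm))
    conv_rhs => rw [show T₀ = (W ↥(T : Subgroup X)).map φ.toMonoidHom from rfl, ← h1]
    rw [show T₀ = (W ↥(T : Subgroup X)).map φ.toMonoidHom from rfl, Subgroup.map_map,
      Subgroup.map_map]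
    congr 1
    ext x
    simp
  obtain ⟨h1, h2⟩ := normalizer_char_qd S T₀ hne hchar
  have hU : T₀.map (S : Subgroup ↥(Cfsg.qdOver (ZMod p))).subtype =
      (Cfsg.inducedFunctor W (T : Subgroup X)).map e.toMonoidHom := by
    rw [show T₀ = (W ↥(T : Subgroup X)).map φ.toMonoidHom from rfl, Cfsg.inducedFunctor,
      Subgroup.map_map, Subgroup.map_map]
    rfl
  have hinj := map_injective (f := e.toMonoidHom) e.injective
  have hnm : ∀ U : Subgroup X, (normalizer (U : Set X)).map e.toMonoidHom =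
      normalizer ((U.map e.toMonoidHom : Subgroup ↥(Cfsg.qdOver (ZMod p))) : Set ↥(Cfsg.qdOver (ZMod p))) :=
    fun U => map_equiv_normalizer_eq U e
  constructor
  · apply hinj
    rw [hnm, hnm, ← hU, ← hS]
    exact h1
  · intro h
    apply h2
    show normalizer ((S : Subgroup ↥(Cfsg.qdOver (ZMod p))) : Set ↥(Cfsg.qdOver (ZMod p))) = ⊤
    rw [hS, ← hnm, h, map_top_of_surjective _ e.surjective]

/-- A family of functors cannot control fusion of the translations in a copy of `Qd(p)`: the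
controlling group would have to be everything. -/
theorem eq_top_of_action (e : X ≃* ↥(Cfsg.qdOver (ZMod p))) (T : Sylow p X) {N : Subgroup X}
    (hN : normalizer ((T : Subgroup X) : Set X) ≤ N)
    (h : ∀ A : Subgroup X, A ≤ (T : Subgroup X) → ∀ g : X,
      (∀ a ∈ A, g * a * g⁻¹ ∈ (T : Subgroup X)) → ∃ x ∈ N, ∀ a ∈ A, x * a * x⁻¹ = g * a * g⁻¹) :
    N = ⊤ := by
  set A := ((qdTr (F := ZMod p)).range).comap e.toMonoidHom
  have hAp : IsPGroup p A :=
    (qdTr_isPGroup (p := p) (F := ZMod p)).comap_of_injective e.toMonoidHom e.injective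
  haveI : (qdTr (F := ZMod p)).range.Normal := by
    rw [← pCore_qdOver (p := p)]; exact LocalEvenA.pCore_normal' p _
  haveI hAn : A.Normal := Subgroup.Normal.comap inferInstance e.toMonoidHom
  have hAT := le_sylow_of_normal hAp T
  rw [eq_top_iff]
  intro g _
  obtain ⟨x, hx, hxa⟩ := h A hAT g fun a ha => hAT (hAn.conj_mem a ha g)
  have hc : x⁻¹ * g ∈ A := by
    refine centralizer_tr_le (mem_centralizer_iff.mpr fun w hw => ?_)
    obtain ⟨a, rfl⟩ := e.surjective w
    have h1 := hxa a hw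
    show e a * e (x⁻¹ * g) = e (x⁻¹ * g) * e a
    rw [← map_mul, ← map_mul]
    congr 1
    calc a * (x⁻¹ * g) = x⁻¹ * (x * a * x⁻¹) * g := by group
      _ = x⁻¹ * g * a := by rw [h1]; group
  have := mul_mem hx (hN (le_normalizer (hAT hc)))
  rwa [mul_inv_cancel_left] at this

/-- No functor controls strong fusion in a copy of `Qd(p)`. -/
theorem not_controls_qd (e : X ≃* ↥(Cfsg.qdOver (ZMod p)))
    {W : ∀ (Q : Type u) [Group Q], Subgroup Q} (hW : Cfsg.IsCharPFunctor.{u} p W)
    (T : Sylow p X) :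
    ¬ Cfsg.ControlsStrongFusion p (Cfsg.inducedFunctor W (T : Subgroup X)) := by
  rintro ⟨T', hle, hctl⟩
  obtain ⟨hN, htop⟩ := normalizer_functor_qd e hW T
  refine htop (hN ▸ ?_)
  set N := normalizer ((Cfsg.inducedFunctor W (T : Subgroup X) : Subgroup X) : Set X)
  obtain ⟨g₀, hg₀⟩ := MulAction.exists_smul_eq X T T'
  set A := ((qdTr (F := ZMod p)).range).comap e.toMonoidHom
  have hAp : IsPGroup p A :=
    (qdTr_isPGroup (p := p) (F := ZMod p)).comap_of_injective e.toMonoidHom e.injective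
  haveI : (qdTr (F := ZMod p)).range.Normal := by
    rw [← pCore_qdOver (p := p)]; exact LocalEvenA.pCore_normal' p _
  haveI hAn : A.Normal := Subgroup.Normal.comap inferInstance e.toMonoidHom
  rw [eq_top_iff]
  intro g _
  obtain ⟨x, hx, hxa⟩ := (hctl (A : Set X) (le_sylow_of_normal hAp T')).2 g (by
    rintro _ ⟨a, ha, rfl⟩
    exact le_sylow_of_normal hAp T' (hAn.conj_mem a ha g))
  have hc : x⁻¹ * g ∈ A := by
    refine centralizer_tr_le (mem_centralizer_iff.mpr fun w hw => ?_)
    obtain ⟨a, rfl⟩ := e.surjective w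
    have h1 := hxa a hw
    show e a * e (x⁻¹ * g) = e (x⁻¹ * g) * e a
    rw [← map_mul, ← map_mul]
    congr 1
    calc a * (x⁻¹ * g) = x⁻¹ * (x * a * x⁻¹) * g := by group
      _ = x⁻¹ * g * a := by rw [← h1]; group
  have h1 : A ≤ N := by
    rw [hN]; exact (le_sylow_of_normal hAp T).trans le_normalizer
  have := mul_mem hx (h1 hc)
  rwa [mul_inv_cancel_left] at this

end Cfsg.Agent.SL2Dickson
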