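import Cfsg.Agent.Lib.SL2Dickson.QdFacts
import Cfsg.Agent.Lib.Invol.ExtraPairs

/-!
# The Sylow subgroups of Qd
-/

set_option autoImplicit false
set_option linter.style.haveILetI false
set_option linter.unusedSectionVars false
set_option linter.unusedVariables false

namespace Cfsg.Agent.SL2Dickson

open Matrix
open scoped MatrixGroups commutatorElement

variable {p : ℕ} [hp : Fact p.Prime]

/-- An element of the standard Sylow subgroup in coordinates. -/
def heis (x y s : ZMod p) : sylQd p :=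
  ⟨qdMk ![x, y] (upper s), qdMk_mem_sylQd.mpr ⟨_, rfl⟩⟩

theorem heis_mul (x y s x' y' s' : ZMod p) :
    heis x y s * heis x' y' s' = heis (x + x' + s * y') (y + y') (s + s') := by
  apply Subtype.ext
  show qdMk ![x, y] (upper s) * qdMk ![x', y'] (upper s') = qdMk _ _
  rw [qdMk_mul, upper_add]
  congr 1
  funext i
  fin_cases i <;> simp [upper, mulVec, dotProduct, Fin.sum_univ_two, vecHead, vecTail] <;> ring

theorem heis_one : heis (0 : ZMod p) 0 0 = 1 := by
  apply Subtype.ext
  show qdMk ![0, 0] (upper 0) = 1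
  rw [upper_zero, ← qdMk_one]
  congr 1
  funext i
  fin_cases i <;> rfl

theorem heis_inj {x y s x' y' s' : ZMod p} (h : heis x y s = heis x' y' s') :
    x = x' ∧ y = y' ∧ s = s' := by
  obtain ⟨h1, h2⟩ := qdMk_inj (congrArg Subtype.val h)
  refine ⟨congrFun h1 0, congrFun h1 1, ?_⟩
  have := congrArg (fun q : SL(2, ZMod p) => q.1 0 1) h2
  simpa [upper] using this

theorem heis_surj (g : sylQd p) : ∃ x y s, heis x y s = g := by
  obtain ⟨v, s, h⟩ := g.2
  refine ⟨v 0, v 1, s, Subtype.ext ?_⟩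
  show qdMk ![v 0, v 1] (upper s) = _
  rw [← h]
  congr 1
  funext i
  fin_cases i <;> rfl

theorem heis_pow (x y s : ZMod p) (n : ℕ) :
    heis x y s ^ n = heis ((n : ZMod p) * x + ((n.choose 2 : ℕ) : ZMod p) * (s * y)) ((n : ZMod p) * y) ((n : ZMod p) * s) := by
  induction n with
  | zero => simp [heis_one]
  | succ n ih =>
    rw [pow_succ, ih, heis_mul, Nat.choose_succ_succ, Nat.choose_one_right]
    push_cast
    congr 1 <;> ring

theorem heis_pow_p (hp2 : p ≠ 2) (g : sylQd p) : g ^ p = 1 := by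
  obtain ⟨x, y, s, rfl⟩ := heis_surj g
  have hc : ((p.choose 2 : ℕ) : ZMod p) = 0 := by
    rw [ZMod.natCast_eq_zero_iff]
    exact hp.out.dvd_choose_self two_ne_zero (lt_of_le_of_ne hp.out.two_le (Ne.symm hp2))
  rw [heis_pow, hc, ZMod.natCast_self]
  simp [heis_one]

theorem card_sylQd : Nat.card (sylQd p) = p ^ 3 := by
  have hb : Function.Bijective fun c : ZMod p × ZMod p × ZMod p => heis c.1 c.2.1 c.2.2 := by
    refine ⟨?_, fun g => ?_⟩
    · rintro ⟨x, y, s⟩ ⟨x', y', s'⟩ h
      obtain ⟨h1, h2, h3⟩ := heis_inj h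
      simp_all
    · obtain ⟨x, y, s, rfl⟩ := heis_surj g
      exact ⟨(x, y, s), rfl⟩
  rw [← Nat.card_congr (Equiv.ofBijective _ hb), Nat.card_prod, Nat.card_prod, Nat.card_zmod]
  ring

theorem pre_sylQd (hp2 : p ≠ 2) : Invol.ExtraPairs.Pre p (sylQd p) (heis 1 0 0) := by
  have hzp : ∀ x : ZMod p, heis x 0 0 ∈ Subgroup.zpowers (heis (1 : ZMod p) 0 0) := fun x => by
    refine ⟨(x.val : ℤ), ?_⟩
    show heis (1 : ZMod p) 0 0 ^ (x.val : ℤ) = _
    rw [zpow_natCast, heis_pow]
    congr 1 <;> simp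
  refine ⟨orderOf_eq_prime (heis_pow_p hp2 _) fun h => ?_, ?_, fun a b => ?_,
    fun a => by rw [heis_pow_p hp2]; exact one_mem _⟩
  · exact one_ne_zero (heis_inj (h.trans heis_one.symm)).1
  · refine le_antisymm (fun g hg => ?_) (Subgroup.zpowers_le.mpr (Subgroup.mem_center_iff.mpr
      fun g => ?_))
    · obtain ⟨x, y, s, rfl⟩ := heis_surj g
      have h1 := (heis_inj ((heis_mul _ _ _ _ _ _).symm.trans
        ((Subgroup.mem_center_iff.mp hg (heis 0 0 1)).trans (heis_mul _ _ _ _ _ _)))).1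
      have h2 := (heis_inj ((heis_mul _ _ _ _ _ _).symm.trans
        ((Subgroup.mem_center_iff.mp hg (heis 0 1 0)).trans (heis_mul _ _ _ _ _ _)))).1
      have hy : y = 0 := by linear_combination h1
      have hs : s = 0 := by linear_combination -h2
      rw [hy, hs]
      exact hzp x
    · obtain ⟨x, y, s, rfl⟩ := heis_surj g
      rw [heis_mul, heis_mul]
      congr 1 <;> ring
  · obtain ⟨x, y, s, rfl⟩ := heis_surj a
    obtain ⟨x', y', s', rfl⟩ := heis_surj b
    have h : ⁅heis x y s, heis x' y' s'⁆ = heis (s * y' - s' * y) 0 0 := by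
      rw [commutatorElement_def, mul_inv_eq_iff_eq_mul, mul_inv_eq_iff_eq_mul, heis_mul, heis_mul,
        heis_mul]
      congr 1 <;> ring
    rw [h]
    exact hzp _

theorem sylQd_extraspecial (hp2 : p ≠ 2) :
    Cfsg.IsExtraspecial p (sylQd p) ∧ Nat.card (sylQd p) = p ^ 3 ∧
      Monoid.exponent (sylQd p) = p := by
  refine ⟨(pre_sylQd hp2).extraspecial ?_, card_sylQd, ?_⟩
  · rw [card_sylQd]
    intro h
    exact absurd (Nat.pow_right_injective hp.out.two_le
      (show p ^ 3 = p ^ 1 by rw [h, pow_one])) (by norm_num)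
  · refine ((Nat.dvd_prime hp.out).mp
      (Monoid.exponent_dvd_of_forall_pow_eq_one (heis_pow_p hp2))).resolve_left fun h => ?_
    have h1 := (pre_sylQd (p := p) hp2).ordz
    have h2 : orderOf (heis (1 : ZMod p) 0 0) ∣ 1 := h ▸ Monoid.order_dvd_exponent _
    rw [h1, Nat.dvd_one] at h2
    exact hp.out.ne_one h2

end Cfsg.Agent.SL2Dickson
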