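import Cfsg.Agent.Lib.SL2Dickson.Stability

/-!
# p-stability of all sections from `SL(2, p)`-free automizers
-/

set_option autoImplicit false
set_option linter.style.haveILetI false
set_option linter.unusedSectionVars false
set_option linter.unusedVariables false

namespace Cfsg.Agent.SL2Dickson

open Subgroup
open scoped MatrixGroups commutatorElement

universe u v w

variable {X : Type u} [Group X] [Finite X] {p : ℕ} [hp : Fact p.Prime]

theorem exists_section_of_factor (hp2 : p ≠ 2) {U V : Subgroup X} [V.Normal]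
    (hUV : Cfsg.IsChiefFactor U V) (hU : IsPGroup p U) {g : X}
    (hq : ⁅⁅U, zpowers g⁆, zpowers g⁆ ≤ V) (hg : g ∉ ConjFunctor.factorKer U V)
    (C : Subgroup X) [C.Normal] (hC : C ≤ centralizer (U : Set X)) :
    Cfsg.Involves SL(2, ZMod p) (X ⧸ C) := by
  haveI := hUV.2.1
  set q := QuotientGroup.mk' V with hqdef
  have hqs : Function.Surjective q := QuotientGroup.mk'_surjective _
  set D := ConjFunctor.factorKer U V with hD
  set W := U.map q with hW
  haveI hWn : W.Normal := Normal.map inferInstance q hqs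
  have hWe : Cfsg.IsElementaryAbelian p W := by
    refine ⟨⟨⟨fun x y => ?_⟩⟩, fun x hx => ?_⟩
    · obtain ⟨a, ha, hax⟩ := x.2
      obtain ⟨b, hb, hby⟩ := y.2
      refine Subtype.ext ?_
      rw [Subgroup.coe_mul, Subgroup.coe_mul, ← hax, ← hby, ← commutatorElement_eq_one_iff_mul_comm,
        ← map_commutatorElement]
      exact (QuotientGroup.eq_one_iff _).mpr
        (ConjFunctor.chief_commutator_self hUV hU (commutator_mem_commutator ha hb))
    · obtain ⟨a, ha, rfl⟩ := hx
      rw [← map_pow]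
      exact (QuotientGroup.eq_one_iff _).mpr (ConjFunctor.chief_pow_mem hUV hU ha)
  have hUD : U ≤ D :=
    ConjFunctor.commutator_le_iff_factorKer.mp (ConjFunctor.chief_commutator_self hUV hU)
  set qD := QuotientGroup.mk' D with hqDdef
  obtain ⟨h, hh⟩ : ∃ h : X, ¬ IsPGroup p (closure ({qD g, qD h * qD g * (qD h)⁻¹} : Set (X ⧸ D))) := by
    by_contra hcon
    push Not at hcon
    obtain ⟨N, hN, hNp, hgN⟩ := Invol.baerSuzuki_element (p := p) (x := qD g) (fun y => by
      obtain ⟨h, rfl⟩ := QuotientGroup.mk'_surjective D y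
      exact hcon h)
    haveI := hN
    set M := N.comap qD with hMdef
    obtain ⟨T, hT, hUT⟩ := ConjFunctor.exists_isSylIn_ge (p := p) (H := M) (Q := U) (fun x hx => by
      rw [hMdef, mem_comap, show qD x = 1 from (QuotientGroup.eq_one_iff x).mpr (hUD hx)]
      exact one_mem _) hU
    have hDM : D ≤ M := fun x hx => by
      rw [hMdef, mem_comap, show qD x = 1 from (QuotientGroup.eq_one_iff x).mpr hx]
      exact one_mem _
    have hMT : M ≤ D ⊔ T := by
      rw [← relIndex_eq_one]
      obtain ⟨k, hk⟩ : ∃ k, D.relIndex M = p ^ k := by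
        obtain ⟨k, hk⟩ := hNp.exists_card_eq
        refine ⟨k, ?_⟩
        have e : (⊥ : Subgroup (X ⧸ D)).comap qD = D := by
          rw [MonoidHom.comap_bot, hqDdef, QuotientGroup.ker_mk']
        have h3 := relIndex_comap (⊥ : Subgroup (X ⧸ D)) qD M
        rw [hMdef, map_comap_eq_self_of_surjective (QuotientGroup.mk'_surjective D),
          relIndex_bot_left, hk] at h3
        rw [← h3, e]
      refine Nat.eq_one_of_dvd_coprimes
        ((hp.out.coprime_iff_not_dvd.mpr hT.2.2).pow_left k) ?_ ?_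
      · exact hk ▸ relIndex_dvd_of_le_left M (le_sup_left : D ≤ D ⊔ T)
      · exact relIndex_dvd_of_le_left M (le_sup_right : T ≤ D ⊔ T)
    exact hg (ConjFunctor.le_factorKer_of_le_mul hUV (M := D) le_rfl hT.2.1 hUT hMT hgN)
  set a := q g
  set b := q h * q g * (q h)⁻¹ with hbdef
  have hNW : ∀ y : X ⧸ V, y ∈ normalizer (W : Set (X ⧸ V)) := fun y => by
    rw [normalizer_eq_top]; exact mem_top y
  have ha : ⁅⁅W, zpowers a⁆, zpowers a⁆ = ⊥ := by
    rw [hW, ← MonoidHom.map_zpowers, ← map_commutator, ← map_commutator, Subgroup.map_eq_bot_iff,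
      hqdef, QuotientGroup.ker_mk']
    exact hq
  have hb : ⁅⁅W, zpowers b⁆, zpowers b⁆ = ⊥ := by
    have := congrArg (Subgroup.map (MulAut.conj (q h)).toMonoidHom) ha
    rwa [map_commutator, map_commutator, MonoidHom.map_zpowers, Subgroup.map_bot,
      show W.map (MulAut.conj (q h)).toMonoidHom = W from ConjFunctor.cj_eq_iff.mpr (hNW _)] at this
  have hnp : ∃ y ∈ closure ({a, b} : Set (X ⧸ V)), ∀ k : ℕ,
      y ^ p ^ k ∉ centralizer (W : Set (X ⧸ V)) := by
    by_contra hcon
    push Not at hcon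
    apply hh
    have e1 : closure ({qD g, qD h * qD g * (qD h)⁻¹} : Set (X ⧸ D)) =
        (closure ({g, h * g * h⁻¹} : Set X)).map qD := by
      rw [MonoidHom.map_closure, Set.image_pair, map_mul, map_mul, map_inv]
    rw [e1]
    rintro ⟨_, z, hz, rfl⟩
    have e2 : closure ({a, b} : Set (X ⧸ V)) = (closure ({g, h * g * h⁻¹} : Set X)).map q := by
      rw [MonoidHom.map_closure, Set.image_pair, map_mul, map_mul, map_inv]
    obtain ⟨k, hk⟩ := hcon (q z) (e2 ▸ mem_map_of_mem q hz)
    refine ⟨k, Subtype.ext ?_⟩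
    rw [SubgroupClass.coe_pow, OneMemClass.coe_one, ← map_pow]
    refine (QuotientGroup.eq_one_iff _).mpr (ConjFunctor.mem_factorKer.mpr fun u hu => ?_)
    rw [← QuotientGroup.eq_one_iff, ← QuotientGroup.mk'_apply, map_commutatorElement,
      commutatorElement_eq_one_iff_mul_comm, map_pow]
    exact (mem_centralizer_iff.mp hk (q u) (mem_map_of_mem q hu)).symm
  obtain ⟨S, π, e, -, hπ, he, heW, hact⟩ :=
    exists_natural_subgroup hp2 W hWe a b (hNW a) (hNW b) ha hb hnp
  set M := S.comap q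
  let f : ↥M →* X ⧸ C := (QuotientGroup.mk' C).comp M.subtype
  let σ : ↥M →* SL(2, ZMod p) := π.comp ((q.comp M.subtype).codRestrict S fun x => x.2)
  have hσ : Function.Surjective σ := by
    intro y
    obtain ⟨s, hs⟩ := hπ y
    obtain ⟨m, hm⟩ := hqs (s : X ⧸ V)
    refine ⟨⟨m, show q m ∈ S from hm ▸ s.2⟩, ?_⟩
    show π _ = y
    rw [← hs]
    exact congrArg π (Subtype.ext hm)
  have hker : f.rangeRestrict.ker ≤ σ.ker := by
    intro m hm
    have hmC : (m : X) ∈ C := (QuotientGroup.eq_one_iff _).mp (congrArg Subtype.val hm)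
    rw [MonoidHom.mem_ker]
    set s : ↥S := ⟨q m, m.2⟩ with hs
    show π s = 1
    have hfix : ∀ v, natAut p (π s) v = v := by
      intro v
      apply he
      rw [← hact]
      obtain ⟨u, hu, huv⟩ : e v ∈ W := heW ⟨v, rfl⟩
      rw [mul_inv_eq_iff_eq_mul, ← huv, hs]
      show q m * q u = q u * q m
      rw [← map_mul, ← map_mul, mem_centralizer_iff.mp (hC hmC) u hu]
    apply Matrix.SpecialLinearGroup.ext
    intro i j
    have h2 := congrFun (congrArg Multiplicative.toAdd
      (hfix (Multiplicative.ofAdd (Pi.single j 1)))) i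
    rw [natAut_apply] at h2
    simpa [Matrix.one_apply, Pi.single_apply] using h2
  exact involves_of_hom f.range.subtype f.range.subtype_injective
    (MonoidHom.liftOfSurjective f.rangeRestrict f.rangeRestrict_surjective ⟨σ, hker⟩)
    (fun y => by
      obtain ⟨m, rfl⟩ := hσ y
      exact ⟨f.rangeRestrict m, MonoidHom.liftOfRightInverse_comp_apply _ _ _ ⟨σ, hker⟩ m⟩)

/-- Failure of `p`-stability involves `SL(2, p)` in `N(P)/C(P)`. -/
theorem involves_mod_of_not_pStable (hp2 : p ≠ 2) {P : Subgroup X} (hP : IsPGroup p P) {g : X}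
    (hg : g ∈ normalizer (P : Set X)) (hcom : ⁅⁅P, zpowers g⁆, zpowers g⁆ = ⊥)
    (hbad : QuotientGroup.mk (s := (centralizer (P : Set X)).subgroupOf (normalizer (P : Set X)))
      (⟨g, hg⟩ : ↥(normalizer (P : Set X))) ∉ Cfsg.pCore p _) :
    Cfsg.Involves SL(2, ZMod p) (↥(normalizer (P : Set X)) ⧸
      (centralizer (P : Set X)).subgroupOf (normalizer (P : Set X))) := by
  set H := normalizer (P : Set X)
  haveI hPn : (P.subgroupOf H).Normal := normal_in_normalizer
  have hP' : IsPGroup p (P.subgroupOf H) := hP.comap_subtype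
  have hcom' : ⁅⁅P.subgroupOf H, zpowers (⟨g, hg⟩ : ↥H)⁆, zpowers (⟨g, hg⟩ : ↥H)⁆ = ⊥ := by
    rw [← map_eq_bot_iff_of_injective _ H.subtype_injective, map_commutator, map_commutator,
      MonoidHom.map_zpowers, subgroupOf_map_subtype, inf_eq_left.mpr le_normalizer]
    exact hcom
  set K : Subgroup ↥H :=
    { carrier := {x | ∀ U V : Subgroup ↥H, Cfsg.IsChiefFactor U V → U ≤ P.subgroupOf H →
        ∀ u ∈ U, ⁅x, u⁆ ∈ V}
      one_mem' := fun U V _ _ u _ => by rw [commutatorElement_one_left]; exact one_mem V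
      mul_mem' := fun {a b} ha hb U V hUV hU => by
        haveI := hUV.2.2.1
        exact ConjFunctor.mem_factorKer.mp (mul_mem (ConjFunctor.mem_factorKer.mpr (ha U V hUV hU))
          (ConjFunctor.mem_factorKer.mpr (hb U V hUV hU)))
      inv_mem' := fun {a} ha U V hUV hU => by
        haveI := hUV.2.2.1
        exact ConjFunctor.mem_factorKer.mp
          (inv_mem (ConjFunctor.mem_factorKer.mpr (ha U V hUV hU))) } with hK
  haveI hKn : K.Normal := ⟨fun x hx t U V hUV hU => by
    haveI := hUV.2.1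
    haveI := hUV.2.2.1
    exact ConjFunctor.mem_factorKer.mp ((ConjFunctor.factorKer_normal U V).conj_mem x
      (ConjFunctor.mem_factorKer.mpr (hx U V hUV hU)) t)⟩
  set q := QuotientGroup.mk' ((centralizer (P : Set X)).subgroupOf H)
  have hKp : IsPGroup p (K.map q) := by
    rintro ⟨_, x, hx, rfl⟩
    refine ⟨(orderOf x).factorization p, Subtype.ext ?_⟩
    rw [SubgroupClass.coe_pow, OneMemClass.coe_one]
    show q x ^ _ = 1
    rw [← map_pow, QuotientGroup.mk'_apply, QuotientGroup.eq_one_iff, mem_subgroupOf]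
    set y := x ^ p ^ (orderOf x).factorization p
    have hy : (orderOf y).Coprime p := by
      rw [orderOf_pow' x (pow_ne_zero _ hp.out.ne_zero),
        Nat.gcd_eq_right (Nat.ordProj_dvd (orderOf x) p)]
      exact (hp.out.coprime_iff_not_dvd.mpr
        (Nat.not_dvd_ordCompl hp.out (orderOf_pos x).ne')).symm
    have hfix := ConjFunctor.commute_of_factors hP' hy
      (fun U V hUV hU => K.pow_mem hx _ U V hUV hU) inferInstance le_rfl
    refine mem_centralizer_iff.mpr fun z hz => ?_
    exact congrArg Subtype.val (hfix ⟨z, le_normalizer hz⟩ hz).eq.symm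
  have hgK : (⟨g, hg⟩ : ↥H) ∉ K := fun h => hbad
    (LocalEvenA.le_pCore_of_normal (Normal.map hKn q (QuotientGroup.mk'_surjective _)) hKp
      (mem_map_of_mem q h))
  obtain ⟨U, V, hUV, hU, hgUV⟩ : ∃ U V : Subgroup ↥H, Cfsg.IsChiefFactor U V ∧
      U ≤ P.subgroupOf H ∧ ¬ ∀ u ∈ U, ⁅(⟨g, hg⟩ : ↥H), u⁆ ∈ V := by
    by_contra hcon
    push Not at hcon
    exact hgK hcon
  haveI := hUV.2.2.1
  refine exists_section_of_factor hp2 hUV (hP'.to_le hU)
    ((commutator_mono (commutator_mono hU le_rfl) le_rfl).trans (hcom'.le.trans bot_le))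
    (fun h => hgUV (ConjFunctor.mem_factorKer.mp h)) _ ?_
  intro c hc
  refine mem_centralizer_iff.mpr fun u hu => Subtype.ext ?_
  exact mem_centralizer_iff.mp hc (u : X) (hU hu)

/-- `SL(2, p)`-freeness of the automizers of `p`-subgroups gives stability of all sections. -/
theorem stable_sections_of_automizer_free (hp2 : p ≠ 2)
    (h : ∀ P : Subgroup X, IsPGroup p ↥P → ¬ Cfsg.Involves SL(2, ZMod p)
      (↥(normalizer ((P : Subgroup X) : Set X)) ⧸
        (centralizer (P : Set X)).subgroupOf (normalizer ((P : Subgroup X) : Set X))))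
    (K R : Subgroup X) [hR : (R.subgroupOf K).Normal] :
    Cfsg.IsNormalizerPStable p (↥K ⧸ R.subgroupOf K) := by
  intro P hP g hg hcom
  by_contra hbad
  have h1 := involves_mod_of_not_pStable hp2 hP hg hcom hbad
  set qR := QuotientGroup.mk' (R.subgroupOf K)
  set Pt := P.comap qR
  obtain ⟨T, hT⟩ := ConjFunctor.exists_isSylIn (p := p) Pt
  have hTP : T.map qR = P := by
    refine eq_of_le_of_card_ge ?_ ?_
    · rw [map_le_iff_le_comap]; exact hT.1
    · obtain ⟨j, hj⟩ := (hP.to_le (by rw [map_le_iff_le_comap]; exact hT.1 :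
        T.map qR ≤ P)).exists_card_eq
      obtain ⟨i, hi⟩ := hP.exists_card_eq
      have hdvd : (T.map qR).relIndex P ∣ T.relIndex Pt := by
        rw [← map_comap_eq_self_of_surjective (QuotientGroup.mk'_surjective (R.subgroupOf K)) P]
        exact Coprime23.relIndex_map_dvd qR T Pt
      have h2 : (T.map qR).relIndex P = 1 := by
        obtain ⟨l, -, hl⟩ := (Nat.dvd_prime_pow hp.out).mp
          (hi ▸ relIndex_dvd_card (T.map qR) P)
        rcases Nat.eq_zero_or_pos l with rfl | hl0
        · rw [hl, pow_zero]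
        · exact absurd (((dvd_pow_self p hl0.ne').trans hl.symm.dvd).trans hdvd) hT.2.2
      exact card_le_of_le (relIndex_eq_one.mp h2)
  refine h (T.map K.subtype) (hT.2.1.map _) ?_
  -- the normalizer of the Sylow subgroup of the preimage covers the normalizer
  have hsurj : ∀ y ∈ normalizer (P : Set (↥K ⧸ R.subgroupOf K)),
      ∃ x ∈ normalizer (T : Set ↥K), qR x = y := by
    intro y hy
    obtain ⟨x, rfl⟩ := QuotientGroup.mk'_surjective (R.subgroupOf K) y
    have hx : ConjFunctor.cj x T ≤ Pt := by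
      rintro _ ⟨t, ht, rfl⟩
      show qR (x * t * x⁻¹) ∈ P
      rw [map_mul, map_mul, map_inv]
      exact (mem_normalizer_iff.mp hy _).mp (hT.1 ht)
    obtain ⟨c, hc, hle⟩ := ConjFunctor.exists_conj_le_of_isSylIn hT hx
      (ConjFunctor.cj_isPGroup x hT.2.1)
    have heq : ConjFunctor.cj (c * x) T = T := by
      rw [ConjFunctor.cj_mul]
      exact eq_of_le_of_card_ge hle (by rw [ConjFunctor.cj_card, ConjFunctor.cj_card])
    obtain ⟨t, ht, hte⟩ : ∃ t ∈ T, qR t = qR c := by
      have : qR c ∈ P := hc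
      rwa [← hTP] at this
    refine ⟨t⁻¹ * (c * x), mul_mem (inv_mem (le_normalizer ht))
      (ConjFunctor.cj_eq_iff.mp heq), ?_⟩
    rw [map_mul, map_inv, hte, map_mul, inv_mul_cancel_left]
  set N := normalizer (T : Set ↥K)
  let f : ↥N →* ↥(normalizer (P : Set (↥K ⧸ R.subgroupOf K))) :=
    (qR.comp N.subtype).codRestrict _ fun x => by
      have := le_normalizer_map qR (mem_map_of_mem qR x.2)
      rwa [hTP] at this
  have hf : Function.Surjective f := by
    rintro ⟨y, hy⟩
    obtain ⟨x, hx, hxy⟩ := hsurj y hy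
    exact ⟨⟨x, hx⟩, Subtype.ext hxy⟩
  let ι : ↥N →* ↥(normalizer ((T.map K.subtype : Subgroup X) : Set X)) :=
    (K.subtype.comp N.subtype).codRestrict _ fun x => le_normalizer_map K.subtype
      (mem_map_of_mem K.subtype x.2)
  set CP := (centralizer (P : Set (↥K ⧸ R.subgroupOf K))).subgroupOf
    (normalizer (P : Set (↥K ⧸ R.subgroupOf K)))
  set CX := (centralizer ((T.map K.subtype : Subgroup X) : Set X)).subgroupOf
    (normalizer ((T.map K.subtype : Subgroup X) : Set X))
  set ψ : ↥N →* ↥(normalizer (P : Set (↥K ⧸ R.subgroupOf K))) ⧸ CP :=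
    (QuotientGroup.mk' CP).comp f with hψ
  set φ := (QuotientGroup.mk' CX).comp ι with hφ
  have hψs : Function.Surjective ψ := (QuotientGroup.mk'_surjective CP).comp hf
  have hker : φ.rangeRestrict.ker ≤ ψ.ker := by
    intro x hx
    have hx' : φ x = 1 := congrArg Subtype.val hx
    rw [hφ, MonoidHom.comp_apply, QuotientGroup.mk'_apply, QuotientGroup.eq_one_iff] at hx'
    rw [MonoidHom.mem_ker, hψ, MonoidHom.comp_apply, QuotientGroup.mk'_apply,
      QuotientGroup.eq_one_iff]
    refine mem_subgroupOf.mpr (mem_centralizer_iff.mpr fun z hz => ?_)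
    rw [← hTP] at hz
    obtain ⟨t, ht, rfl⟩ := hz
    have hc : (t : X) * ((x : ↥K) : X) = ((x : ↥K) : X) * (t : X) :=
      mem_centralizer_iff.mp hx' (t : X) (mem_map_of_mem K.subtype ht)
    show qR t * qR (x : ↥K) = qR (x : ↥K) * qR t
    rw [← map_mul, ← map_mul, show (t : ↥K) * x = (x : ↥K) * t from Subtype.ext hc]
  exact involves_trans (M := φ.range)
    (MonoidHom.liftOfSurjective φ.rangeRestrict φ.rangeRestrict_surjective ⟨ψ, hker⟩)
    (fun y => by
      obtain ⟨m, rfl⟩ := hψs y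
      exact ⟨φ.rangeRestrict m, MonoidHom.liftOfRightInverse_comp_apply _ _ _ ⟨ψ, hker⟩ m⟩) h1

/-- Involvement in `N/C` gives a section of `N` over `C`. -/
theorem exists_section_of_involves_mod {B : Type v} [Group B] {N C : Subgroup X}
    [(C.subgroupOf N).Normal] (hCN : C ≤ N)
    (h : Cfsg.Involves B (↥N ⧸ C.subgroupOf N)) :
    ∃ (H K : Subgroup X) (_ : (K.subgroupOf H).Normal), C ≤ K ∧ K ≤ H ∧ H ≤ N ∧
      Nonempty ((↥H ⧸ K.subgroupOf H) ≃* B) := by
  obtain ⟨K₁, R₁, hR₁, ⟨e⟩⟩ := h
  haveI := hR₁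
  set q := QuotientGroup.mk' (C.subgroupOf N)
  set H := (K₁.comap q).map N.subtype with hH
  have hHN : H ≤ N := map_subtype_le _
  have hq : ∀ x : ↥H, q (inclusion hHN x) ∈ K₁ := fun x => by
    obtain ⟨y, hy, hyx⟩ := x.2
    have : inclusion hHN x = y := Subtype.ext hyx.symm
    rw [this]; exact hy
  let g : ↥H →* B := (e.toMonoidHom.comp (QuotientGroup.mk' (R₁.subgroupOf K₁))).comp
    ((q.comp (inclusion hHN)).codRestrict K₁ hq)
  have hg : Function.Surjective g := by
    intro b
    obtain ⟨k, hk⟩ := QuotientGroup.mk'_surjective (R₁.subgroupOf K₁) (e.symm b)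
    obtain ⟨n, hn⟩ := QuotientGroup.mk'_surjective (C.subgroupOf N) (k : ↥N ⧸ C.subgroupOf N)
    refine ⟨⟨n, mem_map_of_mem N.subtype (show q n ∈ K₁ from hn.symm ▸ k.2)⟩, ?_⟩
    show e (QuotientGroup.mk' _ _) = b
    rw [← e.apply_symm_apply b, ← hk]
    exact congrArg _ (congrArg _ (Subtype.ext hn))
  have hs : (g.ker.map H.subtype).subgroupOf H = g.ker :=
    comap_map_eq_self_of_injective H.subtype_injective _
  have hn : ((g.ker.map H.subtype).subgroupOf H).Normal := by rw [hs]; infer_instance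
  haveI := hn
  refine ⟨H, g.ker.map H.subtype, hn, ?_, map_subtype_le _, hHN,
    ⟨(QuotientGroup.quotientMulEquivOfEq hs).trans
      (QuotientGroup.quotientKerEquivOfSurjective g hg)⟩⟩
  intro c hc
  have hc1 : q ⟨c, hCN hc⟩ = 1 := (QuotientGroup.eq_one_iff _).mpr hc
  have hcH : c ∈ H := ⟨⟨c, hCN hc⟩, show q _ ∈ K₁ from hc1 ▸ one_mem _, rfl⟩
  refine ⟨⟨c, hcH⟩, ?_, rfl⟩
  rw [SetLike.mem_coe, MonoidHom.mem_ker]
  show e (QuotientGroup.mk' _ _) = 1
  rw [show ((q.comp (inclusion hHN)).codRestrict K₁ hq) ⟨c, hcH⟩ = 1 from Subtype.ext hc1,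
    map_one, map_one]

end Cfsg.Agent.SL2Dickson
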