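import Cfsg.Agent.Lib.SL2Dickson.Natural

/-!
# Subgroups of SL(2) with several Sylow subgroups
-/

set_option autoImplicit false
set_option linter.style.haveILetI false
set_option linter.unusedSectionVars false
set_option linter.unusedVariables false

namespace Cfsg.Agent.SL2Dickson

open Matrix
open scoped MatrixGroups

variable {F : Type*} [Field F] {p : ℕ} [hp : Fact p.Prime] [CharP F p]

theorem isUnip_of_pPow {h : SL(2, F)} {k : ℕ} (hk : h ^ p ^ k = 1) : IsUnip h := by
  have hnil : IsNilpotent (h.1 - 1) := by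
    refine ⟨p ^ k, ?_⟩
    haveI : CharP (Matrix (Fin 2) (Fin 2) F) p :=
      charP_of_injective_ringHom (f := Matrix.scalar (Fin 2))
        (fun a b e => by simpa using congrFun (congrFun e 0) 0) p
    rw [sub_pow_char_pow_of_commute (p := p) (n := k) (Commute.one_right h.1), one_pow,
      ← Matrix.SpecialLinearGroup.coe_pow, hk, Matrix.SpecialLinearGroup.coe_one, sub_self]
  have h1 := (Matrix.isNilpotent_trace_of_isNilpotent hnil).eq_zero
  simp only [Matrix.trace_fin_two, Matrix.sub_apply, Matrix.one_apply_eq] at h1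
  have hd := det_eq h
  have ht : h.1 1 1 = 2 - h.1 0 0 := by linear_combination h1
  rw [ht] at hd
  unfold IsUnip
  ext i j
  fin_cases i <;> fin_cases j <;> simp [Matrix.mul_apply, Fin.sum_univ_two, ht]
  · linear_combination -hd
  · ring
  · ring
  · linear_combination -hd

/-- Two transvections whose product has trace `2` commute. -/
theorem commute_of_tr_two (h2 : (2 : F) ≠ 0) {a b : SL(2, F)} (ha : IsUnip a) (hb : IsUnip b)
    (hab : tr (a * b) = 2) : a * b = b * a := by
  have h1 := ha.tr_eq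
  have h3 := hb.tr_eq
  have hd := det_eq a
  have hd' := det_eq b
  simp only [tr] at h1 h3
  have e1 : a.1 1 1 = 2 - a.1 0 0 := by linear_combination h1
  have e2 : b.1 1 1 = 2 - b.1 0 0 := by linear_combination h3
  rw [e1] at hd
  rw [e2] at hd'
  simp [tr, Matrix.mul_apply, Fin.sum_univ_two, e1, e2] at hab
  set α := a.1 0 0 - 1 with hα
  set α' := b.1 0 0 - 1 with hα'
  have hq : α ^ 2 + a.1 0 1 * a.1 1 0 = 0 := by rw [hα]; linear_combination -hd
  have hq' : α' ^ 2 + b.1 0 1 * b.1 1 0 = 0 := by rw [hα']; linear_combination -hd'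
  have hs : 2 * α * α' + a.1 0 1 * b.1 1 0 + a.1 1 0 * b.1 0 1 = 0 := by
    rw [hα, hα']; linear_combination hab
  have k1 : a.1 0 1 * b.1 1 0 - a.1 1 0 * b.1 0 1 = 0 := pow_eq_zero_iff two_ne_zero |>.mp (by
    linear_combination (a.1 0 1 * b.1 1 0 + a.1 1 0 * b.1 0 1 - 2 * α * α') * hs
      - 4 * a.1 0 1 * a.1 1 0 * hq' + 4 * α' ^ 2 * hq)
  have k2 : α * b.1 0 1 - a.1 0 1 * α' = 0 := pow_eq_zero_iff two_ne_zero |>.mp (by
    linear_combination (b.1 0 1) ^ 2 * hq + (a.1 0 1) ^ 2 * hq' - a.1 0 1 * b.1 0 1 * hs)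
  have k3 : α * b.1 1 0 - a.1 1 0 * α' = 0 := pow_eq_zero_iff two_ne_zero |>.mp (by
    linear_combination (b.1 1 0) ^ 2 * hq + (a.1 1 0) ^ 2 * hq' - a.1 1 0 * b.1 1 0 * hs)
  apply Subtype.ext
  ext i j
  fin_cases i <;> fin_cases j <;> simp [Matrix.mul_apply, Fin.sum_univ_two, e1, e2]
  · linear_combination k1
  · rw [hα, hα'] at k2; linear_combination 2 * k2
  · rw [hα, hα'] at k3; linear_combination -2 * k3
  · linear_combination -k1

/-- A subgroup with more than one Sylow subgroup contains two transvections with different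
axes. -/
theorem exists_pair_of_sylow (hp2 : p ≠ 2) {H : Subgroup SL(2, F)} [Finite H]
    (hH : 1 < Nat.card (Sylow p H)) :
    ∃ a b : SL(2, F), a ∈ H ∧ b ∈ H ∧ IsUnip a ∧ IsUnip b ∧ tr (a * b) ≠ 2 := by
  have h2 : (2 : F) ≠ 0 := fun e => hp2 (by
    have h : ((2 : ℕ) : F) = 0 := by simpa using e
    rw [CharP.cast_eq_zero_iff F p] at h
    exact (Nat.prime_dvd_prime_iff_eq hp.out Nat.prime_two).mp h)
  haveI : Nontrivial (Sylow p H) := Finite.one_lt_card_iff_nontrivial.mp hH
  obtain ⟨P, Q, hPQ⟩ := exists_pair_ne (Sylow p H)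
  by_contra hcon
  push Not at hcon
  have hu : ∀ (R : Sylow p H), ∀ x ∈ (R : Subgroup ↥H), IsUnip (x : SL(2, F)) := fun R x hx => by
    obtain ⟨k, hk⟩ := R.2 ⟨x, hx⟩
    exact isUnip_of_pPow (p := p) (k := k) (by
      have := congrArg (fun y : ↥(R : Subgroup ↥H) => ((y : ↥H) : SL(2, F))) hk
      simpa using this)
  have hle : (P : Subgroup ↥H) ≤ Subgroup.normalizer ((Q : Subgroup ↥H) : Set ↥H) := by
    refine le_trans (fun x hx => Subgroup.mem_centralizer_iff.mpr fun y hy => ?_)
      (Subgroup.centralizer_le_normalizer _)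
    exact Subtype.ext (commute_of_tr_two h2 (hu Q y hy) (hu P x hx)
      (hcon _ _ y.2 x.2 (hu Q y hy) (hu P x hx)))
  have h1 := P.2.to_sup_of_normal_right' Q.2 hle
  exact hPQ (Sylow.ext ((P.3 h1 le_sup_left).symm.trans (Q.3 h1 le_sup_right)))

/-- **Dickson**: a finite subgroup of `SL(2)` with several Sylow subgroups contains `SL(2, p)`. -/
theorem exists_subgroup_sl_two_prime (hp2 : p ≠ 2) {H : Subgroup SL(2, F)} [Finite H]
    {a b : SL(2, F)} (ha : a ∈ H) (hb : b ∈ H) (hau : IsUnip a) (hbu : IsUnip b)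
    (hab : tr (a * b) ≠ 2) :
    ∃ K : Subgroup SL(2, F), K ≤ H ∧ Nonempty (↥K ≃* SL(2, ZMod p)) := by
  let L := AlgebraicClosure F
  let f : SL(2, F) →* SL(2, L) := Matrix.SpecialLinearGroup.map (algebraMap F L)
  have hinj : Function.Injective (algebraMap F L) := (algebraMap F L).injective
  have hf : Function.Injective f := fun x y e =>
    Subtype.ext (Matrix.map_injective hinj (congrArg Subtype.val e))
  haveI : CharP L p := charP_of_injective_algebraMap hinj p
  haveI : Finite (H.map f) := ((Set.toFinite (H : Set SL(2, F))).image f).to_subtype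
  have hfu : ∀ h : SL(2, F), IsUnip h → IsUnip (f h) := by
    intro h hh
    have e : (f h).1 - 1 = (algebraMap F L).mapMatrix (h.1 - 1) := by
      rw [map_sub, map_one]; rfl
    unfold IsUnip at hh ⊢
    rw [e, ← map_mul, hh, map_zero]
  obtain ⟨g, hg⟩ := exists_sl_two_prime (p := p) hp2 (H := H.map f) ⟨a, ha, rfl⟩ ⟨b, hb, rfl⟩
    (hfu a hau) (hfu b hbu) (by
      rw [← map_mul, show tr (f (a * b)) = algebraMap F L (tr (a * b)) by simp [tr, f, Matrix.mul_apply],
        show (2 : L) = algebraMap F L 2 by simp [map_ofNat]]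
      exact fun e => hab (hinj e))
  let ψ : SL(2, ZMod p) →* SL(2, L) :=
    (MulAut.conj g⁻¹).toMonoidHom.comp (Matrix.SpecialLinearGroup.map (ZMod.castHom (dvd_refl p) L))
  have hψ : Function.Injective ψ := by
    intro q q' e
    exact Subtype.ext (Matrix.map_injective (ZMod.castHom (dvd_refl p) L).injective
      (congrArg Subtype.val ((MulAut.conj g⁻¹).injective e)))
  have hr : ψ.range ≤ H.map f := by
    rintro _ ⟨q, rfl⟩
    simpa [ψ] using hg q
  refine ⟨ψ.range.comap f, fun x hx => ?_, ⟨?_⟩⟩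
  · exact (Subgroup.mem_map_iff_mem hf).mp (hr hx)
  · have he : (ψ.range.comap f).map f = ψ.range :=
      Subgroup.map_comap_eq_self (hr.trans (Subgroup.map_le_range f H))
    exact ((ψ.range.comap f).equivMapOfInjective f hf).trans
      ((MulEquiv.subgroupCongr he).trans (MonoidHom.ofInjective hψ).symm)

end Cfsg.Agent.SL2Dickson
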